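import Cfsg.Agent.G2Zorn.InvolCentralizer
import Mathlib

/-!
The automorphism group of Zorn's algebra is transitive on vectors of trace one with a given norm.
-/

set_option autoImplicit false

namespace Cfsg.Agent.Covering2.Octonion

open Matrix Cfsg.Lie

variable {F : Type} [Field F]

/-- The norm. -/
def nrm (x : Fin 8 → F) : F := x 0 * x 7 - (x 1 * x 4 + x 2 * x 5 + x 3 * x 6)

/-- The trace. -/
def tr (x : Fin 8 → F) : F := x 0 + x 7

/-- The identity element. -/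
def one : Fin 8 → F := ![1, 0, 0, 0, 0, 0, 0, 1]

theorem ext8 {x y : Fin 8 → F} (h0 : x 0 = y 0) (h1 : x 1 = y 1) (h2 : x 2 = y 2) (h3 : x 3 = y 3)
    (h4 : x 4 = y 4) (h5 : x 5 = y 5) (h6 : x 6 = y 6) (h7 : x 7 = y 7) : x = y := by
  funext i
  match i with
  | 0 => exact h0
  | 1 => exact h1
  | 2 => exact h2
  | 3 => exact h3
  | 4 => exact h4
  | 5 => exact h5
  | 6 => exact h6
  | 7 => exact h7

theorem zornMul_0 (x y : Fin 8 → F) : zornMul x y 0 = x 0 * y 0 + (x 1 * y 4 + x 2 * y 5 + x 3 * y 6) := rfl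
theorem zornMul_1 (x y : Fin 8 → F) : zornMul x y 1 = x 0 * y 1 + y 7 * x 1 - (x 5 * y 6 - x 6 * y 5) := rfl
theorem zornMul_2 (x y : Fin 8 → F) : zornMul x y 2 = x 0 * y 2 + y 7 * x 2 - (x 6 * y 4 - x 4 * y 6) := rfl
theorem zornMul_3 (x y : Fin 8 → F) : zornMul x y 3 = x 0 * y 3 + y 7 * x 3 - (x 4 * y 5 - x 5 * y 4) := rfl
theorem zornMul_4 (x y : Fin 8 → F) : zornMul x y 4 = y 0 * x 4 + x 7 * y 4 + (x 2 * y 3 - x 3 * y 2) := rfl
theorem zornMul_5 (x y : Fin 8 → F) : zornMul x y 5 = y 0 * x 5 + x 7 * y 5 + (x 3 * y 1 - x 1 * y 3) := rfl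
theorem zornMul_6 (x y : Fin 8 → F) : zornMul x y 6 = y 0 * x 6 + x 7 * y 6 + (x 1 * y 2 - x 2 * y 1) := rfl
theorem zornMul_7 (x y : Fin 8 → F) : zornMul x y 7 = (x 4 * y 1 + x 5 * y 2 + x 6 * y 3) + x 7 * y 7 := rfl

theorem one_0 : (one : Fin 8 → F) 0 = 1 := rfl
theorem one_1 : (one : Fin 8 → F) 1 = 0 := rfl
theorem one_2 : (one : Fin 8 → F) 2 = 0 := rfl
theorem one_3 : (one : Fin 8 → F) 3 = 0 := rfl
theorem one_4 : (one : Fin 8 → F) 4 = 0 := rfl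
theorem one_5 : (one : Fin 8 → F) 5 = 0 := rfl
theorem one_6 : (one : Fin 8 → F) 6 = 0 := rfl
theorem one_7 : (one : Fin 8 → F) 7 = 1 := rfl

theorem mul_one' (x : Fin 8 → F) : zornMul x one = x := by
  refine ext8 ?_ ?_ ?_ ?_ ?_ ?_ ?_ ?_ <;>
    simp only [zornMul_0, zornMul_1, zornMul_2, zornMul_3, zornMul_4, zornMul_5, zornMul_6, zornMul_7,
      one_0, one_1, one_2, one_3, one_4, one_5, one_6, one_7] <;> ring

theorem one_mul' (x : Fin 8 → F) : zornMul one x = x := by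
  refine ext8 ?_ ?_ ?_ ?_ ?_ ?_ ?_ ?_ <;>
    simp only [zornMul_0, zornMul_1, zornMul_2, zornMul_3, zornMul_4, zornMul_5, zornMul_6, zornMul_7,
      one_0, one_1, one_2, one_3, one_4, one_5, one_6, one_7] <;> ring

theorem sq_eq (x : Fin 8 → F) : zornMul x x = tr x • x - nrm x • one := by
  refine ext8 ?_ ?_ ?_ ?_ ?_ ?_ ?_ ?_ <;>
    simp only [zornMul_0, zornMul_1, zornMul_2, zornMul_3, zornMul_4, zornMul_5, zornMul_6, zornMul_7,
      one_0, one_1, one_2, one_3, one_4, one_5, one_6, one_7, Pi.sub_apply, Pi.smul_apply, smul_eq_mul,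
      tr, nrm] <;> ring

/-- The action of an automorphism. -/
def ap (g : Lie.G2 F) (x : Fin 8 → F) : Fin 8 → F :=
  (Units.coeHom (Matrix (Fin 8) (Fin 8) F) g.1) *ᵥ x

theorem ap_mul (g h : Lie.G2 F) (x : Fin 8 → F) : ap (g * h) x = ap g (ap h x) := by
  simp [ap, mulVec_mulVec]

theorem ap_one (x : Fin 8 → F) : ap (1 : Lie.G2 F) x = x := by simp [ap]

theorem ap_inv (g : Lie.G2 F) (x : Fin 8 → F) : ap g⁻¹ (ap g x) = x := by
  rw [← ap_mul, inv_mul_cancel, ap_one]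

theorem ap_inv' (g : Lie.G2 F) (x : Fin 8 → F) : ap g (ap g⁻¹ x) = x := by
  rw [← ap_mul, mul_inv_cancel, ap_one]

theorem ap_zornMul (g : Lie.G2 F) (x y : Fin 8 → F) : ap g (zornMul x y) = zornMul (ap g x) (ap g y) := g.2 x y

theorem ap_add (g : Lie.G2 F) (x y : Fin 8 → F) : ap g (x + y) = ap g x + ap g y := mulVec_add _ _ _

theorem ap_sub (g : Lie.G2 F) (x y : Fin 8 → F) : ap g (x - y) = ap g x - ap g y := mulVec_sub _ _ _

theorem ap_smul (g : Lie.G2 F) (c : F) (x : Fin 8 → F) : ap g (c • x) = c • ap g x := mulVec_smul _ _ _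

theorem ap_fix_one (g : Lie.G2 F) : ap g one = one := by
  have h := ap_zornMul g one (ap g⁻¹ one)
  rw [one_mul', ap_inv'] at h
  exact ((mul_one' (ap g one)).symm.trans h.symm)

theorem invariant (g : Lie.G2 F) (x : Fin 8 → F) : tr (ap g x) = tr x ∧ nrm (ap g x) = nrm x := by
  by_cases hx : ∃ c : F, x = c • one
  · obtain ⟨c, rfl⟩ := hx
    rw [ap_smul, ap_fix_one]
    exact ⟨rfl, rfl⟩
  have h := ap_zornMul g x x
  rw [sq_eq, sq_eq, ap_sub, ap_smul, ap_smul, ap_fix_one] at h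
  have ht : tr (ap g x) = tr x := by
    by_contra hne
    apply hx
    have h1 : (tr (ap g x) - tr x) • ap g x = (nrm (ap g x) - nrm x) • (one : Fin 8 → F) := by
      funext i
      have := congrFun h i
      simp only [Pi.sub_apply, Pi.smul_apply, smul_eq_mul] at this ⊢
      linear_combination -this
    have h2 : ap g x = ((tr (ap g x) - tr x)⁻¹ * (nrm (ap g x) - nrm x)) • (one : Fin 8 → F) := by
      rw [← smul_smul, ← h1, smul_smul, inv_mul_cancel₀ (sub_ne_zero.2 hne), one_smul]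
    refine ⟨(tr (ap g x) - tr x)⁻¹ * (nrm (ap g x) - nrm x), ?_⟩
    calc x = ap g⁻¹ (ap g x) := (ap_inv g x).symm
      _ = _ := by
        conv_lhs => rw [h2]
        rw [ap_smul, ap_fix_one]
  refine ⟨ht, ?_⟩
  rw [ht] at h
  have h0 := congrFun h 0
  simp only [Pi.sub_apply, Pi.smul_apply, smul_eq_mul, one_0, mul_one] at h0
  linear_combination h0

/-- Cyclic permutation of the three indices. -/
def rot (x : Fin 8 → F) : Fin 8 → F := ![x 0, x 2, x 3, x 1, x 5, x 6, x 4, x 7]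

theorem rot_0 (x : Fin 8 → F) : rot x 0 = x 0 := rfl
theorem rot_1 (x : Fin 8 → F) : rot x 1 = x 2 := rfl
theorem rot_2 (x : Fin 8 → F) : rot x 2 = x 3 := rfl
theorem rot_3 (x : Fin 8 → F) : rot x 3 = x 1 := rfl
theorem rot_4 (x : Fin 8 → F) : rot x 4 = x 5 := rfl
theorem rot_5 (x : Fin 8 → F) : rot x 5 = x 6 := rfl
theorem rot_6 (x : Fin 8 → F) : rot x 6 = x 4 := rfl
theorem rot_7 (x : Fin 8 → F) : rot x 7 = x 7 := rfl

theorem exists_rot : ∃ g : Lie.G2 F, ∀ x, ap g x = rot x := by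
  let L : (Fin 8 → F) →ₗ[F] (Fin 8 → F) :=
    { toFun := rot
      map_add' := fun x y => ext8 rfl rfl rfl rfl rfl rfl rfl rfl
      map_smul' := fun c x => ext8 rfl rfl rfl rfl rfl rfl rfl rfl }
  have h3 : ∀ x : Fin 8 → F, rot (rot (rot x)) = x := fun x => ext8 rfl rfl rfl rfl rfl rfl rfl rfl
  let M := LinearMap.toMatrix' L
  have hM : ∀ x, M *ᵥ x = rot x := fun x => LinearMap.toMatrix'_mulVec L x
  have hMMM : M * (M * M) = 1 := Matrix.ext_iff_mulVec.2 fun x => by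
    rw [← mulVec_mulVec, ← mulVec_mulVec, hM, hM, hM, h3, one_mulVec]
  have hMMM' : M * M * M = 1 := by rw [mul_assoc, hMMM]
  refine ⟨⟨⟨M, M * M, hMMM, hMMM'⟩, fun x y => ?_⟩, hM⟩
  show M *ᵥ zornMul x y = zornMul (M *ᵥ x) (M *ᵥ y)
  rw [hM, hM, hM]
  refine ext8 ?_ ?_ ?_ ?_ ?_ ?_ ?_ ?_ <;>
    simp only [zornMul_0, zornMul_1, zornMul_2, zornMul_3, zornMul_4, zornMul_5, zornMul_6, zornMul_7,
      rot_0, rot_1, rot_2, rot_3, rot_4, rot_5, rot_6, rot_7] <;> ring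

/-- The effect of the special linear group on the second quaternion component. -/
def mixB (a b c d : F) (x : Fin 8 → F) : Fin 8 → F :=
  ![x 0, x 1, a * x 2 + b * x 3, c * x 2 + d * x 3, x 4, d * x 5 - c * x 6, a * x 6 - b * x 5, x 7]

theorem mixB_0 (a b c d : F) (x : Fin 8 → F) : mixB a b c d x 0 = x 0 := rfl
theorem mixB_1 (a b c d : F) (x : Fin 8 → F) : mixB a b c d x 1 = x 1 := rfl
theorem mixB_2 (a b c d : F) (x : Fin 8 → F) : mixB a b c d x 2 = a * x 2 + b * x 3 := rfl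
theorem mixB_3 (a b c d : F) (x : Fin 8 → F) : mixB a b c d x 3 = c * x 2 + d * x 3 := rfl
theorem mixB_4 (a b c d : F) (x : Fin 8 → F) : mixB a b c d x 4 = x 4 := rfl
theorem mixB_5 (a b c d : F) (x : Fin 8 → F) : mixB a b c d x 5 = d * x 5 - c * x 6 := rfl
theorem mixB_6 (a b c d : F) (x : Fin 8 → F) : mixB a b c d x 6 = a * x 6 - b * x 5 := rfl
theorem mixB_7 (a b c d : F) (x : Fin 8 → F) : mixB a b c d x 7 = x 7 := rfl

theorem enc_eq (M Y : Matrix (Fin 2) (Fin 2) F) :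
    G2Zorn.enc M Y = ![M 0 0, M 0 1, Y 0 0, Y 1 0, M 1 0, -(Y 1 1), Y 0 1, M 1 1] := rfl

theorem exists_mixB {a b c d : F} (h : a * d - b * c = 1) : ∃ g : Lie.G2 F, ∀ x, ap g x = mixB a b c d x := by
  let B : GL (Fin 2) F := Matrix.GeneralLinearGroup.mkOfDetNeZero !![a, b; c, d]
    (by rw [Matrix.det_fin_two_of, h]; exact one_ne_zero)
  have hp : ((1 : GL (Fin 2) F), B) ∈ G2Zorn.Xg F := by
    rw [G2Zorn.mem_Xg]
    show (1 : Matrix (Fin 2) (Fin 2) F).det = (!![a, b; c, d] : Matrix (Fin 2) (Fin 2) F).det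
    rw [Matrix.det_one, Matrix.det_fin_two_of, h]
  refine ⟨⟨G2Zorn.Φ ((1 : GL (Fin 2) F), B), G2Zorn.Φ_mem hp⟩, fun x => ?_⟩
  refine (G2Zorn.Φ_mulVec ((1 : GL (Fin 2) F), B) x).trans ?_
  have hact : G2Zorn.act ((1 : GL (Fin 2) F), B) x =
      G2Zorn.enc (G2Zorn.mH x) ((!![a, b; c, d] : Matrix (Fin 2) (Fin 2) F) * G2Zorn.mY x) := by
    simp only [G2Zorn.act, inv_one, Units.val_one, Matrix.one_mul, Matrix.mul_one]
    rfl
  rw [hact]
  have hY : (!![a, b; c, d] : Matrix (Fin 2) (Fin 2) F) * G2Zorn.mY x =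
      !![a * x 2 + b * x 3, a * x 6 - b * x 5; c * x 2 + d * x 3, c * x 6 - d * x 5] := by
    rw [G2Zorn.mY, Matrix.mul_fin_two]
    simp only [mul_neg, sub_eq_add_neg]
  rw [hY]
  rw [enc_eq]
  refine ext8 ?_ ?_ ?_ ?_ ?_ ?_ ?_ ?_ <;>
    simp [G2Zorn.mH, mixB_0, mixB_1, mixB_2, mixB_3, mixB_4, mixB_5, mixB_6, mixB_7]

/-- The effect of a pair of matrices of equal determinant. -/
theorem exists_conj (P : Matrix (Fin 2) (Fin 2) F) (hP : P.det ≠ 0) :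
    ∃ g : Lie.G2 F, ∀ x, ap g x = G2Zorn.enc (P * G2Zorn.mH x * P⁻¹) (!![P.det, 0; 0, 1] * G2Zorn.mY x * P⁻¹) := by
  let A : GL (Fin 2) F := Matrix.GeneralLinearGroup.mkOfDetNeZero P hP
  let B : GL (Fin 2) F := Matrix.GeneralLinearGroup.mkOfDetNeZero !![P.det, 0; 0, 1]
    (by rw [Matrix.det_fin_two_of]; simpa using hP)
  have hp : (A, B) ∈ G2Zorn.Xg F := by
    rw [G2Zorn.mem_Xg]
    show P.det = (!![P.det, 0; 0, 1] : Matrix (Fin 2) (Fin 2) F).det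
    rw [Matrix.det_fin_two_of]; ring
  refine ⟨⟨G2Zorn.Φ (A, B), G2Zorn.Φ_mem hp⟩, fun x => ?_⟩
  refine (G2Zorn.Φ_mulVec (A, B) x).trans ?_
  simp only [G2Zorn.act, Matrix.coe_units_inv]
  rfl

/-- The orbit relation. -/
def Rel (x y : Fin 8 → F) : Prop := ∃ g : Lie.G2 F, ap g x = y

theorem Rel.trans {x y z : Fin 8 → F} (h : Rel x y) (h' : Rel y z) : Rel x z := by
  obtain ⟨g, rfl⟩ := h
  obtain ⟨g', rfl⟩ := h'
  exact ⟨g' * g, ap_mul _ _ _⟩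

theorem rel_rot (x : Fin 8 → F) : Rel x (rot x) :=
  let ⟨g, hg⟩ := exists_rot (F := F); ⟨g, hg x⟩

theorem rel_rot2 (x : Fin 8 → F) : Rel x (rot (rot x)) := (rel_rot x).trans (rel_rot _)

theorem rel_mixB {a b c d : F} (h : a * d - b * c = 1) (x : Fin 8 → F) : Rel x (mixB a b c d x) :=
  let ⟨g, hg⟩ := exists_mixB h; ⟨g, hg x⟩

theorem Rel.inv {x y : Fin 8 → F} (h : Rel x y) : tr y = tr x ∧ nrm y = nrm x := by
  obtain ⟨g, rfl⟩ := h; exact invariant g x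

theorem kill_two (x : Fin 8 → F) :
    ∃ y, Rel x y ∧ y 0 = x 0 ∧ y 1 = x 1 ∧ y 3 = 0 ∧ y 4 = x 4 ∧ y 7 = x 7 := by
  by_cases h : x 2 = 0
  · refine ⟨_, rel_mixB (a := 0) (b := 1) (c := -1) (d := 0) (by ring) x, mixB_0 .., mixB_1 .., ?_, mixB_4 .., mixB_7 ..⟩
    rw [mixB_3, h]; ring
  · refine ⟨_, rel_mixB (a := 1) (b := 0) (c := -(x 3 / x 2)) (d := 1) (by ring) x, mixB_0 .., mixB_1 .., ?_,
      mixB_4 .., mixB_7 ..⟩
    rw [mixB_3, neg_mul, div_mul_cancel₀ _ h]; ring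

theorem kill_a (x : Fin 8 → F) : ∃ y, Rel x y ∧ y 0 = x 0 ∧ y 7 = x 7 ∧ y 2 = 0 ∧ y 3 = 0 := by
  obtain ⟨y, hy, y0, -, y3, -, y7⟩ := kill_two x
  obtain ⟨z, hz, z0, z1, z3, -, z7⟩ := kill_two (rot (rot y))
  refine ⟨rot z, hy.trans ((rel_rot2 y).trans (hz.trans (rel_rot z))), ?_, ?_, ?_, ?_⟩
  · rw [rot_0, z0, rot_0, rot_0, y0]
  · rw [rot_7, z7, rot_7, rot_7, y7]
  · rw [rot_2, z3]
  · rw [rot_3, z1, rot_1, rot_2, y3]

theorem kill_b2 (x : Fin 8 → F) (h2 : x 2 = 0) (h3 : x 3 = 0) :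
    ∃ y, Rel x y ∧ y 0 = x 0 ∧ y 1 = x 1 ∧ y 2 = 0 ∧ y 3 = 0 ∧ y 4 = x 4 ∧ y 6 = 0 ∧ y 7 = x 7 := by
  by_cases h : x 5 = 0
  · refine ⟨_, rel_mixB (a := 0) (b := 1) (c := -1) (d := 0) (by ring) x, mixB_0 .., mixB_1 .., ?_, ?_,
      mixB_4 .., ?_, mixB_7 ..⟩
    · rw [mixB_2, h3]; ring
    · rw [mixB_3, h2]; ring
    · rw [mixB_6, h]; ring
  · refine ⟨_, rel_mixB (a := 1) (b := x 6 / x 5) (c := 0) (d := 1) (by ring) x, mixB_0 .., mixB_1 .., ?_, ?_,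
      mixB_4 .., ?_, mixB_7 ..⟩
    · rw [mixB_2, h2, h3]; ring
    · rw [mixB_3, h3]; ring
    · rw [mixB_6, div_mul_cancel₀ _ h]; ring

theorem kill_all_b (x : Fin 8 → F) (h1 : x 1 = 0) (h2 : x 2 = 0) (h3 : x 3 = 0) :
    ∃ y, Rel x y ∧ y 2 = 0 ∧ y 3 = 0 ∧ y 5 = 0 ∧ y 6 = 0 := by
  obtain ⟨y, hy, -, y1, y2, y3, -, y6, -⟩ := kill_b2 x h2 h3
  rw [h1] at y1
  obtain ⟨z, hz, -, z1, z2, z3, z4, z6, -⟩ := kill_b2 (rot (rot y))
    (by rw [rot_2, rot_3, y1]) (by rw [rot_3, rot_1, y2])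
  refine ⟨rot z, hy.trans ((rel_rot2 y).trans (hz.trans (rel_rot z))), ?_, ?_, ?_, ?_⟩
  · rw [rot_2, z3]
  · rw [rot_3, z1, rot_1, rot_2, y3]
  · rw [rot_5, z6]
  · rw [rot_6, z4, rot_4, rot_5, y6]

theorem rel_shear5 (x : Fin 8 → F) (t : F) :
    Rel x ![x 0, x 1 + t * x 2, x 2, x 3, x 4, x 5 - t * x 4, x 6, x 7] := by
  refine Eq.mp (congrArg (Rel x) ?_)
    ((rel_rot2 x).trans ((rel_mixB (a := 1) (b := t) (c := 0) (d := 1) (by ring) _).trans (rel_rot _)))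
  refine ext8 ?_ ?_ ?_ ?_ ?_ ?_ ?_ ?_ <;>
    simp only [rot_0, rot_1, rot_2, rot_3, rot_4, rot_5, rot_6, rot_7,
      mixB_0, mixB_1, mixB_2, mixB_3, mixB_4, mixB_5, mixB_6, mixB_7] <;>
    simp

theorem rel_shear6 (x : Fin 8 → F) (s : F) :
    Rel x ![x 0, x 1 + s * x 3, x 2, x 3, x 4, x 5, x 6 - s * x 4, x 7] := by
  refine Eq.mp (congrArg (Rel x) ?_)
    ((rel_rot x).trans ((rel_mixB (a := 1) (b := 0) (c := s) (d := 1) (by ring) _).trans (rel_rot2 _)))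
  refine ext8 ?_ ?_ ?_ ?_ ?_ ?_ ?_ ?_ <;>
    simp only [rot_0, rot_1, rot_2, rot_3, rot_4, rot_5, rot_6, rot_7,
      mixB_0, mixB_1, mixB_2, mixB_3, mixB_4, mixB_5, mixB_6, mixB_7] <;>
    simp [add_comm]

theorem kill_b (x : Fin 8 → F) (h2 : x 2 = 0) (h3 : x 3 = 0) (h4 : x 4 ≠ 0) :
    ∃ y, Rel x y ∧ y 2 = 0 ∧ y 3 = 0 ∧ y 5 = 0 ∧ y 6 = 0 := by
  obtain ⟨z, hz, z2, z3, z4, z5⟩ : ∃ z, Rel x z ∧ z 2 = 0 ∧ z 3 = 0 ∧ z 4 = x 4 ∧ z 5 = 0 :=
    ⟨_, rel_shear5 x (x 5 / x 4), h2, h3, rfl, by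
      show x 5 - x 5 / x 4 * x 4 = 0
      rw [div_mul_cancel₀ _ h4, sub_self]⟩
  exact ⟨_, hz.trans (rel_shear6 z (z 6 / z 4)), z2, z3, z5, by
    show z 6 - z 6 / z 4 * z 4 = 0
    rw [div_mul_cancel₀ _ (z4 ▸ h4), sub_self]⟩

/-- The standard vector of trace one and norm `N`. -/
def std (N : F) : Fin 8 → F := ![0, -N, 0, 0, 1, 0, 0, 1]

theorem rel_std_of_quaternion {x : Fin 8 → F} (ht : tr x = 1) (hne : ¬ (x 1 = 0 ∧ x 4 = 0 ∧ x 0 = x 7))
    (h2 : x 2 = 0) (h3 : x 3 = 0) (h5 : x 5 = 0) (h6 : x 6 = 0) : Rel x (std (nrm x)) := by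
  have hY : G2Zorn.mY x = 0 := by ext i j; fin_cases i <;> fin_cases j <;> simp [G2Zorn.mY, h2, h3, h5, h6]
  set M := G2Zorn.mH x with hM
  obtain ⟨u, v, huv⟩ : ∃ u v : F, u * (M 1 0 * u + M 1 1 * v) - v * (M 0 0 * u + M 0 1 * v) ≠ 0 := by
    by_contra h
    push Not at h
    have a := h 1 0
    have b := h 0 1
    have c := h 1 1
    simp [hM, G2Zorn.mH] at a b c
    exact hne ⟨b, a, by rw [a, b] at c; linear_combination -c⟩
  set P : Matrix (Fin 2) (Fin 2) F := !![u, M 0 0 * u + M 0 1 * v; v, M 1 0 * u + M 1 1 * v]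
  have hPd : P.det ≠ 0 := by rw [Matrix.det_fin_two_of]; simpa [mul_comm] using huv
  have hMP : M * P = P * !![0, -nrm x; 1, 1] := by
    unfold tr at ht
    ext i j
    fin_cases i <;> fin_cases j <;> simp [P, hM, G2Zorn.mH, nrm, h2, h3, Matrix.mul_apply, Fin.sum_univ_two]
    · linear_combination (x 0 * u + x 1 * v) * ht
    · linear_combination (x 4 * u + x 7 * v) * ht
  obtain ⟨g, hg⟩ := exists_conj P⁻¹ (by
    rw [Matrix.det_nonsing_inv, Ring.inverse_eq_inv']; exact inv_ne_zero hPd)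
  refine ⟨g, ?_⟩
  rw [hg, hY, Matrix.mul_zero, Matrix.zero_mul, ← hM, Matrix.nonsing_inv_nonsing_inv _ (isUnit_iff_ne_zero.2 hPd),
    Matrix.mul_assoc, hMP, ← Matrix.mul_assoc, Matrix.nonsing_inv_mul _ (isUnit_iff_ne_zero.2 hPd), Matrix.one_mul]
  refine ext8 ?_ ?_ ?_ ?_ ?_ ?_ ?_ ?_ <;> simp [enc_eq, std]

theorem not_scalar {x : Fin 8 → F} (h20 : (2 : F) = 0) (ht : tr x = 1) :
    ¬ (x 1 = 0 ∧ x 4 = 0 ∧ x 0 = x 7) := fun ⟨_, _, h⟩ => by
  unfold tr at ht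
  rw [h] at ht
  exact one_ne_zero (α := F) (by linear_combination -ht + (x 7) * h20)

theorem rel_std_of_ne {x : Fin 8 → F} (h20 : (2 : F) = 0) (ht : tr x = 1) (hne : x 0 * x 7 ≠ nrm x) :
    Rel x (std (nrm x)) := by
  obtain ⟨y, hy, y0, y7, y2, y3⟩ := kill_a x
  have h4 : y 4 ≠ 0 := by
    intro h4
    apply hne
    rw [← hy.inv.2, ← y0, ← y7]
    simp [nrm, y2, y3, h4]
  obtain ⟨z, hz, z2, z3, z5, z6⟩ := kill_b y y2 y3 h4
  have hxz := hy.trans hz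
  have htz : tr z = 1 := hxz.inv.1.trans ht
  have := hxz.trans (rel_std_of_quaternion htz (not_scalar h20 htz) z2 z3 z5 z6)
  rwa [hxz.inv.2] at this

/-- Every vector of trace one is moved to the standard one with the same norm. -/
theorem rel_std [Fintype F] (h20 : (2 : F) = 0) (hq : 3 ≤ Fintype.card F) {x : Fin 8 → F} (ht : tr x = 1) :
    Rel x (std (nrm x)) := by
  classical
  have finish : ∀ {z : Fin 8 → F}, Rel x z → z 2 = 0 → z 3 = 0 → z 5 = 0 → z 6 = 0 → Rel x (std (nrm x)) := by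
    intro z hz z2 z3 z5 z6
    have htz : tr z = 1 := hz.inv.1.trans ht
    have := hz.trans (rel_std_of_quaternion htz (not_scalar h20 htz) z2 z3 z5 z6)
    rwa [hz.inv.2] at this
  obtain ⟨y, hy, -, -, y2, y3⟩ := kill_a x
  by_cases h1 : y 1 = 0
  · obtain ⟨z, hz, z2, z3, z5, z6⟩ := kill_all_b y h1 y2 y3
    exact finish (hy.trans hz) z2 z3 z5 z6
  by_cases h4 : y 4 = 0
  swap
  · obtain ⟨z, hz, z2, z3, z5, z6⟩ := kill_b y y2 y3 h4
    exact finish (hy.trans hz) z2 z3 z5 z6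
  obtain ⟨z, hz, -, -, z2, z3, z4, z6, -⟩ := kill_b2 y y2 y3
  rw [h4] at z4
  by_cases h5 : z 5 = 0
  · exact finish (hy.trans hz) z2 z3 h5 z6
  -- shift the indices and change the first coordinate
  set w := rot z
  have hw : Rel x w := (hy.trans hz).trans (rel_rot z)
  obtain ⟨α, hα⟩ : ∃ α : F, α ∉ ({w 0, w 7} : Finset F) := by
    by_contra h
    push Not at h
    have : (Finset.univ : Finset F).card ≤ ({w 0, w 7} : Finset F).card := Finset.card_le_card fun a _ => h a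
    rw [Finset.card_univ] at this
    have := this.trans Finset.card_le_two
    omega
  simp only [Finset.mem_insert, Finset.mem_singleton, not_or] at hα
  set s := (α - w 0) / w 4
  have hw4 : w 4 ≠ 0 := by simpa [w, rot] using h5
  obtain ⟨g, hg⟩ := exists_conj (!![1, s; 0, 1] : Matrix (Fin 2) (Fin 2) F) (by simp)
  have hinv : (!![1, s; 0, 1] : Matrix (Fin 2) (Fin 2) F)⁻¹ = !![1, -s; 0, 1] :=
    Matrix.inv_eq_right_inv (by ext i j; fin_cases i <;> fin_cases j <;> simp)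
  set v := ap g w
  have hv0 : v 0 = α := by
    show ap g w 0 = α
    rw [hg, hinv]
    simp [G2Zorn.enc, G2Zorn.mH, Matrix.mul_apply, Fin.sum_univ_two, s, div_mul_cancel₀ _ hw4]
  have hxv : Rel x v := hw.trans ⟨g, rfl⟩
  have htv : tr v = 1 := hxv.inv.1.trans ht
  have hne : v 0 * v 7 ≠ nrm v := by
    rw [hxv.inv.2, ← hw.inv.2]
    have hn : nrm w = w 0 * w 7 := by simp [nrm, w, rot, z2, z3, z4, z6]
    have htw : tr w = 1 := hw.inv.1.trans ht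
    unfold tr at htv htw
    rw [hn, hv0, show v 7 = 1 - α by rw [← hv0]; linear_combination htv]
    intro he
    have : (α - w 0) * (α - w 7) = 0 := by linear_combination -he - α * htw
    rcases mul_eq_zero.1 this with h | h
    · exact hα.1 (sub_eq_zero.1 h)
    · exact hα.2 (sub_eq_zero.1 h)
  have := hxv.trans (rel_std_of_ne h20 htv hne)
  rwa [hxv.inv.2] at this

end Cfsg.Agent.Covering2.Octonion
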