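import Cfsg.Agent.Covering2.Lift
import Cfsg.Agent.Covering2.G2Orbit
import Mathlib

/-!
`G₂(q)`, `q` even, is covered by the conjugates of the stabilisers of a split and of a non-split
étale subalgebra of dimension two.
-/

set_option autoImplicit false

namespace Cfsg.Agent.Covering2.Octonion

open Matrix Cfsg.Lie Module

variable {F : Type} [Field F]

/-- The polar form of the norm. -/
def polarB : LinearMap.BilinForm F (Fin 8 → F) :=
  LinearMap.mk₂ F (fun x y => x 0 * y 7 + x 7 * y 0 -
      (x 1 * y 4 + x 4 * y 1 + (x 2 * y 5 + x 5 * y 2) + (x 3 * y 6 + x 6 * y 3)))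
    (fun x x' y => by simp; ring) (fun c x y => by simp; ring) (fun x y y' => by simp; ring)
    (fun c x y => by simp; ring)

theorem polarB_apply (x y : Fin 8 → F) : polarB x y = x 0 * y 7 + x 7 * y 0 -
    (x 1 * y 4 + x 4 * y 1 + (x 2 * y 5 + x 5 * y 2) + (x 3 * y 6 + x 6 * y 3)) := rfl

theorem polarB_eq (x y : Fin 8 → F) : polarB x y = nrm (x + y) - nrm x - nrm y := by
  simp [polarB_apply, nrm]; ring

theorem polarB_one (x : Fin 8 → F) : polarB x one = tr x := by simp [polarB_apply, one, tr]

theorem polarB_symm (x y : Fin 8 → F) : polarB x y = polarB y x := by rw [polarB_apply, polarB_apply]; ring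

theorem polarB_nondeg : (polarB (F := F)).Nondegenerate := by
  have left : ∀ x : Fin 8 → F, (∀ y, polarB x y = 0) → x = 0 := fun x h => by
    have e := fun i : Fin 8 => h (Pi.single i 1)
    funext i
    fin_cases i
    · simpa [polarB_apply] using e 7
    · simpa [polarB_apply] using e 4
    · simpa [polarB_apply] using e 5
    · simpa [polarB_apply] using e 6
    · simpa [polarB_apply] using e 1
    · simpa [polarB_apply] using e 2
    · simpa [polarB_apply] using e 3
    · simpa [polarB_apply] using e 0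
  exact ⟨left, fun y h => left y fun x => by rw [polarB_symm, h]⟩

theorem polarB_ap (g : Lie.G2 F) (x y : Fin 8 → F) : polarB (ap g x) (ap g y) = polarB x y := by
  rw [polarB_eq, polarB_eq, ← ap_add, (invariant g _).2, (invariant g _).2, (invariant g _).2]

theorem nrm_add_one (x : Fin 8 → F) (c : F) : nrm (x + c • one) = nrm x + c * tr x + c ^ 2 := by
  simp [nrm, one, tr]; ring

theorem tr_add_one (h20 : (2 : F) = 0) (x : Fin 8 → F) (c : F) : tr (x + c • one) = tr x := by
  simp [one, tr]; linear_combination c * h20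

/-- The first idempotent. -/
def idem : Fin 8 → F := ![1, 0, 0, 0, 0, 0, 0, 0]

/-- The stabiliser of a vector modulo the scalars. -/
def classStab [Finite F] (x : Fin 8 → F) : Subgroup (Lie.G2 F) :=
  finSubgroup (fun g => ∃ c : F, ap g x = x + c • one) ⟨0, by rw [ap_one, zero_smul, add_zero]⟩ (by
    rintro g h ⟨c, hc⟩ ⟨d, hd⟩
    exact ⟨c + d, by rw [ap_mul, hd, ap_add, ap_smul, ap_fix_one, hc, add_smul]; abel⟩)

/-- Every automorphism fixes the class of a vector of trace one. -/
theorem exists_fixed_class (h20 : (2 : F) = 0) (g : Lie.G2 F) :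
    ∃ x : Fin 8 → F, tr x = 1 ∧ ∃ c : F, ap g x = x + c • one := by
  let G : (Fin 8 → F) →ₗ[F] (Fin 8 → F) :=
    { toFun := ap g, map_add' := ap_add g, map_smul' := ap_smul g }
  let T : Submodule F (Fin 8 → F) := LinearMap.ker ((polarB (F := F)).flip one)
  have hT : ∀ x, x ∈ T ↔ tr x = 0 := fun x => by simp [T, polarB_one]
  let L : T →ₗ[F] (Fin 8 → F) := (G - LinearMap.id).comp T.subtype
  let S := LinearMap.range L ⊔ Submodule.span F {(one : Fin 8 → F)}
  let y := ap g idem - idem
  have hrefl : (polarB (F := F)).IsRefl := fun a b h => by rwa [polarB_symm]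
  have hy : y ∈ S := by
    rw [← LinearMap.BilinForm.orthogonal_orthogonal polarB_nondeg hrefl S]
    intro w hw
    have hw1 : tr w = 0 := by
      have := hw one (Submodule.mem_sup_right (Submodule.mem_span_singleton_self _))
      rw [← polarB_one, polarB_symm]; exact this
    set u := ap g⁻¹ w - w
    have hu : ∀ z ∈ T, polarB z u = 0 := by
      intro z hz
      have h := hw _ (Submodule.mem_sup_left ⟨⟨z, hz⟩, rfl⟩)
      change polarB (ap g z - z) w = 0 at h
      rw [map_sub, LinearMap.sub_apply, show polarB (ap g z) w = polarB z (ap g⁻¹ w) by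
        rw [← polarB_ap g z (ap g⁻¹ w), ap_inv'], ← map_sub] at h
      exact h
    set lam := polarB idem u
    have hue : u = lam • one := by
      refine sub_eq_zero.1 (polarB_nondeg.2 _ fun v => ?_)
      have hz : v - tr v • idem ∈ T := (hT _).2 (by simp [idem, tr])
      have := hu _ hz
      rw [LinearMap.map_sub₂, LinearMap.map_smul₂, smul_eq_mul] at this
      rw [map_sub, map_smul, polarB_one, smul_eq_mul]
      linear_combination this
    have hlam : lam = 0 := by
      have h1 : ap g⁻¹ w = w + lam • one := by rw [← hue]; simp [u]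
      have h2 := (invariant g⁻¹ w).2
      rw [h1, nrm_add_one, hw1] at h2
      exact pow_eq_zero_iff two_ne_zero |>.1 (by linear_combination h2)
    have hfix : ap g w = w := by
      rw [hlam, zero_smul, sub_eq_zero] at hue
      conv_lhs => rw [← hue]
      exact ap_inv' g w
    show polarB w y = 0
    rw [map_sub, sub_eq_zero]
    conv_lhs => rw [← hfix]
    exact polarB_ap g w idem
  obtain ⟨a, ⟨z, rfl⟩, b, hb, hab⟩ := Submodule.mem_sup.1 hy
  obtain ⟨c, rfl⟩ := Submodule.mem_span_singleton.1 hb
  refine ⟨idem - (z : Fin 8 → F), ?_, c, ?_⟩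
  · have := (hT z).1 z.2
    simp [tr, idem] at this ⊢
    linear_combination -this
  · have e : ap g idem - idem = (ap g (z : Fin 8 → F) - (z : Fin 8 → F)) + c • one := hab.symm
    rw [ap_sub]
    calc ap g idem - ap g (z : Fin 8 → F) = (ap g idem - idem) - (ap g (z : Fin 8 → F) - (z : Fin 8 → F)) + (idem - (z : Fin 8 → F)) := by abel
      _ = idem - (z : Fin 8 → F) + c • one := by rw [e]; abel

/-- The covering of `G₂` in even characteristic. -/
theorem g2_even [Fintype F] {a : ℕ} (ha : 2 ≤ a) (hF : Fintype.card F = 2 ^ a) :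
    ∃ H K : Subgroup (Lie.G2 F), H ≠ ⊤ ∧ K ≠ ⊤ ∧ ∀ g : Lie.G2 F, ∃ x, x * g * x⁻¹ ∈ H ∨ x * g * x⁻¹ ∈ K := by
  classical
  haveI : Fact (Nat.Prime 2) := ⟨Nat.prime_two⟩
  haveI : CharP F 2 := charP_of_card_eq_prime_pow hF
  have h20 : (2 : F) = 0 := by exact_mod_cast CharP.cast_eq_zero F 2
  have hq : 4 ≤ Fintype.card F := by
    rw [hF]
    calc 4 = 2 ^ 2 := rfl
      _ ≤ 2 ^ a := Nat.pow_le_pow_right (by norm_num) ha
  have hneg : ∀ c : F, -c = c := fun c => by linear_combination (-c) * h20
  let S : Finset F := Finset.univ.image fun c : F => c ^ 2 + c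
  have hmem : ∀ d : F, d ∈ S ↔ ∃ c, c ^ 2 + c = d := fun d => by simp [S]
  obtain ⟨δ, hδ⟩ : ∃ δ : F, δ ∉ S := by
    by_contra h
    push Not at h
    have hinj : Function.Injective fun c : F => c ^ 2 + c :=
      Finite.injective_iff_surjective.2 fun d => by simpa [eq_comm] using (hmem d).1 (h d)
    exact one_ne_zero (α := F) (hinj (show (1 : F) ^ 2 + 1 = 0 ^ 2 + 0 by linear_combination h20))
  have hcover : ∀ d : F, d ∈ S ∨ d + δ ∈ S := by
    intro d
    have h2 : Fintype.card F ≤ 2 * S.card := by
      rw [← Finset.card_univ]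
      refine Finset.card_le_mul_card_image _ 2 fun b _ => ?_
      by_cases he : ∃ c, c ^ 2 + c = b
      · obtain ⟨c, hc⟩ := he
        refine (Finset.card_le_card (t := {c, c + 1}) fun e he => ?_).trans Finset.card_le_two
        have he' := (Finset.mem_filter.1 he).2
        rcases mul_eq_zero.1 (show (e - c) * (e - (c + 1)) = 0 by linear_combination he' - hc + (c ^ 2 - c * e + c - e) * h20)
          with h | h
        · simp [sub_eq_zero.1 h]
        · simp [sub_eq_zero.1 h]
      · push Not at he
        rw [Finset.filter_false_of_mem fun c _ => he c]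
        simp
    by_contra hc
    push Not at hc
    let T := S.image (· + δ)
    have hdis : Disjoint S T := Finset.disjoint_left.2 fun u hu hu' => by
      obtain ⟨v, hv, rfl⟩ := Finset.mem_image.1 hu'
      obtain ⟨c, rfl⟩ := (hmem v).1 hv
      obtain ⟨c', hc'⟩ := (hmem _).1 hu
      exact hδ ((hmem δ).2 ⟨c' + c, by linear_combination hc' + (c' * c + c ^ 2 + c) * h20⟩)
    have hcard : (S ∪ T).card = 2 * S.card := by
      rw [Finset.card_union_of_disjoint hdis, Finset.card_image_of_injective _ (add_left_injective δ), two_mul]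
    have hu : S ∪ T = Finset.univ :=
      Finset.eq_univ_of_card _ (le_antisymm (Finset.card_le_univ _) (hcard ▸ h2))
    have : d ∈ S ∪ T := hu ▸ Finset.mem_univ d
    rcases Finset.mem_union.1 this with h | h
    · exact hc.1 h
    · obtain ⟨v, hv, hvd⟩ := Finset.mem_image.1 h
      refine hc.2 ?_
      rw [← hvd, add_assoc, show δ + δ = 0 by linear_combination δ * h20, add_zero]
      exact hv
  have hδ0 : δ ≠ 0 := fun h => hδ ((hmem δ).2 ⟨0, by rw [h]; ring⟩)
  refine ⟨classStab idem, classStab (std δ), ?_, ?_, ?_⟩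
  · intro htop
    obtain ⟨g, hg⟩ := exists_conj (!![1, 1; 0, 1] : Matrix (Fin 2) (Fin 2) F) (by simp)
    have hinv : (!![1, 1; 0, 1] : Matrix (Fin 2) (Fin 2) F)⁻¹ = !![1, -1; 0, 1] :=
      Matrix.inv_eq_right_inv (by ext i j; fin_cases i <;> fin_cases j <;> simp)
    obtain ⟨c, hc⟩ := mem_finSubgroup.1 (htop ▸ Subgroup.mem_top g : g ∈ classStab idem)
    have := congrFun hc 1
    rw [hg, hinv] at this
    simp [G2Zorn.enc, G2Zorn.mH, idem, one, Matrix.mul_apply, Fin.sum_univ_two] at this
  · intro htop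
    obtain ⟨t, ht⟩ : ∃ t : F, t ∉ ({0, 1} : Finset F) := by
      by_contra h
      push Not at h
      have : (Finset.univ : Finset F).card ≤ ({0, 1} : Finset F).card := Finset.card_le_card fun a _ => h a
      rw [Finset.card_univ] at this
      have := this.trans Finset.card_le_two
      omega
    simp only [Finset.mem_insert, Finset.mem_singleton, not_or] at ht
    obtain ⟨g, hg⟩ := exists_conj (!![t, 0; 0, 1] : Matrix (Fin 2) (Fin 2) F) (by simpa using ht.1)
    have hinv : (!![t, 0; 0, 1] : Matrix (Fin 2) (Fin 2) F)⁻¹ = !![t⁻¹, 0; 0, 1] :=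
      Matrix.inv_eq_right_inv (by ext i j; fin_cases i <;> fin_cases j <;> simp [mul_inv_cancel₀ ht.1])
    obtain ⟨c, hc⟩ := mem_finSubgroup.1 (htop ▸ Subgroup.mem_top g : g ∈ classStab (std δ))
    have := congrFun hc 1
    rw [hg, hinv] at this
    simp [G2Zorn.enc, G2Zorn.mH, std, one, Matrix.mul_apply, Fin.sum_univ_two] at this
    rcases mul_eq_zero.1 (show (t - 1) * δ = 0 by linear_combination this) with h | h
    · exact ht.2 (sub_eq_zero.1 h)
    · exact hδ0 h
  intro g
  obtain ⟨x, hx, c, hgx⟩ := exists_fixed_class h20 g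
  -- shift x so that its norm is 0 or δ
  obtain ⟨d, hd⟩ : ∃ d : F, nrm (x + d • one) = 0 ∨ nrm (x + d • one) = δ := by
    simp only [nrm_add_one, hx, mul_one]
    rcases hcover (nrm x) with h | h
    · obtain ⟨d, hd⟩ := (hmem _).1 h
      exact ⟨d, Or.inl (by linear_combination hd + (nrm x) * h20)⟩
    · obtain ⟨d, hd⟩ := (hmem _).1 h
      exact ⟨d, Or.inr (by linear_combination hd + (nrm x) * h20)⟩
  set x' := x + d • one
  have hx' : tr x' = 1 := by rw [tr_add_one h20, hx]
  have hgx' : ap g x' = x' + c • one := by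
    simp only [x', ap_add, ap_smul, ap_fix_one, hgx]; abel
  have key : ∀ y : Fin 8 → F, Rel x' y → ∃ h : Lie.G2 F, h * g * h⁻¹ ∈ classStab y := by
    rintro y ⟨h, rfl⟩
    refine ⟨h, mem_finSubgroup.2 ⟨c, ?_⟩⟩
    rw [ap_mul, ap_mul, ap_inv, hgx', ap_add, ap_smul, ap_fix_one]
  have hrel : Rel x' (std (nrm x')) := rel_std h20 (by omega) hx'
  have hidem : Rel (idem (F := F)) (std 0) := by
    have := rel_std (F := F) h20 (by omega) (x := idem) (by simp [idem, tr])
    simpa [nrm, idem] using this
  rcases hd with h | h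
  · rw [h] at hrel
    obtain ⟨g1, hg1⟩ := hidem
    have : Rel x' idem := hrel.trans ⟨g1⁻¹, by rw [← hg1, ap_inv]⟩
    obtain ⟨k, hk⟩ := key _ this
    exact ⟨k, Or.inl hk⟩
  · rw [h] at hrel
    obtain ⟨k, hk⟩ := key _ hrel
    exact ⟨k, Or.inr hk⟩

end Cfsg.Agent.Covering2.Octonion
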