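import Mathlib

/-!
Coverings of a group by the conjugates of two proper subgroups pass to quotients, and roots of a
fixed irreducible polynomial inside `F[X]` modulo a polynomial.
-/

set_option autoImplicit false

namespace Cfsg.Agent.Covering2

open Polynomial

/-- A covering by the conjugates of two proper subgroups which contain `Z` passes to the quotient by `Z`. -/
theorem lift {G : Type*} [Group G] (Z : Subgroup G) [Z.Normal] (H K : Subgroup G) (hH : H ≠ ⊤) (hK : K ≠ ⊤)
    (hZH : Z ≤ H) (hZK : Z ≤ K) (h : ∀ g : G, ∃ x : G, x * g * x⁻¹ ∈ H ∨ x * g * x⁻¹ ∈ K) :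
    ∃ H' K' : Subgroup (G ⧸ Z), H' ≠ ⊤ ∧ K' ≠ ⊤ ∧
      ∀ g : G ⧸ Z, ∃ x : G ⧸ Z, x * g * x⁻¹ ∈ H' ∨ x * g * x⁻¹ ∈ K' := by
  have key : ∀ L : Subgroup G, L ≠ ⊤ → Z ≤ L → L.map (QuotientGroup.mk' Z) ≠ ⊤ := by
    intro L hL hZ he
    apply hL
    have := congrArg (Subgroup.comap (QuotientGroup.mk' Z)) he
    rwa [Subgroup.comap_map_eq_self (by rwa [QuotientGroup.ker_mk']), Subgroup.comap_top] at this
  refine ⟨H.map (QuotientGroup.mk' Z), K.map (QuotientGroup.mk' Z), key H hH hZH, key K hK hZK,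
    fun g => ?_⟩
  obtain ⟨g, rfl⟩ := QuotientGroup.mk'_surjective Z g
  obtain ⟨x, hx⟩ := h g
  refine ⟨QuotientGroup.mk' Z x, hx.imp (fun e => ?_) fun e => ?_⟩ <;>
    exact ⟨_, e, by simp only [map_mul, map_inv]⟩

/-- In a finite group a set with one and products is a subgroup. -/
def finSubgroup {G : Type*} [Group G] [Finite G] (p : G → Prop) (h1 : p 1)
    (hmul : ∀ x y, p x → p y → p (x * y)) : Subgroup G where
  carrier := {x | p x}
  one_mem' := h1
  mul_mem' {x y} := hmul x y
  inv_mem' {x} hx := by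
    let S : Submonoid G := { carrier := {x | p x}, one_mem' := h1, mul_mem' := fun {x y} => hmul x y }
    have hS : x⁻¹ ∈ S := by
      have hmem : x⁻¹ ∈ Submonoid.powers x := by
        rw [(isOfFinOrder_of_finite x).mem_powers_iff_mem_zpowers]
        exact inv_mem (Subgroup.mem_zpowers x)
      exact (Submonoid.powers_le.2 hx) hmem
    exact hS

theorem mem_finSubgroup {G : Type*} [Group G] [Finite G] {p : G → Prop} {h1 : p 1}
    {hmul : ∀ x y, p x → p y → p (x * y)} {x : G} : x ∈ finSubgroup p h1 hmul ↔ p x := Iff.rfl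

variable {F : Type*} [Field F]

/-- A root of `p` modulo `f` gives a divisibility. -/
theorem dvd_comp_of_mk {f p : F[X]} {r : F[X]} (h : aeval (AdjoinRoot.mk f r) p = 0) : f ∣ p.comp r := by
  rw [← AdjoinRoot.mk_eq_zero, ← h, comp_eq_aeval]
  exact (aeval_algHom_apply (AdjoinRoot.mkₐ f) r p).symm

theorem aeval_mk_of_dvd {f p : F[X]} {r : F[X]} (h : f ∣ p.comp r) : aeval (AdjoinRoot.mk f r) p = 0 := by
  rw [← AdjoinRoot.mk_eq_zero.2 h, comp_eq_aeval]
  exact aeval_algHom_apply (AdjoinRoot.mkₐ f) r p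

/-- If `f` annihilates `a` and `p ∘ r` is divisible by `f`, then `p` annihilates `r(a)`. -/
theorem aeval_aeval_of_dvd {A : Type*} [Ring A] [Algebra F A] {a : A} {f p r : F[X]}
    (ha : aeval a f = 0) (h : f ∣ p.comp r) : aeval (aeval a r) p = 0 := by
  obtain ⟨c, hc⟩ := h
  rw [← aeval_comp, hc, map_mul, ha, zero_mul]

variable [Finite F]

/-- An irreducible polynomial whose degree divides the degree of `q` has a root modulo the irreducible `q`. -/
theorem exists_root_irreducible {q p : F[X]} (hq : Irreducible q) (hp : Irreducible p)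
    (hd : p.natDegree ∣ q.natDegree) : ∃ r : F[X], q ∣ p.comp r := by
  haveI : Fact (Irreducible q) := ⟨hq⟩
  haveI : Fact (Irreducible p) := ⟨hp⟩
  haveI : Module.Finite F (AdjoinRoot q) := (AdjoinRoot.powerBasis hq.ne_zero).finite
  haveI : Module.Finite F (AdjoinRoot p) := (AdjoinRoot.powerBasis hp.ne_zero).finite
  haveI : Finite (AdjoinRoot q) := Module.finite_of_finite F
  haveI : Finite (AdjoinRoot p) := Module.finite_of_finite F
  obtain ⟨φ⟩ := FiniteField.nonempty_algHom_of_finrank_dvd (F := F) (K := AdjoinRoot p) (L := AdjoinRoot q)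
    (by rwa [(AdjoinRoot.powerBasis hp.ne_zero).finrank, (AdjoinRoot.powerBasis hq.ne_zero).finrank,
      AdjoinRoot.powerBasis_dim, AdjoinRoot.powerBasis_dim])
  obtain ⟨r, hr⟩ := AdjoinRoot.mk_surjective (φ (AdjoinRoot.root p))
  refine ⟨r, dvd_comp_of_mk ?_⟩
  rw [hr, aeval_algHom_apply, AdjoinRoot.aeval_eq, AdjoinRoot.mk_self, map_zero]

/-- In a commutative algebra an approximate root of an irreducible polynomial lifts to a root. -/
theorem exists_root_of_nilpotent {R : Type*} [CommRing R] [Algebra F R] {p : F[X]} (hp : Irreducible p)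
    {x : R} (hx : IsNilpotent (aeval x p)) : ∃ y : R, IsNilpotent (x - y) ∧ aeval y p = 0 := by
  obtain ⟨a, b, hab⟩ := PerfectField.separable_of_irreducible hp
  have hu : IsUnit (aeval x (derivative p)) := by
    have e := congrArg (aeval x) hab
    rw [map_add, map_mul, map_mul, map_one] at e
    have h1 : IsUnit (aeval x b * aeval x (derivative p)) := by
      rw [show aeval x b * aeval x (derivative p) = 1 - aeval x a * aeval x p by linear_combination e]
      exact ((Commute.all _ _).isNilpotent_mul_left hx).isUnit_one_sub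
    exact (IsUnit.mul_iff.1 h1).2
  obtain ⟨y, hy, -⟩ := Polynomial.existsUnique_nilpotent_sub_and_aeval_eq_zero hx hu
  exact ⟨y, hy⟩

/-- An approximate root modulo `f` lifts to a root modulo `f`. -/
theorem exists_root_mod {p f r : F[X]} (hp : Irreducible p) {k : ℕ} (h : f ∣ (p.comp r) ^ k) :
    ∃ r' : F[X], f ∣ p.comp r' := by
  obtain ⟨y, -, hy⟩ := exists_root_of_nilpotent hp (R := AdjoinRoot f) (x := AdjoinRoot.mk f r)
    ⟨k, by rw [← map_pow, ← AdjoinRoot.mk_eq_zero.2 h, map_pow, map_pow, comp_eq_aeval]; congr 1;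
           exact (aeval_algHom_apply (AdjoinRoot.mkₐ f) r p)⟩
  obtain ⟨r', rfl⟩ := AdjoinRoot.mk_surjective y
  exact ⟨r', dvd_comp_of_mk hy⟩

end Cfsg.Agent.Covering2
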