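import Cfsg.Agent.Covering2.Lift
import Cfsg.Agent.MatModule.Semisimple
import Cfsg.Agent.MatModule.PolyModule
import Cfsg.Agent.Spectrum.Primary
import Mathlib

/-!
`PSL₂`, `PSL₃`, `PSL₄` are covered by the conjugates of a point stabiliser and of the centraliser of
a field of degree 2, 3, 2.
-/

set_option autoImplicit false

namespace Cfsg.Agent.Covering2

open Polynomial Matrix

variable {F : Type} [Field F] [Fintype F]

/-- There is a monic irreducible polynomial of each positive degree over a finite field. -/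
theorem exists_irred (d : ℕ) (hd : d ≠ 0) : ∃ p : F[X], p.Monic ∧ Irreducible p ∧ p.natDegree = d := by
  haveI : NeZero d := ⟨hd⟩
  obtain ⟨c, hc⟩ := CharP.exists F
  haveI : CharP F c := hc
  haveI : Fact c.Prime := ⟨CharP.char_is_prime F c⟩
  obtain ⟨α, hα⟩ := Field.exists_primitive_element F (FiniteField.Extension F c d)
  have hi : IsIntegral F α := IsIntegral.of_finite F α
  refine ⟨minpoly F α, minpoly.monic hi, minpoly.irreducible hi, ?_⟩
  rw [(Field.primitive_element_iff_minpoly_natDegree_eq F α).1 hα, FiniteField.finrank_extension]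

/-- A matrix annihilated by a given irreducible polynomial whose degree divides the size. -/
theorem exists_matrix_root {n : ℕ} (hn : n ≠ 0) {p : F[X]} (hp : Irreducible p) (hd : p.natDegree ∣ n) :
    ∃ J : Matrix (Fin n) (Fin n) F, aeval J p = 0 := by
  obtain ⟨q, hqm, hq, hqn⟩ := exists_irred (F := F) n hn
  obtain ⟨r, hr⟩ := exists_root_irreducible hq hp (by rwa [hqn])
  let pb := AdjoinRoot.powerBasis hq.ne_zero
  let b := pb.basis.reindex (finCongr (show pb.dim = n by simp [pb, hqn]))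
  refine ⟨Algebra.leftMulMatrix b (AdjoinRoot.mk q r), ?_⟩
  rw [aeval_algHom_apply, aeval_mk_of_dvd hr, map_zero]

/-- Two roots in `GLₙ` of an irreducible polynomial are conjugate by a matrix of determinant one. -/
theorem exists_sl_conj_root {n : ℕ} [NeZero n] {p : F[X]} (hpm : p.Monic) (hp : Irreducible p)
    {A B : Matrix (Fin n) (Fin n) F} (hA : aeval A p = 0) (hB : aeval B p = 0) :
    ∃ x : Matrix.SpecialLinearGroup (Fin n) F, (x : Matrix (Fin n) (Fin n) F) * A = B * x := by
  have hsq := hp.squarefree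
  have hl : ∀ C : Matrix (Fin n) (Fin n) F, aeval C p = 0 → aeval (Matrix.toLin' C) p = 0 := fun C h => by
    rw [show Matrix.toLin' C = Matrix.toLinAlgEquiv' C from rfl, aeval_algHom_apply, h, map_zero]
  have hcp : A.charpoly = B.charpoly := by
    obtain ⟨i, hi⟩ := Spectrum.charpoly_eq_pow_of_aeval_irreducible hpm hp hA
    obtain ⟨j, hj⟩ := Spectrum.charpoly_eq_pow_of_aeval_irreducible hpm hp hB
    have h1 := congrArg natDegree hi
    have h2 := congrArg natDegree hj
    rw [charpoly_natDegree_eq_dim, natDegree_pow] at h1 h2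
    rw [hi, hj, Nat.eq_of_mul_eq_mul_right hp.natDegree_pos (h1.symm.trans h2)]
  obtain ⟨Θ, hΘ⟩ := MatModule.exists_conj_of_charpoly_eq (Matrix.toLin' A) (Matrix.toLin' B) hsq (hl A hA)
    hsq (hl B hB) (by rw [charpoly_toLin', charpoly_toLin', hcp])
  have hdne : LinearMap.det (Θ : (Fin n → F) →ₗ[F] (Fin n → F)) ≠ 0 := (LinearEquiv.isUnit_det' Θ).ne_zero
  obtain ⟨c, hc, hcd⟩ := MatModule.exists_commute_det (Matrix.toLin' B) hsq (hl B hB) (inv_ne_zero hdne)
  refine ⟨⟨LinearMap.toMatrix' (c * (Θ : (Fin n → F) →ₗ[F] (Fin n → F))), ?_⟩, ?_⟩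
  · rw [LinearMap.det_toMatrix', map_mul, hcd, inv_mul_cancel₀ hdne]
  · refine Matrix.toLin'.injective ?_
    rw [Matrix.toLin'_mul, Matrix.toLin'_mul, Matrix.toLin'_toMatrix']
    refine LinearMap.ext fun v => ?_
    show c (Θ (Matrix.toLin' A v)) = Matrix.toLin' B (c (Θ v))
    rw [hΘ]
    exact LinearMap.congr_fun hc (Θ v)

omit [Fintype F] in
/-- Any nonzero vector is moved by a matrix of determinant one to a multiple of the first basis vector. -/
theorem exists_sl_to_single {n : ℕ} [NeZero n] (hn : 2 ≤ n) {v : Fin n → F} (hv : v ≠ 0) :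
    ∃ (x : Matrix.SpecialLinearGroup (Fin n) F) (c : F), (x : Matrix (Fin n) (Fin n) F) *ᵥ v = c • Pi.single 0 1 := by
  classical
  obtain ⟨i, hi⟩ := Function.ne_iff.1 hv
  obtain ⟨M, hMi, hMd⟩ : ∃ M : Matrix (Fin n) (Fin n) F, M *ᵥ Pi.single i 1 = v ∧ M.det ≠ 0 := by
    refine ⟨(1 : Matrix (Fin n) (Fin n) F).updateCol i v, ?_, ?_⟩
    · rw [mulVec_single_one]
      ext j
      simp [Matrix.col]
    · rw [← cramer_apply, cramer_one]
      simpa using hi
  let P : Matrix (Fin n) (Fin n) F := (Equiv.swap (0 : Fin n) i).permMatrix F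
  obtain ⟨j, hj⟩ : ∃ j : Fin n, j ≠ 0 := ⟨⟨1, hn⟩, fun h => by simpa using congrArg Fin.val h⟩
  have hPd : P.det ≠ 0 := by
    rw [det_permutation]
    exact ((Equiv.Perm.sign _).map (Int.castRingHom F).toMonoidHom).ne_zero
  have hP : P *ᵥ Pi.single i 1 = Pi.single 0 1 := by
    rw [permMatrix_mulVec]
    ext k
    simp only [Function.comp_apply, Pi.single_apply]
    congr 1
    rw [eq_iff_iff]
    constructor
    · intro h
      simpa [Equiv.swap_apply_right] using congrArg (Equiv.swap (0 : Fin n) i) h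
    · rintro rfl
      exact Equiv.swap_apply_left _ _
  let N := P * M⁻¹
  have hN : N *ᵥ v = Pi.single 0 1 := by
    rw [← mulVec_mulVec, ← hMi, mulVec_mulVec _ M⁻¹, nonsing_inv_mul _ (isUnit_iff_ne_zero.2 hMd),
      one_mulVec, hP]
  have hNd : N.det ≠ 0 := by
    rw [det_mul, det_nonsing_inv, Ring.inverse_eq_inv']
    exact mul_ne_zero hPd (inv_ne_zero hMd)
  refine ⟨⟨diagonal (Pi.mulSingle j N.det⁻¹) * N, ?_⟩, 1, ?_⟩
  · rw [det_mul, det_diagonal, Finset.prod_pi_mulSingle']
    simp [hNd]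
  · show (diagonal (Pi.mulSingle j N.det⁻¹) * N) *ᵥ v = _
    rw [← mulVec_mulVec, hN, one_smul]
    ext k
    rw [mulVec_diagonal]
    by_cases hk : k = 0
    · subst hk
      simp [Pi.mulSingle_apply, hj.symm]
    · simp [hk]

/-- The stabiliser of the line of the first basis vector. -/
def lineStab (n : ℕ) [NeZero n] (F : Type) [Field F] [Fintype F] :
    Subgroup (Matrix.SpecialLinearGroup (Fin n) F) :=
  finSubgroup (fun x => ∃ c : F, (x : Matrix (Fin n) (Fin n) F) *ᵥ Pi.single 0 1 = c • Pi.single 0 1)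
    ⟨1, by rw [Matrix.SpecialLinearGroup.coe_one, one_mulVec, one_smul]⟩ (by
      rintro x y ⟨c, hc⟩ ⟨e, he⟩
      exact ⟨c * e, by rw [Matrix.SpecialLinearGroup.coe_mul, ← mulVec_mulVec, he, mulVec_smul, hc, smul_smul, mul_comm]⟩)

/-- The centraliser of a matrix. -/
def centStab {n : ℕ} (J : Matrix (Fin n) (Fin n) F) : Subgroup (Matrix.SpecialLinearGroup (Fin n) F) :=
  finSubgroup (fun x => (x : Matrix (Fin n) (Fin n) F) * J = J * x) (by simp) (by
      intro x y hx hy
      simp only [Matrix.SpecialLinearGroup.coe_mul] at *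
      rw [mul_assoc, hy, ← mul_assoc, hx, mul_assoc])

/-- The covering of `PSLₙ` for a degree `d` dividing `n` such that every element without eigenvalue
commutes with a root of each irreducible polynomial of degree `d`. -/
theorem psl_cover {n d : ℕ} [NeZero n] (hn : 2 ≤ n) (hd : 2 ≤ d) (hdn : d ∣ n)
    (hJ : ∀ A : Matrix (Fin n) (Fin n) F, (∀ c : F, ¬ A.charpoly.IsRoot c) →
      ∀ p : F[X], Irreducible p → p.natDegree = d → ∃ r : F[X], A.charpoly ∣ p.comp r) :
    ∃ H K : Subgroup (Matrix.ProjectiveSpecialLinearGroup (Fin n) F), H ≠ ⊤ ∧ K ≠ ⊤ ∧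
      ∀ g, ∃ x, x * g * x⁻¹ ∈ H ∨ x * g * x⁻¹ ∈ K := by
  obtain ⟨p, hpm, hp, hpd⟩ := exists_irred (F := F) d (by omega)
  obtain ⟨J, hJ0⟩ := exists_matrix_root (NeZero.ne n) hp (hpd ▸ hdn)
  refine lift _ (lineStab n F) (centStab J) ?_ ?_ ?_ ?_ ?_
  · intro h
    obtain ⟨j, hj⟩ : ∃ j : Fin n, j ≠ 0 := ⟨⟨1, hn⟩, fun h => by simpa using congrArg Fin.val h⟩
    let t : Matrix.SpecialLinearGroup (Fin n) F :=
      ⟨Matrix.transvection j 0 (1 : F), det_transvection_of_ne _ _ hj _⟩
    have hm : t ∈ lineStab n F := h ▸ Subgroup.mem_top _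
    obtain ⟨c, hc⟩ := hm
    have := congrFun hc j
    simp [t, transvection, hj] at this
  · intro h
    have hall : ∀ i j : Fin n, i ≠ j → Commute (Matrix.single i j (1 : F)) J := by
      intro i j hij
      let t : Matrix.SpecialLinearGroup (Fin n) F :=
        ⟨Matrix.transvection i j (1 : F), det_transvection_of_ne _ _ hij _⟩
      have hm : t ∈ centStab J := h ▸ Subgroup.mem_top _
      have hm' : (1 + Matrix.single i j 1) * J = J * (1 + Matrix.single i j 1) := hm
      rw [add_mul, mul_add, one_mul, mul_one, add_right_inj] at hm'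
      exact hm'
    obtain ⟨c, hc⟩ := Matrix.mem_range_scalar_of_commute_single hall
    subst hc
    have h1 := hJ0
    rw [show Matrix.scalar (Fin n) c = algebraMap F _ c from rfl, aeval_algebraMap_apply,
      map_eq_zero_iff _ (RingHom.injective _)] at h1
    have := degree_eq_one_of_irreducible_of_root hp (show p.IsRoot c from h1)
    rw [degree_eq_natDegree hp.ne_zero, hpd] at this
    norm_cast at this
    omega
  · intro z hz
    obtain ⟨r, -, hr⟩ := Matrix.SpecialLinearGroup.mem_center_iff.1 hz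
    refine ⟨r, ?_⟩
    rw [← hr, scalar_apply, ← smul_one_eq_diagonal, smul_mulVec, one_mulVec]
  · intro z hz
    obtain ⟨r, -, hr⟩ := Matrix.SpecialLinearGroup.mem_center_iff.1 hz
    show (z : Matrix (Fin n) (Fin n) F) * J = J * z
    rw [← hr]
    exact (Matrix.scalar_commute r (fun r' => mul_comm r r') J).eq
  intro g
  by_cases he : ∀ c : F, ¬ (g : Matrix (Fin n) (Fin n) F).charpoly.IsRoot c
  · obtain ⟨r, hr⟩ := hJ _ he p hp hpd
    have hj : aeval (aeval (g : Matrix (Fin n) (Fin n) F) r) p = 0 :=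
      aeval_aeval_of_dvd (Matrix.aeval_self_charpoly _) hr
    obtain ⟨x, hx⟩ := exists_sl_conj_root hpm hp hj hJ0
    refine ⟨x, Or.inr ?_⟩
    show ((x * g * x⁻¹ : Matrix.SpecialLinearGroup (Fin n) F) : Matrix (Fin n) (Fin n) F) * J = J * _
    set A : Matrix (Fin n) (Fin n) F := g.1 with hA
    set X : Matrix (Fin n) (Fin n) F := x.1 with hX
    set Y : Matrix (Fin n) (Fin n) F := (x⁻¹).1 with hY
    have e1 : X * Y = 1 := congrArg Subtype.val (mul_inv_cancel x)
    have e2 : Y * X = 1 := congrArg Subtype.val (inv_mul_cancel x)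
    set R := aeval A r with hR
    have hJx : J = X * R * Y := by
      calc J = J * (X * Y) := by rw [e1, mul_one]
        _ = X * R * Y := by rw [← mul_assoc, ← hx]
    have hc : A * R = R * A := by
      have e := congrArg (aeval A) (mul_comm (Polynomial.X : F[X]) r)
      rwa [map_mul, map_mul, aeval_X] at e
    have hcol : ∀ M N : Matrix (Fin n) (Fin n) F, X * M * Y * (X * N * Y) = X * (M * N) * Y := fun M N => by
      simp only [mul_assoc]
      rw [← mul_assoc Y X, e2, one_mul]
    show X * A * Y * J = J * (X * A * Y)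
    rw [hJx, hcol, hcol, hc]
  · push Not at he
    obtain ⟨c, hc⟩ := he
    rw [← charpoly_toLin', ← Module.End.hasEigenvalue_iff_isRoot_charpoly] at hc
    obtain ⟨v, hv⟩ := hc.exists_hasEigenvector
    obtain ⟨x, e, hx⟩ := exists_sl_to_single hn hv.2
    have hgv : (g : Matrix (Fin n) (Fin n) F) *ᵥ v = c • v := hv.apply_eq_smul
    have he0 : e ≠ 0 := by
      rintro rfl
      rw [zero_smul] at hx
      apply hv.2
      have := congrArg ((x⁻¹ : Matrix.SpecialLinearGroup (Fin n) F).1 *ᵥ ·) hx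
      simp only [mulVec_zero, mulVec_mulVec] at this
      rwa [show (x⁻¹ : Matrix.SpecialLinearGroup (Fin n) F).1 * x.1 = 1 from
        congrArg Subtype.val (inv_mul_cancel x), one_mulVec] at this
    refine ⟨x, Or.inl ⟨c, ?_⟩⟩
    have h1 : Pi.single (0 : Fin n) (1 : F) = e⁻¹ • (x : Matrix (Fin n) (Fin n) F) *ᵥ v := by
      rw [hx, smul_smul, inv_mul_cancel₀ he0, one_smul]
    rw [h1, mulVec_smul, mulVec_mulVec, ← Matrix.SpecialLinearGroup.coe_mul, inv_mul_cancel_right,
      Matrix.SpecialLinearGroup.coe_mul, ← mulVec_mulVec, hgv, mulVec_smul]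
    rw [smul_comm]

theorem psl_two : ∃ H K : Subgroup (Matrix.ProjectiveSpecialLinearGroup (Fin 2) F), H ≠ ⊤ ∧ K ≠ ⊤ ∧
      ∀ g, ∃ x, x * g * x⁻¹ ∈ H ∨ x * g * x⁻¹ ∈ K :=
  psl_cover le_rfl le_rfl dvd_rfl fun A hA p hp hpd => by
    have hdeg : A.charpoly.natDegree = 2 := by simp
    refine exists_root_irreducible ((irreducible_iff_roots_eq_zero_of_degree_le_three (by omega) (by omega)).2
      (Multiset.eq_zero_of_forall_notMem fun c hc => hA c (isRoot_of_mem_roots hc))) hp ?_
    rw [hdeg, hpd]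

theorem psl_three : ∃ H K : Subgroup (Matrix.ProjectiveSpecialLinearGroup (Fin 3) F), H ≠ ⊤ ∧ K ≠ ⊤ ∧
      ∀ g, ∃ x, x * g * x⁻¹ ∈ H ∨ x * g * x⁻¹ ∈ K :=
  psl_cover (by norm_num) (by norm_num) dvd_rfl fun A hA p hp hpd => by
    have hdeg : A.charpoly.natDegree = 3 := by simp
    refine exists_root_irreducible ((irreducible_iff_roots_eq_zero_of_degree_le_three (by omega) (by omega)).2
      (Multiset.eq_zero_of_forall_notMem fun c hc => hA c (isRoot_of_mem_roots hc))) hp ?_
    rw [hdeg, hpd]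

omit [Fintype F] in
/-- A polynomial of degree 4 without roots is irreducible or a product of two irreducible quadratics. -/
theorem quartic_cases {f : F[X]} (hf : f.Monic) (hdeg : f.natDegree = 4) (hr : ∀ c : F, ¬ f.IsRoot c) :
    Irreducible f ∨ ∃ a b : F[X], a.Monic ∧ b.Monic ∧ Irreducible a ∧ Irreducible b ∧
      a.natDegree = 2 ∧ b.natDegree = 2 ∧ f = a * b := by
  by_cases hi : Irreducible f
  · exact Or.inl hi
  right
  obtain ⟨a, ham, ha, b, rfl⟩ : ∃ a : F[X], a.Monic ∧ Irreducible a ∧ a ∣ f :=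
    exists_monic_irreducible_factor f (not_isUnit_of_natDegree_pos f (by omega))
  have hbm : b.Monic := ham.of_mul_monic_left hf
  have hsum : a.natDegree + b.natDegree = 4 := by rw [← ham.natDegree_mul hbm, hdeg]
  have hra : ∀ c, ¬ a.IsRoot c := fun c h => hr c (root_mul.2 (Or.inl h))
  have hrb : ∀ c, ¬ b.IsRoot c := fun c h => hr c (root_mul.2 (Or.inr h))
  have key : ∀ u : F[X], u.Monic → (∀ c, ¬ u.IsRoot c) → u.natDegree ≠ 1 := by
    intro u hu hur h1
    rw [hu.eq_X_add_C h1] at hur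
    exact hur (-u.coeff 0) (by simp)
  have ha0 := ha.natDegree_pos
  have hb0 : b.natDegree ≠ 0 := fun h0 => hi (by rwa [hbm.natDegree_eq_zero.1 h0, mul_one])
  have ha1 := key a ham hra
  have hb1 := key b hbm hrb
  refine ⟨a, b, ham, hbm, ha, ?_, by omega, by omega, rfl⟩
  exact (irreducible_iff_roots_eq_zero_of_degree_le_three (by omega) (by omega)).2
    (Multiset.eq_zero_of_forall_notMem fun c hc => hrb c (isRoot_of_mem_roots hc))

theorem psl_four : ∃ H K : Subgroup (Matrix.ProjectiveSpecialLinearGroup (Fin 4) F), H ≠ ⊤ ∧ K ≠ ⊤ ∧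
      ∀ g, ∃ x, x * g * x⁻¹ ∈ H ∨ x * g * x⁻¹ ∈ K :=
  psl_cover (d := 2) (by norm_num) le_rfl (by norm_num) fun A hA p hp hpd => by
    rcases quartic_cases A.charpoly_monic (by simp) hA with hi | ⟨a, b, ham, hbm, ha, hb, had, hbd, hab⟩
    · exact exists_root_irreducible hi hp (by rw [hpd, charpoly_natDegree_eq_dim]; norm_num)
    obtain ⟨r, hr⟩ := exists_root_irreducible ha hp (by rw [hpd, had])
    rw [hab]
    by_cases he : a = b
    · subst he
      refine exists_root_mod hp (k := 2) (r := r) ?_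
      rw [pow_two]
      exact mul_dvd_mul hr hr
    · obtain ⟨s, hs⟩ := exists_root_irreducible hb hp (by rw [hpd, hbd])
      have hco : IsCoprime a b :=
        (ha.coprime_iff_not_dvd).2 fun hdvd => he (eq_of_monic_of_associated ham hbm (ha.associated_of_dvd hb hdvd))
      obtain ⟨u, v, huv⟩ := hco
      refine ⟨s * (u * a) + r * (v * b), IsCoprime.mul_dvd ⟨u, v, huv⟩ ?_ ?_⟩
      · refine dvd_comp_of_mk ?_
        have : AdjoinRoot.mk a (s * (u * a) + r * (v * b)) = AdjoinRoot.mk a r := by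
          rw [AdjoinRoot.mk_eq_mk]
          exact ⟨(s - r) * u, by linear_combination r * huv⟩
        rw [this]
        exact aeval_mk_of_dvd hr
      · refine dvd_comp_of_mk ?_
        have : AdjoinRoot.mk b (s * (u * a) + r * (v * b)) = AdjoinRoot.mk b s := by
          rw [AdjoinRoot.mk_eq_mk]
          exact ⟨(r - s) * v, by linear_combination s * huv⟩
        rw [this]
        exact aeval_mk_of_dvd hs

end Cfsg.Agent.Covering2
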