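import Cfsg.Agent.Covering2.Symp6Forms
import Mathlib

/-!
Reference isometries on `E × E`, `E` the cubic extension: they normalise the algebra `E` and realise
every normal form.
-/

set_option autoImplicit false

namespace Cfsg.Agent.Covering2.Symp6

open Polynomial Module

/-- A cubic extension with its Frobenius and an element of trace one. -/
structure Cubic (F E : Type*) [Field F] [Field E] [Algebra F E] where
  σ : E ≃ₐ[F] E
  cube : ∀ a, σ (σ (σ a)) = a
  tr : ∀ a, algebraMap F E (Algebra.trace F E a) = a + σ a + σ (σ a)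
  θ : E
  one : Algebra.trace F E θ = 1
  dim : finrank F E = 3

theorem exists_cubic (F : Type) [Field F] [Finite F] :
    ∃ (E : Type) (_ : Field E) (_ : Algebra F E) (_ : Finite E), Nonempty (Cubic F E) := by
  obtain ⟨c, hc⟩ := CharP.exists F
  haveI : CharP F c := hc
  haveI : Fact c.Prime := ⟨CharP.char_is_prime F c⟩
  have hdim : finrank F (FiniteField.Extension F c 3) = 3 := FiniteField.finrank_extension F c 3
  obtain ⟨θ, hθ⟩ := Algebra.trace_surjective F (FiniteField.Extension F c 3) 1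
  refine ⟨FiniteField.Extension F c 3, inferInstance, inferInstance, inferInstance, ⟨⟨FiniteField.Extension.frob F c 3, fun a => ?_,
    fun a => ?_, θ, hθ, hdim⟩⟩⟩
  · haveI := Fintype.ofFinite (FiniteField.Extension F c 3)
    simp only [FiniteField.Extension.frob_apply, ← pow_mul]
    rw [show Nat.card F * Nat.card F * Nat.card F = Fintype.card (FiniteField.Extension F c 3) by
      rw [Fintype.card_eq_nat_card, FiniteField.natCard_extension]; ring]
    exact FiniteField.pow_card a
  · rw [FiniteField.algebraMap_trace_eq_sum_pow, hdim]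
    simp [Finset.sum_range_succ, FiniteField.Extension.frob_apply, ← pow_mul, sq]

variable {F E : Type*} [Field F] [Field E] [Algebra F E] [FiniteDimensional F E] (D : Cubic F E)

/-- The symplectic form `tr(ad - bc)`. -/
noncomputable def trForm (F E : Type*) [Field F] [Field E] [Algebra F E] : LinearMap.BilinForm F (E × E) :=
  (Algebra.traceForm F E).compl₁₂ (LinearMap.fst F E E) (LinearMap.snd F E E) -
    (Algebra.traceForm F E).compl₁₂ (LinearMap.snd F E E) (LinearMap.fst F E E)

omit [FiniteDimensional F E] in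
theorem trForm_apply (x y : E × E) : trForm F E x y = Algebra.trace F E (x.1 * y.2 - x.2 * y.1) := by
  simp [trForm, Algebra.traceForm_apply, map_sub]

omit [FiniteDimensional F E] in
theorem trForm_isAlt : (trForm F E).IsAlt := fun x => by rw [trForm_apply, mul_comm, sub_self, map_zero]

theorem trForm_nondeg [Algebra.IsSeparable F E] : (trForm F E).Nondegenerate := by
  have key : ∀ a : E, (∀ b, Algebra.trace F E (a * b) = 0) → a = 0 := fun a h =>
    (traceForm_nondegenerate F E).1 a fun b => by rw [Algebra.traceForm_apply, h]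
  have left : ∀ x : E × E, (∀ y, trForm F E x y = 0) → x = 0 := fun x h => by
    refine Prod.ext (key _ fun b => ?_) (key _ fun b => ?_)
    · simpa [trForm_apply] using h (0, b)
    · simpa [trForm_apply] using h (-b, 0)
  exact ⟨left, fun y h => left y fun x => by rw [Classical.Alt.neg' trForm_isAlt x y, h, neg_zero]⟩

include D in
omit [FiniteDimensional F E] in
theorem finrank_model [FiniteDimensional F E] : finrank F (E × E) = 6 := by
  rw [Module.finrank_prod, D.dim]

theorem trace_σ (a : E) : Algebra.trace F E (D.σ a) = Algebra.trace F E a :=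
  Algebra.trace_eq_of_algEquiv D.σ a

/-- Multiplication by `θ` on both coordinates. -/
noncomputable def J₀ : Module.End F (E × E) := Algebra.lsmul F F (E × E) D.θ

theorem J₀_apply (x : E × E) : J₀ D x = (D.θ * x.1, D.θ * x.2) := rfl

theorem J₀_sa : SA (trForm F E) (J₀ D) := fun x y => by
  rw [trForm_apply, trForm_apply, J₀_apply, J₀_apply]
  ring_nf

theorem J₀_root : aeval (J₀ D) (minpoly F D.θ) = 0 := by
  rw [J₀, aeval_algHom_apply, minpoly.aeval, map_zero]

theorem θ_deg [CharP F 3] : (minpoly F D.θ).natDegree = 3 := by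
  have hi : IsIntegral F D.θ := IsIntegral.of_finite F D.θ
  have h := minpoly.degree_dvd (K := F) hi
  rw [D.dim] at h
  rcases (Nat.dvd_prime Nat.prime_three).1 h with h1 | h1
  · exfalso
    obtain ⟨a, ha⟩ := minpoly.natDegree_eq_one_iff.1 h1
    have := D.one
    rw [← ha, Algebra.trace_algebraMap, D.dim] at this
    rw [nsmul_eq_mul, CharP.cast_eq_zero F 3, zero_mul] at this
    exact zero_ne_one this
  · exact h1

theorem exists_poly [CharP F 3] (a : E) : ∃ r : F[X], aeval D.θ r = a := by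
  have hi : IsIntegral F D.θ := IsIntegral.of_finite F D.θ
  haveI : Fact (Irreducible (minpoly F D.θ)) := ⟨minpoly.irreducible hi⟩
  haveI : Module.Finite F (AdjoinRoot (minpoly F D.θ)) := (AdjoinRoot.powerBasis (minpoly.ne_zero hi)).finite
  let ψ := AdjoinRoot.liftAlgHom (minpoly F D.θ) (Algebra.ofId F E) D.θ (minpoly.aeval F D.θ)
  have hinj : Function.Injective ψ.toLinearMap := ψ.toRingHom.injective
  obtain ⟨z, hz⟩ := (LinearMap.injective_iff_surjective_of_finrank_eq_finrank (by
    rw [(AdjoinRoot.powerBasis (minpoly.ne_zero hi)).finrank, AdjoinRoot.powerBasis_dim, θ_deg D, D.dim])).1 hinj a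
  obtain ⟨r, rfl⟩ := AdjoinRoot.mk_surjective z
  exact ⟨r, by rw [← hz]; exact (AdjoinRoot.liftAlgHom_mk (minpoly F D.θ) (Algebra.ofId F E) D.θ (minpoly.aeval F D.θ) r).symm⟩

theorem kcase_model [CharP F 3] (g : (E × E) ≃ₗ[F] E × E)
    (hg : ∀ x : E × E, g (D.θ * x.1, D.θ * x.2) = (D.σ D.θ * (g x).1, D.σ D.θ * (g x).2)) :
    KCase (trForm F E) (minpoly F D.θ) g := by
  obtain ⟨r, hr⟩ := exists_poly D (D.σ D.θ)
  refine ⟨J₀ D, J₀_sa D, J₀_root D, r, LinearMap.ext fun x => ?_⟩
  rw [J₀, aeval_algHom_apply, hr]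
  exact hg x

/-- `(a,b) ↦ (-σb, σa + tσb)`. -/
noncomputable def gS (t : F) : (E × E) ≃ₗ[F] E × E where
  toFun x := (-D.σ x.2, D.σ x.1 + t • D.σ x.2)
  map_add' x y := by ext <;> simp [map_add, smul_add] <;> abel
  map_smul' c x := by ext <;> simp [map_smul, smul_comm t c]
  invFun x := (t • D.σ (D.σ x.1) + D.σ (D.σ x.2), -D.σ (D.σ x.1))
  left_inv x := by ext <;> simp [map_add, map_smul, D.cube, smul_neg]
  right_inv x := by ext <;> simp [map_add, map_smul, D.cube, smul_neg]

theorem gS_iso (t : F) (x y : E × E) : trForm F E (gS D t x) (gS D t y) = trForm F E x y := by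
  rw [trForm_apply, trForm_apply, ← trace_σ D (x.1 * y.2 - x.2 * y.1)]
  congr 1
  simp only [gS, LinearEquiv.coe_mk, map_sub, map_mul, Algebra.smul_def, LinearMap.coe_mk, AddHom.coe_mk]
  ring

theorem gS_kcase [CharP F 3] (t : F) : KCase (trForm F E) (minpoly F D.θ) (gS D t) :=
  kcase_model D _ fun x => by
    ext <;> simp [gS, map_mul, mul_add, mul_smul_comm]

include D in
theorem three_E (h3 : (3 : F) = 0) : (3 : E) = 0 := by
  rw [← map_ofNat (algebraMap F E) 3, h3, map_zero]

theorem gS_nf (h3 : (3 : F) = 0) {t : F} (ht : t * t ≠ 4) :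
    ∃ v r, r ≠ 0 ∧ NF (trForm F E) (gS D t) t v r := by
  have hE := three_E D h3
  have h20 : (2 : F) ≠ 0 := fun h => one_ne_zero (α := F) (by linear_combination h3 - h)
  set τ := algebraMap F E t with hτ
  have hT : ∀ a : E, t • a = τ * a := fun a => Algebra.smul_def t a
  have hστ : D.σ τ = τ := D.σ.commutes t
  let M : Module.End F (E × E) := (D.σ.toLinearMap - 1).prodMap (D.σ.toLinearMap - 1)
  let L : Module.End F (E × E) :=
    ((t • (D.σ.toLinearMap + 1)).comp (LinearMap.fst F E E) + D.σ.toLinearMap.comp (LinearMap.snd F E E)).prod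
      (-(D.σ.toLinearMap.comp (LinearMap.fst F E E)) + t • LinearMap.snd F E E)
  have hM : ∀ x, M x = (D.σ x.1 - x.1, D.σ x.2 - x.2) := fun x => rfl
  have hL : ∀ x, L x = (τ * (D.σ x.1 + x.1) + D.σ x.2, -D.σ x.1 + τ * x.2) := fun x => by
    simp [L, hT, mul_add]
  have hK : ∀ x, km (gS D t) t x = L (M x) := fun x => by
    rw [km_apply, hM, hL]
    ext <;> simp [gS, hT, map_sub, hστ, map_mul, map_add] <;> ring
  have hLM : ∀ x, M (L x) = L (M x) := fun x => by
    rw [hM, hL, hL, hM]
    ext <;> simp [map_add, map_sub, map_mul, hστ] <;> ring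
  have hM3 : ∀ x, M (M (M x)) = 0 := fun x => by
    simp only [hM, map_sub, D.cube, Prod.ext_iff, Prod.fst_zero, Prod.snd_zero]
    exact ⟨by linear_combination (D.σ x.1 - D.σ (D.σ x.1)) * hE, by linear_combination (D.σ x.2 - D.σ (D.σ x.2)) * hE⟩
  have hcube : ∀ x, km (gS D t) t (km (gS D t) t (km (gS D t) t x)) = 0 := fun x => by
    simp only [hK]
    rw [hLM (M (L (M x))), hLM (M x), hLM, hM3]
    simp
  have hMM : M (M (D.θ, 0)) = (1, 0) := by
    have h1 := D.tr D.θ
    rw [D.one, map_one] at h1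
    simp only [hM, map_sub, map_zero, sub_zero, Prod.ext_iff, and_true]
    linear_combination -h1 - D.σ D.θ * hE
  have hval : km (gS D t) t (km (gS D t) t (D.θ, 0)) = (τ * τ - 1, 0) := by
    rw [hK, hK, hLM, hMM, hL, hL, Prod.ext_iff]
    simp only [map_one, map_zero, map_add, map_neg, map_mul, hστ]
    exact ⟨by linear_combination (τ * τ) * hE, by linear_combination (-τ) * hE⟩
  have hne : Algebra.trace F E ((D.θ) * (τ * τ - 1)) = t * t - 1 := by
    rw [show D.θ * (τ * τ - 1) = (t * t - 1) • D.θ by rw [Algebra.smul_def, map_sub, map_mul, map_one, mul_comm],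
      map_smul, D.one, smul_eq_mul, mul_one]
  have hγ : trForm F E (D.θ, 0) (gS D t (km (gS D t) t (km (gS D t) t (D.θ, 0)))) = t * t - 1 := by
    rw [hval, trForm_apply]
    simp only [gS, LinearEquiv.coe_mk, LinearMap.coe_mk, AddHom.coe_mk, map_zero, smul_zero, add_zero, zero_mul,
      sub_zero, map_sub, map_mul, hστ, map_one]
    exact hne
  have hne' : t * t - 1 ≠ 0 := fun h => ht (by linear_combination h - h3)
  obtain ⟨w, hw⟩ := exists_nf trForm_isAlt h20 (gS_iso D t) hcube (v := (D.θ, 0)) (by rwa [hγ])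
  exact ⟨w, _, by rwa [hγ], hw⟩

/-- `(a,b) ↦ (σa, σb + θσa)`. -/
noncomputable def gU : (E × E) ≃ₗ[F] E × E where
  toFun x := (D.σ x.1, D.σ x.2 + D.θ * D.σ x.1)
  map_add' x y := by ext <;> simp [map_add, mul_add] <;> abel
  map_smul' c x := by ext <;> simp [map_smul, smul_add]
  invFun x := (D.σ (D.σ x.1), D.σ (D.σ (x.2 - D.θ * x.1)))
  left_inv x := by ext <;> simp [D.cube]
  right_inv x := by ext <;> simp [D.cube]

theorem gU_iso (x y : E × E) : trForm F E (gU D x) (gU D y) = trForm F E x y := by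
  rw [trForm_apply, trForm_apply, ← trace_σ D (x.1 * y.2 - x.2 * y.1)]
  congr 1
  simp only [gU, LinearEquiv.coe_mk, map_sub, map_mul, LinearMap.coe_mk, AddHom.coe_mk]
  ring

theorem gU_kcase [CharP F 3] : KCase (trForm F E) (minpoly F D.θ) (gU D) :=
  kcase_model D _ fun x => by
    ext <;> simp [gU, map_mul] <;> ring

theorem gU_nf (h3 : (3 : F) = 0) : ∃ v r, r ≠ 0 ∧ NF (trForm F E) (gU D) 2 v r := by
  have hE := three_E D h3
  have h20 : (2 : F) ≠ 0 := fun h => one_ne_zero (α := F) (by linear_combination h3 - h)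
  let T : E → E := fun a => a + D.σ a + D.σ (D.σ a)
  have hTs : ∀ a, D.σ (T a) = T a := fun a => by simp only [T, map_add, D.cube]; ring
  have hK : ∀ x, km (gU D) 2 x =
      (T x.1, T x.2 + D.θ * D.σ x.1 - D.σ (D.σ D.θ) * D.σ (D.σ x.1)) := fun x => by
    rw [km_apply]
    have h2 : ∀ a : E, (2 : F) • a = 2 * a := fun a => by rw [Algebra.smul_def, map_ofNat]
    ext <;> simp [gU, T, h2] <;> [linear_combination (-x.1) * hE; linear_combination (-x.2) * hE]
  have hθ : T D.θ = 1 := by
    show _ + _ + _ = _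
    rw [← D.tr, D.one, map_one]
  have hTT : ∀ a b : E, D.σ a = a → T (a * b) = a * T b := fun a b h => by
    simp only [T, map_mul, h]; ring
  have hcube : ∀ x, km (gU D) 2 (km (gU D) 2 (km (gU D) 2 x)) = 0 := fun x => by
    simp only [hK]
    set e := T x.2 + D.θ * D.σ x.1 - D.σ (D.σ D.θ) * D.σ (D.σ x.1)
    have t1 : T (T x.1) = 0 := by
      simp only [T, map_add, D.cube]; linear_combination (x.1 + D.σ x.1 + D.σ (D.σ x.1)) * hE
    have t0 : T (0 : E) = 0 := by simp [T]
    rw [t1, t0, hTs, hTs]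
    simp only [map_zero, mul_zero, add_zero, sub_zero, Prod.mk_eq_zero, true_and]
    simp only [T, map_add, map_sub, map_mul, D.cube]
    have h1 := hθ
    simp only [T] at h1
    linear_combination (e + D.σ e + D.σ (D.σ e)) * hE
  have hval : ∃ k : F, k = -1 ∧
      km (gU D) 2 (km (gU D) 2 (D.θ, 0)) = (0, algebraMap F E k + D.θ - D.σ (D.σ D.θ)) := by
    refine ⟨-1, rfl, ?_⟩
    rw [hK, hK, Prod.ext_iff]
    simp only [hθ, map_neg, map_one]
    simp only [T, map_zero, map_one, map_add, map_sub, map_mul, D.cube, zero_add, add_zero]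
    have h1 := hθ
    simp only [T] at h1
    exact ⟨by linear_combination hE,
      by linear_combination (D.θ * D.σ D.θ + D.σ D.θ * D.σ (D.σ D.θ) + D.σ (D.σ D.θ) * D.θ) * hE -
        (D.θ + D.σ D.θ + D.σ (D.σ D.θ) + 1) * h1⟩
  obtain ⟨k, hk, hval⟩ := hval
  have hγ : trForm F E (D.θ, 0) (gU D (km (gU D) 2 (km (gU D) 2 (D.θ, 0)))) = 1 := by
    rw [hval, trForm_apply, hk]
    simp only [gU, LinearEquiv.coe_mk, LinearMap.coe_mk, AddHom.coe_mk, map_zero, mul_zero, add_zero, zero_mul,
      sub_zero, map_add, map_sub, AlgEquiv.commutes, D.cube]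
    apply (algebraMap F E).injective
    rw [D.tr]
    simp only [map_mul, map_add, map_sub, AlgEquiv.commutes, D.cube, map_neg, map_one]
    have h1 := hθ
    simp only [T] at h1
    linear_combination (D.θ * D.σ D.θ + D.σ D.θ * D.σ (D.σ D.θ) + D.σ (D.σ D.θ) * D.θ) * hE -
      (D.θ + D.σ D.θ + D.σ (D.σ D.θ) + 1) * h1 - h1 - hE
  obtain ⟨w, hw⟩ := exists_nf trForm_isAlt h20 (gU_iso D) hcube (v := (D.θ, 0)) (by rw [hγ]; exact one_ne_zero)
  exact ⟨w, _, by rw [hγ]; exact one_ne_zero, hw⟩

/-- `(a,b) ↦ (σa, σb)`. -/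
noncomputable def gF : (E × E) ≃ₗ[F] E × E := D.σ.toLinearEquiv.prodCongr D.σ.toLinearEquiv

theorem gF_apply (x : E × E) : gF D x = (D.σ x.1, D.σ x.2) := rfl

theorem gF_symm (x : E × E) : (gF D).symm x = (D.σ (D.σ x.1), D.σ (D.σ x.2)) := by
  rw [LinearEquiv.symm_apply_eq, gF_apply, D.cube, D.cube]

theorem gF_iso (x y : E × E) : trForm F E (gF D x) (gF D y) = trForm F E x y := by
  rw [trForm_apply, trForm_apply, ← trace_σ D (x.1 * y.2 - x.2 * y.1)]
  simp [gF_apply, map_sub, map_mul]

theorem gF_kcase [CharP F 3] : KCase (trForm F E) (minpoly F D.θ) (gF D) :=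
  kcase_model D _ fun x => by simp [gF_apply, map_mul]

theorem gF_nf3 (h3 : (3 : F) = 0) : ∃ v w, NF3 (trForm F E) (gF D) v w := by
  have hE := three_E D h3
  have hD : ∀ x : E × E, dm (gF D) x = (D.σ x.1 - D.σ (D.σ x.1), D.σ x.2 - D.σ (D.σ x.2)) := fun x => by
    rw [dm_apply, gF_symm, gF_apply]; rfl
  have hD2 : ∀ x : E × E, dm (gF D) (dm (gF D) x) =
      (x.1 + D.σ x.1 + D.σ (D.σ x.1), x.2 + D.σ x.2 + D.σ (D.σ x.2)) := fun x => by
    simp only [hD, map_sub, D.cube, Prod.ext_iff]
    exact ⟨by linear_combination (-x.1) * hE, by linear_combination (-x.2) * hE⟩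
  refine exists_nf3 trForm_isAlt h3 (gF_iso D) (fun x => ?_) (fun x => ?_) (v₀ := (D.θ, 0)) (w₀ := (0, D.θ)) ?_
  · rw [hD2, hD]
    simp [map_add, map_sub, D.cube]
  · rw [hD2, hD, gF_apply]
    simp only [Prod.ext_iff, Prod.fst_sub, Prod.snd_sub]
    exact ⟨by linear_combination (D.σ x.1) * hE, by linear_combination (D.σ x.2) * hE⟩
  · rw [hD2, trForm_apply]
    simp [← D.tr, D.one]

end Cfsg.Agent.Covering2.Symp6
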