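import Cfsg.Agent.Covering2.Lift
import Cfsg.Agent.Classical.SympGroup
import Mathlib

/-!
Elementary facts on the symplectic matrix group used for the coverings.
-/

set_option autoImplicit false

namespace Cfsg.Agent.Covering2

open Cfsg.Agent.Classical Matrix

variable {F : Type} [Field F] {m : ℕ}

theorem sp_mulVec_inv (A : Matrix.symplecticGroup (Fin m) F) (v : Fin m ⊕ Fin m → F) :
    A.1 *ᵥ ((A⁻¹).1 *ᵥ v) = v := by
  rw [mulVec_mulVec, ← Submonoid.coe_mul, mul_inv_cancel, Submonoid.coe_one, one_mulVec]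

theorem sp_inv_mulVec (A : Matrix.symplecticGroup (Fin m) F) (v : Fin m ⊕ Fin m → F) :
    (A⁻¹).1 *ᵥ (A.1 *ᵥ v) = v := by
  rw [mulVec_mulVec, ← Submonoid.coe_mul, inv_mul_cancel, Submonoid.coe_one, one_mulVec]

theorem sp_conj_mulVec (x A : Matrix.symplecticGroup (Fin m) F) (v : Fin m ⊕ Fin m → F) :
    (x * A * x⁻¹).1 *ᵥ v = x.1 *ᵥ (A.1 *ᵥ ((x⁻¹).1 *ᵥ v)) := by
  simp only [Submonoid.coe_mul, mulVec_mulVec, mul_assoc]

/-- Central elements of the symplectic group are scalars of square one. -/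
theorem sp_center_scalar (hm : 1 ≤ m) {z : Matrix.symplecticGroup (Fin m) F}
    (hz : z ∈ Subgroup.center (Matrix.symplecticGroup (Fin m) F)) :
    ∃ a : F, a ^ 2 = 1 ∧ ∀ v, z.1 *ᵥ v = a • v := by
  haveI := nontrivial_symp (F := F) hm
  have hc : spEquiv m F z ∈ Subgroup.center (Alt.isoGroup (sympB m F)) :=
    Subgroup.mem_center_iff.2 fun g => by
      obtain ⟨h, rfl⟩ := (spEquiv m F).surjective g
      rw [← map_mul, ← map_mul, Subgroup.mem_center_iff.1 hz h]
  obtain ⟨a, ha⟩ := Alt.scalar_of_center sympB_isAlt sympB_nondeg hc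
  exact ⟨a, Alt.center_sq sympB_isAlt sympB_nondeg ha, fun v => by rw [← spEquiv_apply, ha]⟩

/-- The symplectic matrix of an isometry. -/
theorem exists_sp_of_iso (e : (Fin m ⊕ Fin m → F) ≃ₗ[F] (Fin m ⊕ Fin m → F))
    (he : ∀ u v, sympB m F (e u) (e v) = sympB m F u v) :
    ∃ A : Matrix.symplecticGroup (Fin m) F, ∀ v, A.1 *ᵥ v = e v :=
  ⟨(spEquiv m F).symm ⟨e, he⟩, fun v => spEquiv_symm_mulVec _ v⟩

end Cfsg.Agent.Covering2
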