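import Cfsg.Agent.Covering2.Symp6Cases
import Cfsg.Agent.Covering2.Symp6Model
import Cfsg.Agent.Covering2.SympBasic
import Mathlib

/-!
`PSp₆` in characteristic three is covered by the conjugates of the stabiliser of a hyperbolic plane
and of the normaliser of a cubic field.
-/

set_option autoImplicit false

namespace Cfsg.Agent.Covering2.Symp6

open Polynomial Module Cfsg.Agent.Classical

section Conj

variable {F V V' : Type*} [Field F] [AddCommGroup V] [Module F V] [FiniteDimensional F V]
variable [AddCommGroup V'] [Module F V'] [FiniteDimensional F V']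
variable {B : LinearMap.BilinForm F V} {B' : LinearMap.BilinForm F V'}

/-- The basis `J^i x, J^i y`. -/
def jFam (J : Module.End F V) (x y : V) : Fin 3 ⊕ Fin 3 → V :=
  Sum.elim (fun a => (J ^ (a : ℕ)) x) fun a => (J ^ (a : ℕ)) y

theorem exists_frame (hA : B.IsAlt) (hB : B.Nondegenerate) (h6 : finrank F V = 6) (h2 : (2 : F) ≠ 0)
    {J : Module.End F V} (hJ : SA B J) {p : F[X]} (hpm : p.Monic) (hp : Irreducible p) (hd : p.natDegree = 3)
    (h0 : aeval J p = 0) :
    ∃ x y : V, LinearIndependent F (jFam J x y) ∧ ∀ i j, B (jFam J x y i) (jFam J x y j) =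
      Sum.elim (fun a : Fin 3 => Sum.elim (fun _ : Fin 3 => (0 : F))
          fun b : Fin 3 => ((X ^ ((a : ℕ) + b)) %ₘ p).coeff 0)
        (fun a : Fin 3 => Sum.elim (fun b : Fin 3 => -((X ^ ((a : ℕ) + b)) %ₘ p).coeff 0) fun _ : Fin 3 => (0 : F)) i j := by
  haveI : Nontrivial V := Module.nontrivial_of_finrank_pos (R := F) (by omega)
  obtain ⟨x, hx⟩ := exists_ne (0 : V)
  have hinj : ∀ q : F[X], q.natDegree < 3 → aeval J q x = 0 → q = 0 := by
    intro q hq h
    by_contra hne
    have hq0 : aeval J q ≠ 0 := by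
      intro h'
      have h1 := minpoly.dvd F J h'
      rw [(minpoly.eq_of_irreducible_of_monic hp h0 hpm).symm] at h1
      have := Polynomial.natDegree_le_of_dvd h1 hne
      omega
    obtain ⟨e, he⟩ := aeval_inv hp h0 hq0
    have := congrArg (fun T : Module.End F V => T x) he
    simp only [Module.End.mul_apply, h, map_zero, Module.End.one_apply] at this
    exact hx this.symm
  have hind3 : LinearIndependent F (fun a : Fin 3 => (J ^ (a : ℕ)) x) := by
    rw [Fintype.linearIndependent_iff]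
    intro c hc
    have hq : (∑ a : Fin 3, C (c a) * X ^ (a : ℕ) : F[X]) = 0 := by
      refine hinj _ ?_ ?_
      · refine lt_of_le_of_lt (natDegree_sum_le_of_forall_le (n := 2) _ _ fun a _ => ?_) (by norm_num)
        exact (natDegree_C_mul_X_pow_le _ _).trans (by omega)
      · simpa [map_sum, LinearMap.sum_apply, Module.algebraMap_end_apply] using hc
    intro a
    have := congrArg (fun q : F[X] => q.coeff (a : ℕ)) hq
    fin_cases a <;> simpa [finset_sum_coeff, coeff_C_mul_X_pow, Fin.sum_univ_three] using this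
  obtain ⟨y, hy⟩ : ∃ y, ∀ a : Fin 3, B ((J ^ (a : ℕ)) x) y = if a = 0 then 1 else 0 := by
    have hli := hind3.map' (B.toDual hB).toLinearMap (LinearEquiv.ker _)
    let T : V →ₗ[F] (Fin 3 → F) := LinearMap.pi fun a => B ((J ^ (a : ℕ)) x)
    have hsurj : Function.Surjective T := by
      rw [← LinearMap.dualMap_injective_iff]
      intro u w huw
      have h1 : ∀ v, u (T v) = w (T v) := fun v => LinearMap.congr_fun huw v
      have h2 : ∀ v : Fin 3 → F, ∀ u : Module.Dual F (Fin 3 → F), u v = ∑ a, v a * u (Pi.single a 1) := by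
        intro v u
        conv_lhs => rw [pi_eq_sum_univ' v]
        simp
      have h3 : ∑ a, (u (Pi.single a 1) - w (Pi.single a 1)) • (J ^ ((a : Fin 3) : ℕ)) x = 0 := by
        refine hB.1 _ fun v => ?_
        have := h1 v
        rw [h2 (T v) u, h2 (T v) w] at this
        simp only [map_sum, map_smul, LinearMap.sum_apply, LinearMap.smul_apply, smul_eq_mul, sub_mul,
          Finset.sum_sub_distrib]
        simp only [T, LinearMap.pi_apply] at this
        rw [sub_eq_zero]
        simpa [mul_comm] using this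
      refine LinearMap.ext fun v => ?_
      rw [h2 v u, h2 v w]
      refine Finset.sum_congr rfl fun a _ => ?_
      rw [sub_eq_zero.1 (Fintype.linearIndependent_iff.1 hind3 _ h3 a)]
    obtain ⟨y, hy⟩ := hsurj fun a => if a = 0 then 1 else 0
    exact ⟨y, fun a => congrFun hy a⟩
  have hq : ∀ q : F[X], B (aeval J q x) y = (q %ₘ p).coeff 0 := by
    intro q
    have e : aeval J q = aeval J (q %ₘ p) := by
      conv_lhs => rw [← Polynomial.modByMonic_add_div q p]
      rw [map_add, map_mul, h0, zero_mul, add_zero]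
    rw [e]
    have hlt : (q %ₘ p).natDegree < 3 := hd ▸ Polynomial.natDegree_modByMonic_lt q hpm (fun h => by rw [h] at hd; simp at hd)
    rw [Polynomial.aeval_eq_sum_range' hlt, Finset.sum_range_succ, Finset.sum_range_succ, Finset.sum_range_one]
    simp only [LinearMap.add_apply, LinearMap.smul_apply, map_add, map_smul, smul_eq_mul]
    have a0 : B x y = 1 := by simpa using hy 0
    have a1 : B (J x) y = 0 := by simpa using hy 1
    have a2 : B ((J ^ 2) x) y = 0 := by simpa using hy 2
    simp [a0, a1, a2]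
  have hpow : ∀ n, SA B (J ^ n) := fun n => by
    have := sa_aeval hJ (X ^ n)
    rwa [map_pow, aeval_X] at this
  have h00 : ∀ (v : V) (a b : ℕ), B ((J ^ a) v) ((J ^ b) v) = 0 := fun v a b => by
    rw [hpow, ← Module.End.mul_apply, ← pow_add]
    exact sa_self hA h2 (hpow _) v
  have hxy : ∀ a b : ℕ, B ((J ^ a) x) ((J ^ b) y) = ((X ^ (a + b)) %ₘ p).coeff 0 := fun a b => by
    rw [← hq, ← hpow, ← Module.End.mul_apply, ← pow_add, add_comm, map_pow, aeval_X]
  have hgram : ∀ i j, B (jFam J x y i) (jFam J x y j) =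
      Sum.elim (fun a : Fin 3 => Sum.elim (fun _ : Fin 3 => (0 : F))
          fun b : Fin 3 => ((X ^ ((a : ℕ) + b)) %ₘ p).coeff 0)
        (fun a : Fin 3 => Sum.elim (fun b : Fin 3 => -((X ^ ((a : ℕ) + b)) %ₘ p).coeff 0) fun _ : Fin 3 => (0 : F)) i j := by
    rintro (a | a) (b | b) <;> simp only [jFam, Sum.elim_inl, Sum.elim_inr]
    · exact h00 _ _ _
    · exact hxy _ _
    · rw [Alt.neg' hA ((J ^ (b : ℕ)) x), hxy, add_comm]
    · exact h00 _ _ _
  refine ⟨x, y, ?_, hgram⟩
  rw [Fintype.linearIndependent_iff]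
  intro c hc
  set q1 : F[X] := ∑ a : Fin 3, C (c (Sum.inl a)) * X ^ (a : ℕ)
  set q2 : F[X] := ∑ a : Fin 3, C (c (Sum.inr a)) * X ^ (a : ℕ)
  have hc' : aeval J q1 x + aeval J q2 y = 0 := by
    rw [← hc, Fintype.sum_sum_type]
    simp [q1, q2, jFam, map_sum, LinearMap.sum_apply, Module.algebraMap_end_apply]
  have hdeg : ∀ f : Fin 3 → F, (∑ a : Fin 3, C (f a) * X ^ (a : ℕ) : F[X]).natDegree < 3 := fun f =>
    lt_of_le_of_lt (natDegree_sum_le_of_forall_le (n := 2) _ _ fun a _ =>
      (natDegree_C_mul_X_pow_le _ _).trans (by omega)) (by norm_num)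
  have hq2 : q2 = 0 := by
    by_contra hne
    have hne' : aeval J q2 ≠ 0 := by
      intro h'
      have h1 := minpoly.dvd F J h'
      rw [(minpoly.eq_of_irreducible_of_monic hp h0 hpm).symm] at h1
      have := Polynomial.natDegree_le_of_dvd h1 hne
      have h3 : q2.natDegree < 3 := hdeg _
      omega
    obtain ⟨e, he⟩ := aeval_inv hp h0 hne'
    have := congrArg (fun v => B x (aeval J e v)) hc'
    simp only [map_add, map_zero] at this
    rw [← Module.End.mul_apply, ← Module.End.mul_apply, he, Module.End.one_apply, ← map_mul,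
      sa_self hA h2 (sa_aeval hJ _), zero_add] at this
    have h1 := hy 0
    simp only [Fin.val_zero, pow_zero, Module.End.one_apply, if_true] at h1
    exact one_ne_zero (h1.symm.trans this)
  rw [hq2, map_zero, LinearMap.zero_apply, add_zero] at hc'
  have hq1 := hinj q1 (hdeg _) hc'
  have hcoef : ∀ f : Fin 3 → F, (∑ a : Fin 3, C (f a) * X ^ (a : ℕ) : F[X]) = 0 → ∀ a, f a = 0 := by
    intro f hf a
    have := congrArg (fun q : F[X] => q.coeff (a : ℕ)) hf
    fin_cases a <;> simpa [finset_sum_coeff, coeff_C_mul_X_pow, Fin.sum_univ_three] using this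
  rintro (a | a)
  · exact hcoef _ hq1 a
  · exact hcoef _ hq2 a

/-- Any two self-adjoint roots of an irreducible cubic are conjugate by an isometry. -/
theorem exists_iso_root (hA : B.IsAlt) (hB : B.Nondegenerate) (h6 : finrank F V = 6) (hA' : B'.IsAlt)
    (hB' : B'.Nondegenerate) (h6' : finrank F V' = 6) (h2 : (2 : F) ≠ 0) {J : Module.End F V} (hJ : SA B J)
    {J' : Module.End F V'} (hJ' : SA B' J') {p : F[X]} (hpm : p.Monic) (hp : Irreducible p) (hd : p.natDegree = 3)
    (h0 : aeval J p = 0) (h0' : aeval J' p = 0) :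
    ∃ e : V ≃ₗ[F] V', (∀ x y, B' (e x) (e y) = B x y) ∧ ∀ v, e (J v) = J' (e v) := by
  obtain ⟨x, y, hb, hg⟩ := exists_frame hA hB h6 h2 hJ hpm hp hd h0
  obtain ⟨x', y', hb', hg'⟩ := exists_frame hA' hB' h6' h2 hJ' hpm hp hd h0'
  have hcard : Fintype.card (Fin 3 ⊕ Fin 3) = 6 := rfl
  obtain ⟨e, he, heb⟩ := exists_iso_of_gram (B := B) (B' := B') _ _ hb hb' (hcard.trans h6.symm)
    (hcard.trans h6'.symm) (fun i j => by rw [hg, hg'])
  refine ⟨e, he, intertwine hb (hcard.trans h6.symm) (e : V →ₗ[F] V') J J' ?_⟩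
  have hk : ∀ n : ℕ, n ≤ 3 → e ((J ^ n) x) = (J' ^ n) x' ∧ e ((J ^ n) y) = (J' ^ n) y' := by
    intro n hn
    rcases Nat.lt_or_eq_of_le hn with h | rfl
    · exact ⟨heb (Sum.inl ⟨n, h⟩), heb (Sum.inr ⟨n, h⟩)⟩
    have hsum : aeval J p = aeval J (∑ i ∈ Finset.range 3, C (p.coeff i) * X ^ i) + J ^ 3 ∧
        aeval J' p = aeval J' (∑ i ∈ Finset.range 3, C (p.coeff i) * X ^ i) + J' ^ 3 := by
      constructor <;> · conv_lhs => rw [hpm.as_sum, hd]
                        rw [map_add, map_pow, aeval_X, add_comm]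
    rw [h0, h0'] at hsum
    rw [eq_neg_of_add_eq_zero_right hsum.1.symm, eq_neg_of_add_eq_zero_right hsum.2.symm]
    have hl : ∀ i : Fin 3, e ((J ^ (i : ℕ)) x) = (J' ^ (i : ℕ)) x' ∧ e ((J ^ (i : ℕ)) y) = (J' ^ (i : ℕ)) y' :=
      fun i => ⟨heb (Sum.inl i), heb (Sum.inr i)⟩
    have l0 := hl 0
    have l1 := hl 1
    have l2 := hl 2
    simp only [Fin.val_zero, Fin.val_one, Fin.val_two, pow_zero, pow_one, Module.End.one_apply] at l0 l1 l2
    simp [map_sum, Finset.sum_range_succ, Module.algebraMap_end_apply, l0, l1, l2, map_add, map_smul]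
  intro i
  simp only [LinearEquiv.coe_coe, heb]
  rcases i with a | a
  · show e (J ((J ^ (a : ℕ)) x)) = J' ((J' ^ (a : ℕ)) x')
    rw [← Module.End.mul_apply, ← pow_succ', ← Module.End.mul_apply, ← pow_succ']
    exact (hk _ (by omega)).1
  · show e (J ((J ^ (a : ℕ)) y)) = J' ((J' ^ (a : ℕ)) y')
    rw [← Module.End.mul_apply, ← pow_succ', ← Module.End.mul_apply, ← pow_succ']
    exact (hk _ (by omega)).2

/-- Six-dimensional symplectic spaces are isometric. -/
theorem exists_iso_space (hA : B.IsAlt) (hB : B.Nondegenerate) (h6 : finrank F V = 6) (hA' : B'.IsAlt)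
    (hB' : B'.Nondegenerate) (h6' : finrank F V' = 6) : ∃ e : V ≃ₗ[F] V', ∀ x y, B' (e x) (e y) = B x y := by
  obtain ⟨m, e, f, hb, hm⟩ := Alt.exists_sympBasis hA ⊤ (Alt.ndon_top hB)
  obtain ⟨m', e', f', hb', hm'⟩ := Alt.exists_sympBasis hA' ⊤ (Alt.ndon_top hB')
  rw [finrank_top, h6] at hm
  rw [finrank_top, h6'] at hm'
  obtain rfl : m' = m := by omega
  have hcard : Fintype.card (Fin m' ⊕ Fin m') = 6 := by
    rw [Fintype.card_sum, Fintype.card_fin]; omega
  obtain ⟨ψ, hψ, -⟩ := exists_iso_of_gram (B := B) (B' := B') _ _ (hb.linearIndependent hA)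
    (hb'.linearIndependent hA') (hcard.trans h6.symm) (hcard.trans h6'.symm) (by
      rintro (i | i) (j | j) <;>
        simp [hb.ee, hb.ff, hb.ef, hb'.ee, hb'.ff, hb'.ef, Alt.neg' hA (e _) (f _), Alt.neg' hA' (e' _) (f' _)])
  exact ⟨ψ, hψ⟩

end Conj

section Group

open Matrix

variable {F : Type} [Field F] [Fintype F]

local notation "V" => Fin 3 ⊕ Fin 3 → F
local notation "G" => Matrix.symplecticGroup (Fin 3) F

/-- The stabiliser of the first hyperbolic plane. -/
def planeStab (u v : V) : Subgroup G :=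
  finSubgroup (fun A => ∀ w ∈ Submodule.span F {u, v}, A.1 *ᵥ w ∈ Submodule.span F {u, v})
    (fun w hw => by rwa [Submonoid.coe_one, one_mulVec])
    (fun A A' hA hA' w hw => by rw [Submonoid.coe_mul, ← mulVec_mulVec]; exact hA _ (hA' _ hw))

/-- The normaliser of the algebra generated by `J`. -/
noncomputable def algStab (J : Module.End F V) : Subgroup G :=
  finSubgroup (fun A => ∃ r : F[X], ∀ w, A.1 *ᵥ (J w) = aeval J r (A.1 *ᵥ w))
    ⟨Polynomial.X, fun w => by rw [Submonoid.coe_one, one_mulVec, one_mulVec, aeval_X]⟩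
    (by
      rintro A A' ⟨r, hr⟩ ⟨r', hr'⟩
      refine ⟨r'.comp r, fun w => ?_⟩
      rw [Submonoid.coe_mul, ← mulVec_mulVec, ← mulVec_mulVec, hr']
      have : ∀ (q : F[X]) (w : V), A.1 *ᵥ (aeval J q w) = aeval J (q.comp r) (A.1 *ᵥ w) := by
        intro q
        induction q using Polynomial.induction_on with
        | C a => intro w; simp [Module.algebraMap_end_apply, mulVec_smul]
        | add a b ha hb => intro w; simp [ha, hb, mulVec_add]
        | monomial k a ih =>
          intro w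
          rw [pow_succ, ← mul_assoc, map_mul, aeval_X, Module.End.mul_apply, ih, hr]
          simp only [Polynomial.mul_comp, X_comp, map_mul, Module.End.mul_apply]
      exact this r' _)

/-- The covering of `PSp₆` in characteristic three. -/
theorem psp_six {a : ℕ} (ha : 1 ≤ a) (hF : Fintype.card F = 3 ^ a) :
    ∃ H K : Subgroup (Cfsg.PSp 3 F), H ≠ ⊤ ∧ K ≠ ⊤ ∧
      ∀ g : Cfsg.PSp 3 F, ∃ x, x * g * x⁻¹ ∈ H ∨ x * g * x⁻¹ ∈ K := by
  haveI : Fact (Nat.Prime 3) := ⟨Nat.prime_three⟩
  haveI : CharP F 3 := charP_of_card_eq_prime_pow hF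
  have h3 : (3 : F) = 0 := by exact_mod_cast CharP.cast_eq_zero F 3
  have h20 : (2 : F) ≠ 0 := fun h => one_ne_zero (α := F) (by linear_combination h3 - h)
  obtain ⟨E, _, _, _, ⟨D⟩⟩ := exists_cubic F
  haveI : FiniteDimensional F E := Module.Finite.of_finite
  set B := sympB 3 F
  have hA : B.IsAlt := sympB_isAlt
  have hB : B.Nondegenerate := sympB_nondeg
  have h6 : finrank F V = 6 := finrank_symp
  have h6' := finrank_model D
  have hBE : (trForm F E).Nondegenerate := trForm_nondeg
  set p := minpoly F D.θ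
  have hp : Irreducible p := minpoly.irreducible (IsIntegral.of_finite F D.θ)
  have hpm : p.Monic := minpoly.monic (IsIntegral.of_finite F D.θ)
  have hd : p.natDegree = 3 := θ_deg D
  obtain ⟨ψ, hψ⟩ := exists_iso_space hA hB h6 trForm_isAlt hBE h6'
  set J : Module.End F V := LinearEquiv.conjAlgEquiv F ψ.symm (J₀ D)
  have hJ : SA B J := fun x y => by
    show B (ψ.symm (J₀ D (ψ x))) y = B x (ψ.symm (J₀ D (ψ y)))
    rw [← hψ, LinearEquiv.apply_symm_apply, J₀_sa D, ← hψ x, LinearEquiv.apply_symm_apply]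
  have hJp : aeval J p = 0 := by rw [aeval_algEquiv, AlgHom.comp_apply, J₀_root D, map_zero]
  -- the normal forms
  have hscale : ∀ c : F, c ≠ 0 → (c • trForm F E).IsAlt := fun c _ x => by simp [trForm_isAlt x]
  have hNF : ∀ (g : V ≃ₗ[F] V), (∀ x y, B (g x) (g y) = B x y) → ∀ (t r : F), (t = 2 ∨ t * t ≠ 4) → r ≠ 0 →
      ∀ v, NF B g t v r → KCase B p g := by
    intro g hg t r ht hr v hv
    obtain ⟨g', hg', hk, v', r', hr', hn⟩ : ∃ g' : (E × E) ≃ₗ[F] E × E,
        (∀ x y, trForm F E (g' x) (g' y) = trForm F E x y) ∧ KCase (trForm F E) p g' ∧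
          ∃ v' r', r' ≠ 0 ∧ NF (trForm F E) g' t v' r' := by
      rcases ht with rfl | ht
      · exact ⟨gU D, gU_iso D, gU_kcase D, gU_nf D h3⟩
      · exact ⟨gS D t, gS_iso D t, gS_kcase D t, gS_nf D h3 ht⟩
    have hc : r / r' ≠ 0 := div_ne_zero hr hr'
    have hn' : NF ((r / r') • trForm F E) g' t v' r :=
      ⟨hn.cube, by simp [hn.z0], by simp [hn.z1], by simp [hn.z2, div_mul_cancel₀ _ hr']⟩
    have hg'' : ∀ x y, ((r / r') • trForm F E) (g' x) (g' y) = ((r / r') • trForm F E) x y :=
      fun x y => by simp [hg']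
    obtain ⟨e, he, heg⟩ := nf_iso hA (hscale _ hc) h20 h6 h6' hg hg'' hr hv hn'
    exact kcase_transfer e he heg (kcase_smul hc hk)
  have hNF3 : ∀ (g : V ≃ₗ[F] V), (∀ x y, B (g x) (g y) = B x y) → ∀ v w, NF3 B g v w → KCase B p g := by
    intro g hg v w hv
    obtain ⟨v', w', hn⟩ := gF_nf3 D h3
    obtain ⟨e, he, heg⟩ := nf3_iso hA trForm_isAlt h20 h6 h6' hg (gF_iso D) hv hn
    exact kcase_transfer e he heg (gF_kcase D)
  let u0 : V := Pi.single (Sum.inr 0) 1
  let v0 : V := Pi.single (Sum.inl 0) 1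
  have hv : ∀ u w : Fin 3 ⊕ Fin 3, B (Pi.single u 1) (Pi.single w 1) = Matrix.J (Fin 3) F u w :=
    fun u w => Matrix.toBilin'_single _ _ _
  have huv : B u0 v0 = 1 := by simp [u0, v0, hv, Matrix.J]
  refine lift _ (planeStab u0 v0) (algStab J) ?_ ?_ ?_ ?_ ?_
  · intro h
    let z : V := Pi.single (Sum.inr 0) 1 + Pi.single (Sum.inr 1) 1
    let T : G := ⟨_, sympTransvection_mem z 1⟩
    have hm : T ∈ planeStab u0 v0 := h ▸ Subgroup.mem_top _
    have h1 := mem_finSubgroup.1 hm v0 (Submodule.subset_span (by simp))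
    rw [sympTransvection_mulVec] at h1
    obtain ⟨c, d, hcd⟩ := Submodule.mem_span_pair.1 h1
    have h2 := congrFun hcd (Sum.inr 1)
    simp [u0, v0, z, sympB_eq_sum, Fin.sum_univ_three] at h2
  · intro h
    haveI : Nontrivial V := nontrivial_symp (by norm_num)
    obtain ⟨v, hv0⟩ := exists_ne (0 : V)
    let T : G := ⟨_, sympTransvection_mem v 1⟩
    have hm : T ∈ algStab J := h ▸ Subgroup.mem_top _
    obtain ⟨r, hr⟩ := mem_finSubgroup.1 hm
    simp only [T, sympTransvection_mulVec, one_mul] at hr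
    obtain ⟨x, hx, hx0⟩ : ∃ x ∈ B.orthogonal (Submodule.span F (Set.range ![v, J v])), x ≠ 0 := by
      refine Submodule.exists_mem_ne_zero_of_ne_bot fun hbot => ?_
      have h1 := LinearMap.BilinForm.finrank_orthogonal hB (Submodule.span F (Set.range ![v, J v]))
      rw [hbot, finrank_bot, h6] at h1
      have := finrank_range_le_card (R := F) ![v, J v]
      simp only [Set.finrank, Fintype.card_fin] at this
      omega
    have hvx : B v x = 0 := hx v (Submodule.subset_span ⟨0, rfl⟩)
    have hJvx : B (J v) x = 0 := hx (J v) (Submodule.subset_span ⟨1, rfl⟩)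
    have hxv : B x v = 0 := by rw [Alt.neg' hA v x, hvx, neg_zero]
    have hJxv : B (J x) v = 0 := by rw [hJ, Alt.neg' hA (J v) x, hJvx, neg_zero]
    have hrx : aeval J (r - Polynomial.X) x = 0 := by
      have := hr x
      rw [show sympB 3 F x v = 0 from hxv, show sympB 3 F (J x) v = 0 from hJxv] at this
      simp only [zero_smul, add_zero] at this
      rw [map_sub, aeval_X, LinearMap.sub_apply, ← this, sub_self]
    have hreq : aeval J (r - Polynomial.X) = 0 := by
      by_contra hne
      obtain ⟨e, he⟩ := aeval_inv hp hJp hne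
      have := congrArg (fun T : Module.End F V => T x) he
      simp only [Module.End.mul_apply, hrx, map_zero, Module.End.one_apply] at this
      exact hx0 this.symm
    rw [map_sub, aeval_X, sub_eq_zero] at hreq
    obtain ⟨w, hw⟩ : ∃ w, B w v ≠ 0 := by
      by_contra h'
      push Not at h'
      exact hv0 (hB.2 v h')
    have := hr w
    rw [hreq, map_add, map_smul, add_left_cancel_iff] at this
    have hq : aeval J (Polynomial.C (B (J w) v) - Polynomial.C (B w v) * Polynomial.X) v = 0 := by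
      simp only [map_sub, map_mul, aeval_C, aeval_X, LinearMap.sub_apply, Module.End.mul_apply,
        Module.algebraMap_end_apply]
      exact sub_eq_zero.2 this
    have hne : aeval J (Polynomial.C (B (J w) v) - Polynomial.C (B w v) * Polynomial.X) ≠ 0 := by
      intro h'
      have h1 := minpoly.dvd F J h'
      rw [(minpoly.eq_of_irreducible_of_monic hp hJp hpm).symm] at h1
      have hne0 : (Polynomial.C (B (J w) v) - Polynomial.C (B w v) * Polynomial.X : F[X]) ≠ 0 := by
        intro h''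
        have := congrArg (fun q : F[X] => q.coeff 1) h''
        simp at this
        exact hw this
      have h2 := Polynomial.natDegree_le_of_dvd h1 hne0
      have h3 : (Polynomial.C (B (J w) v) - Polynomial.C (B w v) * Polynomial.X : F[X]).natDegree ≤ 1 :=
        (natDegree_sub_le _ _).trans (max_le (by simp) ((natDegree_C_mul_le _ _).trans (by simp)))
      omega
    obtain ⟨e, he⟩ := aeval_inv hp hJp hne
    have := congrArg (fun T : Module.End F V => T v) he
    simp only [Module.End.mul_apply, hq, map_zero, Module.End.one_apply] at this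
    exact hv0 this.symm
  · intro z hz w hw
    obtain ⟨c, -, hc⟩ := sp_center_scalar (by norm_num) hz
    rw [hc]
    exact Submodule.smul_mem _ _ hw
  · intro z hz
    obtain ⟨c, -, hc⟩ := sp_center_scalar (by norm_num) hz
    refine ⟨Polynomial.X, fun w => ?_⟩
    rw [hc, hc, aeval_X, map_smul]
  intro g
  set gl := spLin g
  have hgl : ∀ x y, B (gl x) (gl y) = B x y := fun x y => (mem_symplectic_iff g.1).1 g.2 x y
  rcases classify hA hB h6 h3 hp hd hNF hNF3 gl hgl with ⟨u, v, h1, h2, h4⟩ | ⟨J', hJ', hJ'p, r, hr⟩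
  · have hu : u ∈ (⊤ : Submodule F V) := trivial
    obtain ⟨t, ht, htu, htv⟩ := Alt.exists_map_pair hA (Alt.ndon_top hB) hu trivial (u' := u0) (v' := v0)
      trivial trivial h1 huv
    obtain ⟨x, hx⟩ := exists_sp_of_iso t (fun a b => Alt.TG_le_isoGroup hA ⊤ ht a b)
    refine ⟨x, Or.inl (mem_finSubgroup.2 fun w hw => ?_)⟩
    have hspan : (Submodule.span F {u, v}).map (t : V →ₗ[F] V) = Submodule.span F {u0, v0} := by
      rw [Submodule.map_span, Set.image_pair]
      simp [htu, htv]
    rw [← hspan] at hw ⊢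
    obtain ⟨w', hw', rfl⟩ := Submodule.mem_map.1 hw
    rw [sp_conj_mulVec, show (x⁻¹).1 *ᵥ (t : V →ₗ[F] V) w' = w' by
      rw [show (t : V →ₗ[F] V) w' = x.1 *ᵥ w' from (hx w').symm, sp_inv_mulVec]]
    refine Submodule.mem_map.2 ⟨g.1 *ᵥ w', ?_, (hx _).symm⟩
    obtain ⟨c, d, rfl⟩ := Submodule.mem_span_pair.1 hw'
    rw [mulVec_add, mulVec_smul, mulVec_smul]
    exact add_mem (Submodule.smul_mem _ _ h2) (Submodule.smul_mem _ _ h4)
  · obtain ⟨e, he, heJ⟩ := exists_iso_root hA hB h6 hA hB h6 h20 hJ' hJ hpm hp hd hJ'p hJp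
    obtain ⟨x, hx⟩ := exists_sp_of_iso e he
    refine ⟨x, Or.inr (mem_finSubgroup.2 ⟨r, fun w => ?_⟩)⟩
    obtain ⟨w, rfl⟩ := e.surjective w
    have hq : ∀ (q : F[X]) (u : V), e (aeval J' q u) = aeval J q (e u) := by
      intro q
      induction q using Polynomial.induction_on with
      | C a => intro u; simp [Module.algebraMap_end_apply]
      | add a b ha hb => intro u; simp [ha, hb]
      | monomial k a ih =>
        intro u
        rw [pow_succ, ← mul_assoc, map_mul (aeval J') (_ * _), map_mul (aeval J) (_ * _), aeval_X, aeval_X,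
          Module.End.mul_apply, Module.End.mul_apply, ih, heJ]
    rw [← heJ, sp_conj_mulVec, sp_conj_mulVec, ← hx, ← hx, sp_inv_mulVec, sp_inv_mulVec, hx, hx, ← hq]
    congr 1
    exact LinearMap.congr_fun hr w

end Group

end Cfsg.Agent.Covering2.Symp6
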