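import Cfsg.Agent.Covering2.Lift
import Cfsg.Agent.Classical.AltBasis
import Mathlib

/-!
Isometries of a six-dimensional symplectic space: the two kinds of covering subgroups and the
elementary tools (self-adjoint maps, bases with prescribed Gram matrix).
-/

set_option autoImplicit false

namespace Cfsg.Agent.Covering2.Symp6

open Polynomial Module Cfsg.Agent.Classical

variable {F V : Type*} [Field F] [AddCommGroup V] [Module F V]
variable {V' : Type*} [AddCommGroup V'] [Module F V']
variable {B : LinearMap.BilinForm F V} {B' : LinearMap.BilinForm F V'}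

/-- Self-adjoint endomorphisms. -/
def SA (B : LinearMap.BilinForm F V) (S : Module.End F V) : Prop := ∀ x y, B (S x) y = B x (S y)

/-- `g` stabilises a hyperbolic plane. -/
def HCase (B : LinearMap.BilinForm F V) (g : V ≃ₗ[F] V) : Prop :=
  ∃ u v : V, B u v = 1 ∧ g u ∈ Submodule.span F {u, v} ∧ g v ∈ Submodule.span F {u, v}

/-- `g` normalises the algebra generated by a self-adjoint root of `p`. -/
def KCase (B : LinearMap.BilinForm F V) (p : F[X]) (g : V ≃ₗ[F] V) : Prop :=
  ∃ J : Module.End F V, SA B J ∧ aeval J p = 0 ∧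
    ∃ r : F[X], (g : Module.End F V) * J = aeval J r * (g : Module.End F V)

theorem sa_aeval {S : Module.End F V} (h : SA B S) (q : F[X]) : SA B (aeval S q) := by
  induction q using Polynomial.induction_on' with
  | add a b ha hb => intro x y; simp [map_add, ha x y, hb x y]
  | monomial k c =>
    have hk : ∀ k, SA B (S ^ k) := by
      intro k
      induction k with
      | zero => intro x y; simp
      | succ k ih =>
        intro x y
        calc B ((S ^ (k + 1)) x) y = B ((S ^ k) (S x)) y := by rw [pow_succ]; rfl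
          _ = B x (S ((S ^ k) y)) := by rw [ih, h]
          _ = B x ((S ^ (k + 1)) y) := by rw [pow_succ']; rfl
    intro x y
    simp [aeval_monomial, hk k x y]

theorem sa_self (hA : B.IsAlt) (h2 : (2 : F) ≠ 0) {S : Module.End F V} (h : SA B S) (x : V) : B x (S x) = 0 := by
  have e := h x x
  rw [Alt.neg' hA x (S x)] at e
  exact (mul_eq_zero.1 (show 2 * B x (S x) = 0 by linear_combination -e)).resolve_left h2

/-- A family with a dual family is linearly independent. -/
theorem indep_of_dual {ι : Type*} [Fintype ι] [DecidableEq ι] (b b' : ι → V) (c : ι → F) (hc : ∀ i, c i ≠ 0)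
    (h : ∀ i j, B (b i) (b' j) = if i = j then c i else 0) : LinearIndependent F b := by
  rw [Fintype.linearIndependent_iff]
  intro a ha i
  have := congrArg (fun x => B x (b' i)) ha
  simp only [map_sum, map_smul, LinearMap.sum_apply, LinearMap.smul_apply, h, smul_eq_mul, map_zero,
    LinearMap.zero_apply, mul_ite, mul_zero, Finset.sum_ite_eq', Finset.mem_univ, if_true] at this
  exact (mul_eq_zero.1 this).resolve_right (hc i)

/-- Two bases with the same Gram matrix give an isometry. -/
theorem exists_iso_of_gram [FiniteDimensional F V] [FiniteDimensional F V'] {ι : Type*} [Fintype ι]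
    (b : ι → V) (b' : ι → V') (hb : LinearIndependent F b) (hb' : LinearIndependent F b')
    (hn : Fintype.card ι = finrank F V) (hn' : Fintype.card ι = finrank F V')
    (h : ∀ i j, B (b i) (b j) = B' (b' i) (b' j)) :
    ∃ e : V ≃ₗ[F] V', (∀ x y, B' (e x) (e y) = B x y) ∧ ∀ i, e (b i) = b' i := by
  let β : Basis ι F V := Basis.mk hb (by
    have := hb.span_eq_top_of_card_eq_finrank' hn
    rw [this])
  let β' : Basis ι F V' := Basis.mk hb' (by
    have := hb'.span_eq_top_of_card_eq_finrank' hn'
    rw [this])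
  let e := β.equiv β' (Equiv.refl ι)
  have he : ∀ i, e (b i) = b' i := fun i => by
    have := β.equiv_apply i β' (Equiv.refl ι)
    simpa [e, β, β'] using this
  refine ⟨e, fun x y => ?_, he⟩
  have := LinearMap.BilinForm.ext_basis β (B := B'.comp (e : V →ₗ[F] V') (e : V →ₗ[F] V')) (F₂ := B)
    (fun i j => by simpa [β, he] using (h i j).symm)
  exact congrArg (fun C : LinearMap.BilinForm F V => C x y) this

/-- Two maps agreeing on a basis with a common intertwining rule. -/
theorem intertwine [FiniteDimensional F V] {ι : Type*} [Fintype ι] {b : ι → V} (hb : LinearIndependent F b)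
    (hn : Fintype.card ι = finrank F V) (e : V →ₗ[F] V') (S : Module.End F V) (S' : Module.End F V')
    (h : ∀ i, e (S (b i)) = S' (e (b i))) : ∀ x, e (S x) = S' (e x) := fun x => by
  have hx : x ∈ Submodule.span F (Set.range b) := by
    rw [hb.span_eq_top_of_card_eq_finrank' hn]
    trivial
  induction hx using Submodule.span_induction with
  | mem x hx => obtain ⟨i, rfl⟩ := hx; exact h i
  | zero => simp
  | add x y _ _ a b => simp [a, b]
  | smul c x _ a => simp [a]

theorem kcase_transfer (e : V ≃ₗ[F] V') (he : ∀ x y, B' (e x) (e y) = B x y) {p : F[X]} {g : V ≃ₗ[F] V}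
    {g' : V' ≃ₗ[F] V'} (hg : ∀ x, e (g x) = g' (e x)) (h : KCase B' p g') : KCase B p g := by
  obtain ⟨J, hJ, hp, r, hr⟩ := h
  let c := (LinearEquiv.conjAlgEquiv F e.symm)
  refine ⟨c J, fun x y => ?_, by rw [aeval_algEquiv, AlgHom.comp_apply, hp, map_zero], r, ?_⟩
  · show B (e.symm (J (e x))) y = B x (e.symm (J (e y)))
    rw [← he, LinearEquiv.apply_symm_apply, hJ, ← he x, LinearEquiv.apply_symm_apply]
  · have hgc : (g : Module.End F V) = c (g' : Module.End F V') := LinearMap.ext fun x => by
      show g x = e.symm (g' (e x))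
      rw [← hg, LinearEquiv.symm_apply_apply]
    rw [hgc, aeval_algEquiv, AlgHom.comp_apply, ← map_mul, hr]
    exact map_mul c _ _

theorem kcase_smul {c : F} (hc : c ≠ 0) {p : F[X]} {g : V ≃ₗ[F] V} (h : KCase B p g) : KCase (c • B) p g := by
  obtain ⟨J, hJ, hp, r, hr⟩ := h
  exact ⟨J, fun x y => by simp [hJ x y], hp, r, hr⟩

variable [FiniteDimensional F V]

/-- Totally isotropic subspaces have at most half the dimension. -/
theorem ti_bound (hA : B.IsAlt) (hB : B.Nondegenerate) {S : Submodule F V}
    (h : ∀ x ∈ S, ∀ y ∈ S, B x y = 0) : 2 * finrank F S ≤ finrank F V := by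
  have h1 : S ≤ B.orthogonal S := fun x hx y hy => h y hy x hx
  have h2 := LinearMap.BilinForm.finrank_orthogonal hB S
  have h3 := Submodule.finrank_mono h1
  have := Submodule.finrank_le S
  omega

theorem hcase_of_two (hA : B.IsAlt) {g : V ≃ₗ[F] V} (W : Submodule F V) (hW : Alt.NDon B W)
    (hd : finrank F W = 2) (hinv : ∀ x ∈ W, g x ∈ W) : HCase B g := by
  obtain ⟨m, e, f, hb, hm⟩ := Alt.exists_sympBasis hA W hW
  obtain rfl : m = 1 := by omega
  have hle : W ≤ Submodule.span F {e 0, f 0} := by
    refine hb.span.trans (Submodule.span_le.2 ?_)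
    rintro _ ⟨i | i, rfl⟩ <;> rw [Subsingleton.elim i 0] <;> exact Submodule.subset_span (by simp)
  exact ⟨e 0, f 0, by simpa using hb.ef 0 0, hle (hinv _ (hb.mem_e 0)), hle (hinv _ (hb.mem_f 0))⟩

/-- A proper nonzero invariant nondegenerate subspace gives a stabilised plane. -/
theorem hcase_of_sub (hA : B.IsAlt) (hB : B.Nondegenerate) (h6 : finrank F V = 6) {g : V ≃ₗ[F] V}
    (hg : ∀ x y, B (g x) (g y) = B x y) (W : Submodule F V) (hW : Alt.NDon B W) (h0 : W ≠ ⊥) (h1 : W ≠ ⊤)
    (hinv : ∀ x ∈ W, g x ∈ W) : HCase B g := by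
  obtain ⟨m, -, -, -, hm⟩ := Alt.exists_sympBasis hA W hW
  have hlt := Submodule.finrank_lt h1
  have hpos : finrank F W ≠ 0 := fun h => h0 (Submodule.finrank_eq_zero.1 h)
  by_cases h2 : finrank F W = 2
  · exact hcase_of_two hA W hW h2 hinv
  have h4 : finrank F W = 4 := by omega
  have hfr := LinearMap.BilinForm.finrank_orthogonal hB W
  have hdis : W ⊓ B.orthogonal W = ⊥ := by
    rw [eq_bot_iff]
    rintro x ⟨hx, hx'⟩
    by_contra hx0
    obtain ⟨z, hz, hne⟩ := hW x hx (by simpa using hx0)
    exact hne (by rw [Alt.neg' hA z x, show B z x = 0 from hx' z hz, neg_zero])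
  have hsup : W ⊔ B.orthogonal W = ⊤ := by
    apply Submodule.eq_top_of_finrank_eq
    have := Submodule.finrank_sup_add_finrank_inf_eq W (B.orthogonal W)
    rw [hdis, finrank_bot] at this
    omega
  have hmap : W.map (g : V →ₗ[F] V) = W := by
    refine Submodule.eq_of_le_of_finrank_eq (Submodule.map_le_iff_le_comap.2 hinv) ?_
    exact LinearEquiv.finrank_map_eq g W
  refine hcase_of_two hA (B.orthogonal W) (fun w hw hw0 => ?_) (by omega) fun x hx z hz => ?_
  · by_contra hc
    push Not at hc
    refine hw0 (hB.1 w fun y => ?_)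
    obtain ⟨a, ha, b, hb, rfl⟩ := Submodule.mem_sup.1 (hsup ▸ Submodule.mem_top (x := y))
    rw [map_add, hc b hb, Alt.neg' hA a w, show B a w = 0 from hw a ha]
    simp
  · obtain ⟨z', hz', rfl⟩ := Submodule.mem_map.1 (hmap.symm ▸ hz : z ∈ W.map (g : V →ₗ[F] V))
    show B (g z') (g x) = 0
    rw [hg]
    exact hx z' hz'

end Cfsg.Agent.Covering2.Symp6
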