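import Cfsg.Agent.Covering2.Symp6Forms
import Mathlib

/-!
Every isometry of a six-dimensional symplectic space in characteristic three stabilises a hyperbolic
plane, normalises a self-adjoint cubic field, or has one of two normal forms.
-/

set_option autoImplicit false

namespace Cfsg.Agent.Covering2.Symp6

open Polynomial Module Cfsg.Agent.Classical

variable {F V : Type*} [Field F] [AddCommGroup V] [Module F V] [FiniteDimensional F V]
variable {B : LinearMap.BilinForm F V}

omit [FiniteDimensional F V] in
theorem aeval_inv {J : Module.End F V} {p q : F[X]} (hp : Irreducible p) (hJ : aeval J p = 0)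
    (hq : aeval J q ≠ 0) : ∃ e : F[X], aeval J e * aeval J q = 1 := by
  have hnd : ¬ p ∣ q := fun ⟨c, hc⟩ => hq (by rw [hc, map_mul, hJ, zero_mul])
  obtain ⟨a, b, hab⟩ := hp.coprime_iff_not_dvd.2 hnd
  refine ⟨b, ?_⟩
  have := congrArg (aeval J) hab
  rwa [map_add, map_mul, map_mul, map_one, hJ, mul_zero, zero_add] at this

omit [FiniteDimensional F V] in
theorem commute_aeval {g : V ≃ₗ[F] V} {J : Module.End F V} (h : ∀ x, J (g x) = g (J x)) (q : F[X]) (x : V) :
    aeval J q (g x) = g (aeval J q x) := by
  induction q using Polynomial.induction_on' with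
  | add a b ha hb => simp [map_add, ha, hb]
  | monomial k c =>
    have hk : ∀ k (x : V), (J ^ k) (g x) = g ((J ^ k) x) := by
      intro k
      induction k with
      | zero => intro x; rfl
      | succ k ih => intro x; rw [pow_succ, Module.End.mul_apply, Module.End.mul_apply, h, ih]
    simp [aeval_monomial, hk, map_smul]

omit [FiniteDimensional F V] in
theorem jm_comm (g : V ≃ₗ[F] V) (x : V) : jm g (g x) = g (jm g x) := by simp [jm_apply, map_add]

theorem split_case (hA : B.IsAlt) (hB : B.Nondegenerate) (h6 : finrank F V = 6) {g : V ≃ₗ[F] V}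
    (hg : ∀ x y, B (g x) (g y) = B x y) {a b : F[X]} (hab : minpoly F (jm g) = a * b) (hco : IsCoprime a b)
    (ha : a.natDegree ≠ 0) (hb : b.natDegree ≠ 0) : HCase B g := by
  set J := jm g
  have hint : IsIntegral F J := IsIntegral.of_finite F J
  have hμ0 : a * b ≠ 0 := hab ▸ minpoly.ne_zero hint
  have ha0 : a ≠ 0 := left_ne_zero_of_mul hμ0
  have hb0 : b ≠ 0 := right_ne_zero_of_mul hμ0
  have hz : ∀ x, aeval J a (aeval J b x) = 0 := fun x => by
    rw [← Module.End.mul_apply, ← map_mul, ← hab, minpoly.aeval, LinearMap.zero_apply]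
  have hz' : ∀ x, aeval J b (aeval J a x) = 0 := fun x => by
    rw [← Module.End.mul_apply, ← map_mul, mul_comm b a, ← hab, minpoly.aeval, LinearMap.zero_apply]
  obtain ⟨u, w, huw⟩ := hco
  have hsum : ∀ x, aeval J u (aeval J a x) + aeval J w (aeval J b x) = x := fun x => by
    rw [← Module.End.mul_apply, ← Module.End.mul_apply, ← map_mul, ← map_mul, ← LinearMap.add_apply, ← map_add,
      huw, map_one, Module.End.one_apply]
  have hcm : ∀ (p q : F[X]) (x : V), aeval J p (aeval J q x) = aeval J q (aeval J p x) := fun p q x => by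
    rw [← Module.End.mul_apply, ← map_mul, mul_comm, map_mul, Module.End.mul_apply]
  refine hcase_of_sub hA hB h6 hg (LinearMap.ker (aeval J a)) ?_ ?_ ?_ ?_
  · intro x hx hx0
    by_contra hc
    push Not at hc
    refine hx0 (hB.1 x fun y => ?_)
    rw [← hsum y, map_add, ← sa_aeval (sa_jm hg) u, ← sa_aeval (sa_jm hg) a, hcm a u,
      LinearMap.mem_ker.1 hx, map_zero, map_zero, LinearMap.zero_apply, zero_add]
    refine hc _ (LinearMap.mem_ker.2 ?_)
    rw [hcm a w, hz, map_zero]
  · intro h
    have : aeval J b = 0 := LinearMap.ext fun x => by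
      have hx : aeval J b x ∈ LinearMap.ker (aeval J a) := hz x
      rw [h, Submodule.mem_bot] at hx
      exact hx
    have hd := Polynomial.natDegree_le_of_dvd (minpoly.dvd F J this) hb0
    rw [hab, natDegree_mul ha0 hb0] at hd
    omega
  · intro h
    have : aeval J a = 0 := LinearMap.ext fun x => by
      have hx : x ∈ LinearMap.ker (aeval J a) := h ▸ Submodule.mem_top
      exact hx
    have hd := Polynomial.natDegree_le_of_dvd (minpoly.dvd F J this) ha0
    rw [hab, natDegree_mul ha0 hb0] at hd
    omega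
  · intro x hx
    rw [LinearMap.mem_ker, commute_aeval (jm_comm g), LinearMap.mem_ker.1 hx, map_zero]

theorem degree_bound (hA : B.IsAlt) (hB : B.Nondegenerate) (h6 : finrank F V = 6) (h2 : (2 : F) ≠ 0)
    {g : V ≃ₗ[F] V} (hg : ∀ x y, B (g x) (g y) = B x y) {p : F[X]} (hp : Irreducible p) {k : ℕ}
    (hk : minpoly F (jm g) = p ^ k) : k * p.natDegree ≤ 3 := by
  set J := jm g
  rcases Nat.eq_zero_or_pos k with rfl | hk0
  · simp
  have hnz : aeval J (p ^ (k - 1)) ≠ 0 := by
    intro h
    have h1 := minpoly.dvd F J h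
    rw [hk] at h1
    have := Polynomial.natDegree_le_of_dvd h1 (pow_ne_zero _ hp.ne_zero)
    rw [natDegree_pow, natDegree_pow] at this
    have := Nat.le_of_mul_le_mul_right this hp.natDegree_pos
    omega
  obtain ⟨x, hx⟩ : ∃ x, aeval J (p ^ (k - 1)) x ≠ 0 := by
    by_contra h
    push Not at h
    exact hnz (LinearMap.ext h)
  set n := k * p.natDegree
  let L : Polynomial.degreeLT F n →ₗ[F] V :=
    (LinearMap.applyₗ x).comp ((aeval J).toLinearMap.comp (Polynomial.degreeLT F n).subtype)
  have hL : ∀ q, L q = aeval J (q : F[X]) x := fun q => rfl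
  have hinj : Function.Injective L := by
    rw [← LinearMap.ker_eq_bot, LinearMap.ker_eq_bot']
    rintro ⟨q, hq⟩ h
    rw [hL] at h
    classical
    by_contra hne
    have hq0 : q ≠ 0 := fun h => hne (Subtype.ext h)
    have hg0 := EuclideanDomain.gcd_eq_gcd_ab q (p ^ k)
    have hx0 : aeval J (EuclideanDomain.gcd q (p ^ k)) x = 0 := by
      rw [hg0, map_add, mul_comm q, map_mul, mul_comm (p ^ k), map_mul, ← hk, minpoly.aeval, mul_zero, add_zero,
        Module.End.mul_apply]
      simp only [show aeval J q x = 0 from h, map_zero]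
    obtain ⟨j, hj, hass⟩ := (dvd_prime_pow hp.prime k).1 (EuclideanDomain.gcd_dvd_right q (p ^ k))
    have hdq : p ^ j ∣ q := hass.symm.dvd.trans (EuclideanDomain.gcd_dvd_left q (p ^ k))
    have hjk : j ≤ k - 1 := by
      by_contra hcon
      have : j = k := by omega
      subst this
      have := Polynomial.natDegree_le_of_dvd hdq hq0
      rw [natDegree_pow] at this
      have hdeg := Polynomial.mem_degreeLT.1 hq
      rw [degree_eq_natDegree hq0] at hdeg
      have : q.natDegree < n := by exact_mod_cast hdeg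
      omega
    obtain ⟨c, hc⟩ := hass.dvd.trans (pow_dvd_pow p hjk)
    apply hx
    rw [hc, mul_comm, map_mul, Module.End.mul_apply, hx0, map_zero]
  have hd : finrank F (LinearMap.range L) = n := by
    rw [LinearMap.finrank_range_of_inj hinj, (Polynomial.degreeLTEquiv F n).finrank_eq, Module.finrank_fin_fun]
  have := ti_bound hA hB (S := LinearMap.range L) (by
    rintro _ ⟨a, rfl⟩ _ ⟨b, rfl⟩
    rw [hL, hL, sa_aeval (sa_jm hg), ← Module.End.mul_apply, ← map_mul]
    exact sa_self hA h2 (sa_aeval (sa_jm hg) _) x)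
  omega

theorem no_quadratic (hA : B.IsAlt) (hB : B.Nondegenerate) (h6 : finrank F V = 6) (h2 : (2 : F) ≠ 0)
    {J : Module.End F V} (hJ : SA B J) {p : F[X]} (hpm : p.Monic) (hp : Irreducible p) (hd : p.natDegree = 2)
    (h0 : aeval J p = 0) : False := by
  haveI : Nontrivial V := Module.nontrivial_of_finrank_pos (R := F) (by omega)
  obtain ⟨x, hx⟩ := exists_ne (0 : V)
  obtain ⟨y, hxy⟩ : ∃ y, B x y ≠ 0 := by
    by_contra h
    push Not at h
    exact hx (hB.1 x h)
  have low : ∀ (q : F[X]) (v : V), aeval J q v ∈ Submodule.span F {v, J v} := by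
    intro q v
    rw [← Polynomial.modByMonic_add_div q p, map_add, map_mul, h0, zero_mul, add_zero]
    have hlt := Polynomial.natDegree_modByMonic_lt q hpm (fun h => by rw [h] at hd; simp at hd)
    rw [Polynomial.eq_X_add_C_of_natDegree_le_one (show (q %ₘ p).natDegree ≤ 1 by omega)]
    simp only [map_add, map_mul, aeval_C, aeval_X, LinearMap.add_apply, Module.End.mul_apply,
      Module.algebraMap_end_apply]
    exact add_mem (Submodule.smul_mem _ _ (Submodule.subset_span (by simp)))
      (Submodule.smul_mem _ _ (Submodule.subset_span (by simp)))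
  classical
  obtain ⟨z, hz, hz0⟩ : ∃ z ∈ B.orthogonal (Submodule.span F (Set.range ![x, J x, y, J y])), z ≠ 0 := by
    refine Submodule.exists_mem_ne_zero_of_ne_bot fun hbot => ?_
    have h1 := LinearMap.BilinForm.finrank_orthogonal hB (Submodule.span F (Set.range ![x, J x, y, J y]))
    rw [hbot, finrank_bot] at h1
    have := finrank_range_le_card (R := F) ![x, J x, y, J y]
    simp [Set.finrank] at this
    omega
  have ho : ∀ v ∈ ({x, J x, y, J y} : Set V), B v z = 0 := fun v hv => hz v (Submodule.subset_span (by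
    rcases hv with rfl | rfl | rfl | rfl
    · exact ⟨0, rfl⟩
    · exact ⟨1, rfl⟩
    · exact ⟨2, rfl⟩
    · exact ⟨3, rfl⟩))
  have e1 := ho x (by simp)
  have e2 := ho (J x) (by simp)
  have e3 := ho y (by simp)
  have e4 := ho (J y) (by simp)
  have hind : LinearIndependent F ![x, J x, z, J z] := by
    rw [Fintype.linearIndependent_iff]
    intro a ha
    simp only [Fin.sum_univ_four, Matrix.cons_val_zero, Matrix.cons_val_one, Matrix.cons_val] at ha
    have hq1 : ∀ c0 c1 : F, aeval J (C c0 + C c1 * X) = c0 • (1 : Module.End F V) + c1 • J := fun c0 c1 => by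
      simp [Algebra.algebraMap_eq_smul_one, smul_mul_assoc]
    have key : ∀ (c0 c1 : F) (v : V), v ≠ 0 → c0 • v + c1 • J v = 0 → c0 = 0 ∧ c1 = 0 := by
      intro c0 c1 v hv h
      by_contra hne
      have hq : aeval J (C c0 + C c1 * X) ≠ 0 := by
        intro h'
        have h1 := minpoly.dvd F J h'
        have h2 := (minpoly.eq_of_irreducible_of_monic hp h0 hpm).symm
        rw [h2] at h1
        have hne' : (C c0 + C c1 * X : F[X]) ≠ 0 := by
          intro h''
          apply hne
          exact ⟨by simpa using congrArg (fun q : F[X] => q.coeff 0) h'',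
            by simpa using congrArg (fun q : F[X] => q.coeff 1) h''⟩
        have := Polynomial.natDegree_le_of_dvd h1 hne'
        have : (C c0 + C c1 * X : F[X]).natDegree ≤ 1 := by
          refine (natDegree_add_le _ _).trans (max_le (by simp) (natDegree_C_mul_le _ _ |>.trans (by simp)))
        omega
      obtain ⟨e, he⟩ := aeval_inv hp h0 hq
      have := congrArg (fun T : Module.End F V => T v) he
      simp only [Module.End.mul_apply, hq1, LinearMap.add_apply, LinearMap.smul_apply, Module.End.one_apply, h,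
        map_zero] at this
      exact hv this.symm
    by_cases hb : a 2 = 0 ∧ a 3 = 0
    · have := key (a 0) (a 1) x hx (by simpa [hb.1, hb.2] using ha)
      intro i
      fin_cases i <;> simp [this.1, this.2, hb.1, hb.2]
    · exfalso
      have hq : aeval J (C (a 2) + C (a 3) * X) ≠ 0 := fun h' => hb (key _ _ z hz0 (by
        have := congrArg (fun T : Module.End F V => T z) h'
        simpa [hq1] using this))
      obtain ⟨e, he⟩ := aeval_inv hp h0 hq
      have hzx : z = aeval J (-e * (C (a 0) + C (a 1) * X)) x := by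
        have := congrArg (fun T : Module.End F V => T z) he
        simp only [Module.End.mul_apply, hq1, LinearMap.add_apply, LinearMap.smul_apply, Module.End.one_apply] at this
        rw [map_mul, Module.End.mul_apply, hq1, map_neg]
        simp only [LinearMap.add_apply, LinearMap.smul_apply, Module.End.one_apply, LinearMap.neg_apply]
        rw [← map_neg, show -(a 0 • x + a 1 • J x) = a 2 • z + a 3 • J z from
          neg_eq_of_add_eq_zero_left (by rw [← ha]; abel), this]
      have hw : aeval J (-e * (C (a 0) + C (a 1) * X)) ≠ 0 := fun h' => hz0 (by rw [hzx, h', LinearMap.zero_apply])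
      obtain ⟨e', he'⟩ := aeval_inv hp h0 hw
      have hxz : x = aeval J e' z := by
        rw [hzx, ← Module.End.mul_apply, he', Module.End.one_apply]
      refine hxy ?_
      rw [hxz, sa_aeval hJ, Alt.neg' hA (aeval J e' y) z]
      have h5 : aeval J e' y ∈ Submodule.span F {y, J y} := low e' y
      obtain ⟨c, d, hcd⟩ := Submodule.mem_span_pair.1 h5
      simp [← hcd, e3, e4]
  have := ti_bound hA hB (S := Submodule.span F (Set.range ![x, J x, z, J z])) (by
    have hgen : ∀ i j, B (![x, J x, z, J z] i) (![x, J x, z, J z] j) = 0 := by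
      have hJJ : B (J (J x)) z = 0 := by
        have h5 : J (J x) ∈ Submodule.span F {x, J x} := by
          have := low (X * X) x
          simpa using this
        obtain ⟨c, d, hcd⟩ := Submodule.mem_span_pair.1 h5
        simp [← hcd, e1, e2]
      have hxz' : B x (J z) = 0 := by rw [← hJ]; exact e2
      have hJxJz : B (J x) (J z) = 0 := by rw [← hJ]; exact hJJ
      have hr : ∀ u v, B u v = 0 → B v u = 0 := fun u v h => by rw [Alt.neg' hA u v, h, neg_zero]
      have s1 := sa_self hA h2 hJ
      intro i j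
      fin_cases i <;> fin_cases j <;>
        simp [hA x, hA z, hA (J x), hA (J z), e1, e2, hxz', hJxJz, s1, hr _ _ (s1 x), hr _ _ (s1 z),
          hr _ _ e1, hr _ _ e2, hr _ _ hxz', hr _ _ hJxJz]
    intro u hu v hv
    induction hu using Submodule.span_induction with
    | mem u hu =>
      obtain ⟨i, rfl⟩ := hu
      induction hv using Submodule.span_induction with
      | mem v hv => obtain ⟨j, rfl⟩ := hv; exact hgen i j
      | zero => simp
      | add v w _ _ hv hw => simp [hv, hw]
      | smul c v _ hv => simp [hv]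
    | zero => simp
    | add u w _ _ hu hw => simp [hu, hw]
    | smul c u _ hu => simp [hu])
  rw [finrank_span_eq_card hind, Fintype.card_fin] at this
  omega

omit [FiniteDimensional F V] in
theorem polar_zero (hA : B.IsAlt) (hB : B.Nondegenerate) {g : V ≃ₗ[F] V} (hg : ∀ x y, B (g x) (g y) = B x y) {t : F}
    (h : ∀ v, B v (g (km g t (km g t v))) = 0) (w : V) : dm g (km g t (km g t w)) = 0 := by
  refine hB.2 _ fun v => ?_
  have e := h (v + w)
  simp only [map_add, LinearMap.add_apply, h v, h w, zero_add, add_zero] at e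
  have hK : ∀ x, km g t (g.symm x) = g.symm (km g t x) := fun x => by
    apply g.injective
    rw [← km_comm, LinearEquiv.apply_symm_apply, LinearEquiv.apply_symm_apply]
  have e2 : B w (g (km g t (km g t v))) = -B v (g.symm (km g t (km g t w))) := by
    rw [← iso_symm' hg, ← sa_km hg, hK, ← sa_km hg, hK, Alt.neg' hA v]
  rw [e2] at e
  rw [dm_apply, map_sub, sub_eq_add_neg]
  linear_combination e

omit [FiniteDimensional F V] in
theorem dm_dm (g : V ≃ₗ[F] V) (t : F) (x : V) :
    dm g (dm g x) = km g t (km g t x) + (2 * t) • km g t x + (t * t - 4) • x := by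
  simp only [dm_apply, km_apply, map_add, map_sub, map_smul, LinearEquiv.apply_symm_apply,
    LinearEquiv.symm_apply_apply, smul_add, smul_sub, smul_smul, sub_smul,
    show (4 : F) • x = x + x + x + x by rw [show (4 : F) = 1 + 1 + 1 + 1 by norm_num, add_smul, add_smul, add_smul, one_smul],
    show ∀ y : V, (2 * t) • y = t • y + t • y from fun y => by rw [two_mul, add_smul]]
  abel

theorem square_case (hA : B.IsAlt) (hB : B.Nondegenerate) (h6 : finrank F V = 6) (h2 : (2 : F) ≠ 0)
    {g : V ≃ₗ[F] V} (hg : ∀ x y, B (g x) (g y) = B x y) {t : F} (ht : t * t ≠ 4)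
    (h2K : ∀ x, km g t (km g t x) = 0) : HCase B g := by
  set K := km g t with hK
  by_cases h : ∃ v, K v = 0 ∧ B v (g v) ≠ 0
  · obtain ⟨v, hv, hb⟩ := h
    refine ⟨v, (B v (g v))⁻¹ • g v, by simp [inv_mul_cancel₀ hb], ?_, ?_⟩
    · rw [Submodule.mem_span_pair]
      exact ⟨0, B v (g v), by rw [zero_smul, zero_add, smul_smul, mul_inv_cancel₀ hb, one_smul]⟩
    · rw [Submodule.mem_span_pair, map_smul, g_sq g t, show km g t v = 0 from hv, map_zero, zero_add]
      refine ⟨-(B v (g v))⁻¹, t, ?_⟩
      rw [smul_sub, smul_smul, smul_smul, neg_smul, mul_comm t]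
      abel
  push Not at h
  exfalso
  have hd : ∀ w, K w = 0 → K (dm g w) = 0 := fun w hw => by
    have : K (dm g w) = dm g (K w) := by
      simp only [hK, dm_apply, km_apply, map_add, map_sub, map_smul, LinearEquiv.apply_symm_apply,
        LinearEquiv.symm_apply_apply, smul_sub]
      abel
    rw [this, hw, map_zero]
  have hpol : ∀ v w, K v = 0 → K w = 0 → B v (dm g w) = 0 := fun v w hv hw => by
    have e := h (v + w) (by rw [map_add, hv, hw, add_zero])
    simp only [map_add, LinearMap.add_apply, h v hv, h w hw, zero_add, add_zero] at e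
    have e2 : B w (g v) = -B v (g.symm w) := by rw [← iso_symm' hg, Alt.neg' hA v]
    rw [e2] at e
    rw [dm_apply, map_sub, sub_eq_add_neg]
    linear_combination e
  have hti : ∀ v ∈ LinearMap.ker K, ∀ w ∈ LinearMap.ker K, B v w = 0 := fun v hv w hw => by
    have e := hpol v (dm g w) hv (hd w hw)
    rw [dm_dm g t, h2K, show km g t w = 0 from hw, smul_zero, add_zero, zero_add, map_smul, smul_eq_mul] at e
    exact (mul_eq_zero.1 e).resolve_left (sub_ne_zero.2 ht)
  have hle : LinearMap.range K ≤ LinearMap.ker K := by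
    rintro _ ⟨x, rfl⟩
    exact h2K x
  have h1 := ti_bound hA hB hti
  have h3 := Submodule.finrank_mono hle
  have h4 := K.finrank_range_add_finrank_ker
  obtain ⟨W, hW⟩ := Submodule.exists_isCompl (LinearMap.ker K)
  let β : LinearMap.BilinForm F V := B.compl₂ K
  have hβ : ∀ x y, β x y = B x (K y) := fun x y => rfl
  have hβA : β.IsAlt := fun x => sa_self hA h2 (sa_km hg t) x
  have hnd : Alt.NDon β W := by
    intro w hw hw0
    by_contra hc
    push Not at hc
    have hKw : K w ≠ 0 := fun h => hw0 (Submodule.disjoint_def.1 hW.disjoint w (LinearMap.mem_ker.2 h) hw)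
    refine hKw (hB.1 _ fun y => ?_)
    obtain ⟨u, hu, z, hz, rfl⟩ := Submodule.mem_sup.1 (hW.sup_eq_top ▸ Submodule.mem_top (x := y))
    rw [sa_km hg, map_add, LinearMap.mem_ker.1 hu, zero_add]
    exact hc z hz
  obtain ⟨m, -, -, -, hm⟩ := Alt.exists_sympBasis hβA W hnd
  have h5 := Submodule.finrank_add_eq_of_isCompl hW
  omega

theorem kcase_of_jm [Finite F] {g : V ≃ₗ[F] V} (hg : ∀ x y, B (g x) (g y) = B x y) {p q : F[X]}
    (hp : Irreducible p) (hq : Irreducible q) (hd : p.natDegree ∣ q.natDegree) (h : aeval (jm g) q = 0) :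
    KCase B p g := by
  obtain ⟨r, hr⟩ := exists_root_irreducible hq hp hd
  refine ⟨aeval (jm g) r, sa_aeval (sa_jm hg) r, aeval_aeval_of_dvd h hr, X, ?_⟩
  rw [aeval_X]
  exact LinearMap.ext fun x => (commute_aeval (jm_comm g) r x).symm

omit [FiniteDimensional F V] in
theorem kcase_neg {g : V ≃ₗ[F] V} {p : F[X]} (h : KCase B p (g.trans (LinearEquiv.neg F))) : KCase B p g := by
  obtain ⟨J, hJ, hp, r, hr⟩ := h
  refine ⟨J, hJ, hp, r, LinearMap.ext fun x => ?_⟩
  have := LinearMap.congr_fun hr x
  change -(g (J x)) = aeval J r (-(g x)) at this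
  rw [map_neg, neg_inj] at this
  exact this

omit [FiniteDimensional F V] in
theorem hcase_neg {g : V ≃ₗ[F] V} (h : HCase B (g.trans (LinearEquiv.neg F))) : HCase B g := by
  obtain ⟨u, v, h1, h2, h3⟩ := h
  change -(g u) ∈ _ at h2
  change -(g v) ∈ _ at h3
  exact ⟨u, v, h1, (Submodule.neg_mem_iff _).1 h2, (Submodule.neg_mem_iff _).1 h3⟩

/-- The unipotent case. -/
theorem two_case (hA : B.IsAlt) (hB : B.Nondegenerate) (h6 : finrank F V = 6) (h3 : (3 : F) = 0) {p : F[X]}
    {g : V ≃ₗ[F] V} (hg : ∀ x y, B (g x) (g y) = B x y) (hcube : ∀ x, km g 2 (km g 2 (km g 2 x)) = 0)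
    (hNF : ∀ (r : F), r ≠ 0 → ∀ v, NF B g 2 v r → KCase B p g)
    (hNF3 : ∀ v w, NF3 B g v w → KCase B p g) : HCase B g ∨ KCase B p g := by
  have h20 : (2 : F) ≠ 0 := fun h => one_ne_zero (α := F) (by linear_combination h3 - h)
  by_cases hex : ∃ v, B v (g (km g 2 (km g 2 v))) ≠ 0
  · obtain ⟨v, hv⟩ := hex
    obtain ⟨w, hw⟩ := exists_nf hA h20 hg hcube hv
    exact Or.inr (hNF _ hv w hw)
  push Not at hex
  have hpol := polar_zero hA hB hg hex
  let N : Module.End F V := (g : V →ₗ[F] V) - 1
  have hN : ∀ x, N x = g x - x := fun x => rfl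
  have hNg : ∀ x, N (g x) = g (N x) := fun x => by simp [hN, map_sub]
  have hKN : ∀ x, km g 2 (g x) = N (N x) := fun x => by
    simp only [km_apply, hN, map_sub, LinearEquiv.symm_apply_apply, two_smul]
    abel
  have hDN : ∀ x, dm g (g x) = N (N x) + (N x + N x) := fun x => by
    simp only [dm_apply, hN, map_sub, LinearEquiv.symm_apply_apply]
    abel
  have hKK : ∀ x, km g 2 (km g 2 (g (g x))) = N (N (N (N x))) := fun x => by
    rw [km_comm g 2 (g x), hKN, hKN]
  have hN6 : ∀ x, N (N (N (N (N (N x))))) = 0 := fun x => by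
    rw [← hKN (N (N (N (N x)))), ← hKK x, ← km_comm, ← km_comm]
    exact hcube _
  have hN5 : ∀ x, N (N (N (N (N x)))) = 0 := fun x => by
    have e := hpol (g (g (g x)))
    rw [km_comm g 2, km_comm g 2, hKK, hDN, hN6, zero_add, ← two_smul F] at e
    exact (smul_eq_zero.1 e).resolve_left h20
  have hskew : ∀ x y, B (N x) y = -B (g x) (N y) := fun x y => by
    simp only [hN, map_sub, LinearMap.sub_apply, hg]
    ring
  have hfix : ∀ y, N y = 0 → g y = y := fun y h => sub_eq_zero.1 (by rw [← hN, h])
  by_cases h2 : ∀ x, N (N x) = 0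
  · left
    by_cases h1 : ∀ x, N x = 0
    · haveI : Nontrivial V := Module.nontrivial_of_finrank_pos (R := F) (by omega)
      obtain ⟨u, hu⟩ := exists_ne (0 : V)
      obtain ⟨v, hv⟩ : ∃ v, B u v ≠ 0 := by
        by_contra h
        push Not at h
        exact hu (hB.1 u h)
      refine ⟨u, (B u v)⁻¹ • v, by simp [inv_mul_cancel₀ hv], ?_, ?_⟩
      · rw [hfix _ (h1 _)]; exact Submodule.subset_span (by simp)
      · rw [hfix _ (h1 _)]; exact Submodule.subset_span (by simp)
    obtain ⟨v, hv⟩ : ∃ v, B v (N v) ≠ 0 := by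
      by_contra h
      push Not at h
      apply h1
      intro w
      refine hB.2 _ fun v => ?_
      have e := h (v + w)
      simp only [map_add, LinearMap.add_apply, h v, h w, zero_add, add_zero] at e
      have e2 : B w (N v) = B v (N w) := by
        have e3 := hskew v w
        rw [show g v = v + N v by rw [hN]; abel, map_add, LinearMap.add_apply, hskew v (N w), h2, map_zero, neg_zero,
          add_zero] at e3
        rw [Alt.neg' hA (N v) w, e3, neg_neg]
      rw [e2] at e
      exact (mul_eq_zero.1 (show 2 * B v (N w) = 0 by linear_combination e)).resolve_left h20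
    refine ⟨v, (B v (N v))⁻¹ • N v, by simp [inv_mul_cancel₀ hv], ?_, ?_⟩
    · refine Submodule.mem_span_pair.2 ⟨1, B v (N v), ?_⟩
      rw [one_smul, smul_smul, mul_inv_cancel₀ hv, one_smul, hN]
      abel
    · rw [map_smul, hfix _ (h2 v)]
      exact Submodule.subset_span (by simp)
  by_cases h3N : ∀ x, N (N (N x)) = 0
  · right
    have hgi : ∀ x, g.symm x = x - N x + N (N x) := fun x => by
      apply g.injective
      rw [LinearEquiv.apply_symm_apply]
      have : ∀ y, g y = y + N y := fun y => by rw [hN]; abel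
      rw [this]
      simp only [map_add, map_sub, h3N]
      abel
    have hgx : ∀ x, g x = x + N x := fun x => by rw [hN]; abel
    have hD : ∀ x, dm g x = (N x + N x) - N (N x) := fun x => by
      rw [dm_apply, hgi, hgx]; abel
    have hD2 : ∀ x, dm g (dm g x) = (4 : F) • N (N x) := fun x => by
      simp only [hD, map_add, map_sub, h3N, map_zero]
      rw [show (4 : F) = 1 + 1 + 1 + 1 by norm_num]
      simp only [add_smul, one_smul]
      abel
    have h4 : (4 : F) = 1 := by linear_combination h3
    have hc : ∀ x, dm g (dm g (dm g x)) = 0 := fun x => by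
      rw [hD2, hD, map_sub, map_sub, map_add, map_add, h3N]; simp [h3N]
    have he : ∀ x, g x = x - dm g x - dm g (dm g x) := fun x => by
      rw [hD2, h4, one_smul, hD, hgx]
      have : N x + N x + N x = 0 := by
        rw [← one_smul F (N x), ← add_smul, ← add_smul, show (1 : F) + 1 + 1 = 0 by linear_combination h3, zero_smul]
      calc x + N x = x + N x - (N x + N x + N x) := by rw [this, sub_zero]
        _ = _ := by abel
    push Not at h2
    obtain ⟨w, hw⟩ := h2
    obtain ⟨v, hv⟩ : ∃ v, B v (N (N w)) ≠ 0 := by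
      by_contra h
      push Not at h
      exact hw (hB.2 _ h)
    obtain ⟨v', w', h'⟩ := exists_nf3 hA h3 hg hc he (v₀ := (B v (N (N w)))⁻¹ • v) (w₀ := w) (by
      rw [hD2, h4, one_smul, map_smul, LinearMap.smul_apply, smul_eq_mul, inv_mul_cancel₀ hv])
    exact hNF3 v' w' h'
  have hgx : ∀ x, g x = x + N x := fun x => by rw [hN]; abel
  have h4zero : ∀ x y, N (N (N (N y))) = 0 → B (N x) (N (N (N y))) = 0 := fun x y hy => by
    rw [hskew, hy, map_zero, neg_zero]
  by_cases h4N : ∀ x, N (N (N (N x))) = 0
  · left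
    have a1 : ∀ x y, B (N x) (N (N y)) = -B x (N (N (N y))) := fun x y => by
      rw [hskew, hgx, map_add, LinearMap.add_apply, h4zero x y (h4N y), add_zero]
    have a2 : ∀ x y, B (N (N x)) (N y) = B x (N (N (N y))) := fun x y => by
      rw [hskew, ← hNg, a1, hgx, map_add, LinearMap.add_apply, h4zero x y (h4N y), add_zero, neg_neg]
    have a3 : ∀ x y, B (N (N (N x))) y = -B x (N (N (N y))) := fun x y => by
      rw [hskew, ← hNg, ← hNg, a2, hgx, map_add, LinearMap.add_apply, h4zero x y (h4N y), add_zero]
    obtain ⟨v, hv⟩ : ∃ v, B v (N (N (N v))) ≠ 0 := by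
      by_contra h
      push Not at h
      apply h3N
      intro w
      refine hB.2 _ fun v => ?_
      have e := h (v + w)
      simp only [map_add, LinearMap.add_apply, h v, h w, zero_add, add_zero] at e
      have e2 : B w (N (N (N v))) = B v (N (N (N w))) := by rw [Alt.neg' hA (N (N (N v))) w, a3, neg_neg]
      rw [e2] at e
      exact (mul_eq_zero.1 (show 2 * B v (N (N (N w))) = 0 by linear_combination e)).resolve_left h20
    refine hcase_of_sub hA hB h6 hg (Submodule.span F (Set.range ![v, N v, N (N v), N (N (N v))])) ?_ ?_ ?_ ?_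
    · intro z hz hz0
      obtain ⟨a, ha⟩ := (Submodule.mem_span_range_iff_exists_fun F).1 hz
      by_contra hc
      push Not at hc
      have hm : ∀ i, B z (![v, N v, N (N v), N (N (N v))] i) = 0 := fun i => hc _ (Submodule.subset_span ⟨i, rfl⟩)
      simp only [Fin.sum_univ_four, Matrix.cons_val_zero, Matrix.cons_val_one, Matrix.cons_val] at ha
      have k3 : B z (N (N (N v))) = 0 := hm 3
      have k2 : B z (N (N v)) = 0 := hm 2
      have k1 : B z (N v) = 0 := hm 1
      have k0 : B z v = 0 := hm 0
      rw [← ha] at k0 k1 k2 k3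
      have z1 : B (N (N v)) (N (N (N v))) = 0 := h4zero _ _ (h4N _)
      have z2 : B (N v) (N (N (N v))) = 0 := h4zero _ _ (h4N _)
      have z3 : B (N (N (N v))) (N (N (N v))) = 0 := hA _
      simp only [map_add, map_smul, LinearMap.add_apply, LinearMap.smul_apply, smul_eq_mul, z1, z2, z3,
        mul_zero, add_zero] at k3
      have b0 := (mul_eq_zero.1 k3).resolve_right hv
      have z4 : B (N (N (N v))) (N (N v)) = 0 := by rw [Alt.neg' hA, z1, neg_zero]
      have z4 : B (N (N (N v))) (N (N v)) = 0 := by rw [Alt.neg' hA, z1, neg_zero]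
      have y1 : B (N v) (N (N v)) = -B v (N (N (N v))) := a1 v v
      have y2 : B (N (N v)) (N v) = B v (N (N (N v))) := a2 v v
      have y3 : B (N (N (N v))) v = -B v (N (N (N v))) := a3 v v
      have z5 : B (N (N (N v))) (N v) = 0 := by rw [Alt.neg' hA, z2, neg_zero]
      have z6 : B (N (N v)) (N (N v)) = 0 := hA _
      simp only [map_add, map_smul, LinearMap.add_apply, LinearMap.smul_apply, smul_eq_mul] at k0 k1 k2
      rw [b0, y1, z6, z4] at k2
      have b1 : a 1 = 0 := (mul_eq_zero.1 (show a 1 * B v (N (N (N v))) = 0 by linear_combination -k2)).resolve_right hv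
      rw [b0, b1, y2, z5] at k1
      have b2 : a 2 = 0 := (mul_eq_zero.1 (show a 2 * B v (N (N (N v))) = 0 by linear_combination k1)).resolve_right hv
      rw [b0, b1, b2, y3] at k0
      have b3 : a 3 = 0 := (mul_eq_zero.1 (show a 3 * B v (N (N (N v))) = 0 by linear_combination -k0)).resolve_right hv
      exact hz0 (by rw [← ha, b0, b1, b2, b3]; simp)
    · intro h
      have : v ∈ Submodule.span F (Set.range ![v, N v, N (N v), N (N (N v))]) := Submodule.subset_span ⟨0, rfl⟩
      rw [h, Submodule.mem_bot] at this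
      exact hv (by rw [this]; simp)
    · intro h
      have := finrank_range_le_card (R := F) ![v, N v, N (N v), N (N (N v))]
      rw [Set.finrank, h, finrank_top, h6, Fintype.card_fin] at this
      omega
    · intro x hx
      induction hx using Submodule.span_induction with
      | mem x hx =>
        obtain ⟨i, rfl⟩ := hx
        rw [hgx]
        refine add_mem (Submodule.subset_span ⟨i, rfl⟩) ?_
        fin_cases i
        · exact Submodule.subset_span ⟨1, rfl⟩
        · exact Submodule.subset_span ⟨2, rfl⟩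
        · exact Submodule.subset_span ⟨3, rfl⟩
        · simp only [Fin.reduceFinMk, Matrix.cons_val, h4N]
          exact zero_mem _
      | zero => simp
      | add x y _ _ a b => rw [map_add]; exact add_mem a b
      | smul c x _ a => rw [map_smul]; exact Submodule.smul_mem _ _ a
  exfalso
  set M := fun x => N (N (N (N x))) with hM
  have hMfix : ∀ x, g (M x) = M x := fun x => hfix _ (hN5 x)
  have hMg : ∀ x, M (g x) = M x := fun x => by simp only [hM, hNg]; exact hMfix x
  have hMfix' : ∀ x y, B (g x) (M y) = B x (M y) := fun x y => by rw [← hg x (M y), hMfix]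
  have hMadj : ∀ x y, B (M x) y = B x (M y) := fun x y => by
    simp only [hM]
    rw [hskew, ← hNg, ← hNg, ← hNg, hskew, ← hNg, ← hNg, hskew, ← hNg, hskew, neg_neg, neg_neg]
    show B (g (g (g (g x)))) (M y) = B x (M y)
    rw [hMfix', hMfix', hMfix', hMfix']
  push Not at h4N
  obtain ⟨w, hw⟩ := h4N
  obtain ⟨v, hv⟩ : ∃ v, B v (M w) ≠ 0 := by
    by_contra h
    push Not at h
    exact hw (hB.2 _ h)
  have hMM : ∀ x, B x (M x) = 0 := fun x => by
    have e := hMadj x x
    rw [Alt.neg' hA x (M x)] at e
    exact (mul_eq_zero.1 (show 2 * B x (M x) = 0 by linear_combination -e)).resolve_left h20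
  have hN5' : ∀ x, N (M x) = 0 := hN5
  have key : ∀ a b : F, a • M v + b • M w = 0 → a = 0 ∧ b = 0 := fun a b h => by
    have e1 := congrArg (B v) h
    simp only [map_add, map_smul, smul_eq_mul, hMM, mul_zero, zero_add, map_zero] at e1
    have hb := (mul_eq_zero.1 e1).resolve_right hv
    refine ⟨?_, hb⟩
    rw [hb, zero_smul, add_zero] at h
    refine (smul_eq_zero.1 h).resolve_right fun h0 => hv ?_
    rw [← hMadj, h0]
    simp
  have hind : LinearIndependent F ![v, N v, N (N v), N (N (N v)), M v, N (N (N w)), M w] := by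
    rw [Fintype.linearIndependent_iff]
    intro a ha
    simp only [Fin.sum_univ_seven, Matrix.cons_val_zero, Matrix.cons_val_one, Matrix.cons_val] at ha
    have z : ∀ x, N (N (N (N (N x)))) = 0 := hN5
    have e4 := congrArg (fun x => N (N (N (N x)))) ha
    simp only [map_add, map_smul, hM, z, map_zero, smul_zero, add_zero] at e4
    have b0 := (key (a 0) 0 (by rw [zero_smul, add_zero]; exact e4)).1
    have e3 := congrArg (fun x => N (N (N x))) ha
    simp only [map_add, map_smul, hM, z, map_zero, smul_zero, add_zero, b0, zero_smul, zero_add] at e3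
    have b1 := (key (a 1) 0 (by rw [zero_smul, add_zero]; exact e3)).1
    have e2 := congrArg (fun x => N (N x)) ha
    simp only [map_add, map_smul, hM, z, map_zero, smul_zero, add_zero, b0, b1, zero_smul, zero_add] at e2
    have b2 := (key (a 2) 0 (by rw [zero_smul, add_zero]; exact e2)).1
    have e1 := congrArg (fun x => N x) ha
    simp only [map_add, map_smul, hM, z, map_zero, smul_zero, add_zero, b0, b1, b2, zero_smul, zero_add] at e1
    obtain ⟨b3, b5⟩ := key (a 3) (a 5) e1
    rw [b0, b1, b2, b3, b5] at ha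
    simp only [zero_smul, zero_add, add_zero] at ha
    obtain ⟨b4, b6⟩ := key (a 4) (a 6) ha
    intro i
    fin_cases i <;> simp [b0, b1, b2, b3, b4, b5, b6]
  have := hind.fintype_card_le_finrank
  simp [h6] at this

/-- The classification of isometries in characteristic three. -/
theorem classify [Finite F] (hA : B.IsAlt) (hB : B.Nondegenerate) (h6 : finrank F V = 6) (h3 : (3 : F) = 0)
    {p : F[X]} (hp : Irreducible p) (hd : p.natDegree = 3)
    (hNF : ∀ (g : V ≃ₗ[F] V), (∀ x y, B (g x) (g y) = B x y) → ∀ (t r : F), (t = 2 ∨ t * t ≠ 4) → r ≠ 0 →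
      ∀ v, NF B g t v r → KCase B p g)
    (hNF3 : ∀ (g : V ≃ₗ[F] V), (∀ x y, B (g x) (g y) = B x y) → ∀ v w, NF3 B g v w → KCase B p g)
    (g : V ≃ₗ[F] V) (hg : ∀ x y, B (g x) (g y) = B x y) : HCase B g ∨ KCase B p g := by
  have h20 : (2 : F) ≠ 0 := fun h => one_ne_zero (α := F) (by linear_combination h3 - h)
  haveI : Nontrivial V := Module.nontrivial_of_finrank_pos (R := F) (by omega)
  set J := jm g
  have hint : IsIntegral F J := IsIntegral.of_finite F J
  have hμu : ¬ IsUnit (minpoly F J) := minpoly.not_isUnit F J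
  obtain ⟨q, hqm, hq, hqd⟩ := exists_monic_irreducible_factor (minpoly F J) hμu
  obtain ⟨k, b, hqb, hkb⟩ := WfDvdMonoid.max_power_factor (minpoly.ne_zero hint) hq
  by_cases hbu : IsUnit b
  swap
  · left
    have hk0 : k ≠ 0 := by
      rintro rfl
      rw [pow_zero, one_mul] at hkb
      exact hqb (hkb ▸ hqd)
    refine split_case hA hB h6 hg hkb ((hq.coprime_iff_not_dvd.2 hqb).pow_left) ?_ ?_
    · rw [natDegree_pow]
      exact Nat.mul_ne_zero hk0 hq.natDegree_pos.ne'
    · intro h
      apply hbu
      rw [Polynomial.isUnit_iff_degree_eq_zero]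
      have hb0 : b ≠ 0 := fun h => hqb (h ▸ dvd_zero q)
      rw [degree_eq_natDegree hb0, h]; rfl
  have hμ : minpoly F J = q ^ k := eq_of_monic_of_associated (minpoly.monic hint) (hqm.pow k)
    (hkb ▸ associated_mul_unit_left _ _ hbu)
  have hb3 := degree_bound hA hB h6 h20 hg hq hμ
  have hk0 : k ≠ 0 := by
    rintro rfl
    rw [pow_zero] at hμ
    exact minpoly.ne_one F J hμ
  have hq0 := hq.natDegree_pos
  have h0 : aeval J (q ^ k) = 0 := hμ ▸ minpoly.aeval F J
  obtain hd1 | hd2 | hd3 : q.natDegree = 1 ∨ (q.natDegree = 2 ∧ k = 1) ∨ (q.natDegree = 3 ∧ k = 1) := by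
    rcases k with _ | _ | k
    · omega
    · omega
    · left
      nlinarith
  rotate_left
  · exact absurd (no_quadratic hA hB h6 h20 (sa_jm hg) hqm hq hd2.1 (by simpa [hd2.2] using h0)) id
  · exact Or.inr (kcase_of_jm hg hp hq (by rw [hd, hd3.1]) (by simpa [hd3.2] using h0))
  have hk3 : k ≤ 3 := by rw [hd1, mul_one] at hb3; exact hb3
  set t := -q.coeff 0 with ht
  have hqX : q = X - C t := by rw [ht, map_neg, sub_neg_eq_add]; exact hqm.eq_X_add_C hd1
  have hKJ : ∀ x, km g t x = aeval J q x := fun x => by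
    rw [hqX, map_sub, aeval_X, aeval_C, LinearMap.sub_apply, Module.algebraMap_end_apply]
    rfl
  have hcube : ∀ x, km g t (km g t (km g t x)) = 0 := fun x => by
    have : aeval J (q ^ 3) = 0 := by
      rw [show q ^ 3 = q ^ (3 - k) * q ^ k by rw [← pow_add, Nat.sub_add_cancel hk3], map_mul, h0, mul_zero]
    have h' := LinearMap.congr_fun this x
    rw [map_pow, pow_succ, pow_succ, pow_one, Module.End.mul_apply, Module.End.mul_apply] at h'
    rw [hKJ, hKJ, hKJ]
    exact h'
  by_cases ht4 : t * t = 4
  · rcases mul_eq_zero.1 (show (t - 2) * (t + 2) = 0 by linear_combination ht4) with h | h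
    · have ht2 : t = 2 := sub_eq_zero.1 h
      rw [ht2] at hcube
      exact two_case hA hB h6 h3 hg hcube (fun r hr => hNF g hg 2 r (Or.inl rfl) hr) (hNF3 g hg)
    · set g' := g.trans (LinearEquiv.neg F) with hg'
      have hg'i : ∀ x y, B (g' x) (g' y) = B x y := fun x y => by
        show B (-(g x)) (-(g y)) = _
        simp [hg]
      have hkm : ∀ x, km g' 2 x = -km g t x := fun x => by
        rw [show t = -2 by linear_combination h, km_apply, km_apply, show g' x = -g x from rfl,
          show g'.symm x = g.symm (-x) from rfl, map_neg, neg_smul]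
        abel
      have hc' : ∀ x, km g' 2 (km g' 2 (km g' 2 x)) = 0 := fun x => by simp [hkm, hcube]
      rcases two_case hA hB h6 h3 hg'i hc' (fun r hr => hNF g' hg'i 2 r (Or.inl rfl) hr) (hNF3 g' hg'i)
        with h | h
      · exact Or.inl (hcase_neg h)
      · exact Or.inr (kcase_neg h)
  by_cases hex : ∃ v, B v (g (km g t (km g t v))) ≠ 0
  · obtain ⟨v, hv⟩ := hex
    obtain ⟨w, hw⟩ := exists_nf hA h20 hg hcube hv
    exact Or.inr (hNF g hg t _ (Or.inr ht4) hv w hw)
  push Not at hex
  refine Or.inl (square_case hA hB h6 h20 hg ht4 fun x => ?_)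
  have hpol := polar_zero hA hB hg hex x
  have e := dm_dm g t (km g t (km g t x))
  simp only [hpol, map_zero, hcube, smul_zero, zero_add] at e
  exact (smul_eq_zero.1 e.symm).resolve_left (sub_ne_zero.2 ht4)

end Cfsg.Agent.Covering2.Symp6
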