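import Cfsg.Agent.Covering2.Symp6Basic
import Mathlib

/-!
Normal forms of isometries of a six-dimensional symplectic space for which `g + g⁻¹ - t` is nilpotent.
-/

set_option autoImplicit false

namespace Cfsg.Agent.Covering2.Symp6

open Polynomial Module Cfsg.Agent.Classical

variable {F V : Type*} [Field F] [AddCommGroup V] [Module F V]
variable {V' : Type*} [AddCommGroup V'] [Module F V']
variable {B : LinearMap.BilinForm F V} {B' : LinearMap.BilinForm F V'}

/-- `g + g⁻¹`. -/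
def jm (g : V ≃ₗ[F] V) : Module.End F V := (g : V →ₗ[F] V) + (g.symm : V →ₗ[F] V)

/-- `g + g⁻¹ - t`. -/
def km (g : V ≃ₗ[F] V) (t : F) : Module.End F V := jm g - t • (1 : Module.End F V)

/-- `g - g⁻¹`. -/
def dm (g : V ≃ₗ[F] V) : Module.End F V := (g : V →ₗ[F] V) - (g.symm : V →ₗ[F] V)

theorem jm_apply (g : V ≃ₗ[F] V) (x : V) : jm g x = g x + g.symm x := rfl
theorem km_apply (g : V ≃ₗ[F] V) (t : F) (x : V) : km g t x = g x + g.symm x - t • x := rfl
theorem dm_apply (g : V ≃ₗ[F] V) (x : V) : dm g x = g x - g.symm x := rfl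

theorem km_comm (g : V ≃ₗ[F] V) (t : F) (x : V) : km g t (g x) = g (km g t x) := by
  simp [km_apply, map_add, map_sub, map_smul]

theorem dm_comm (g : V ≃ₗ[F] V) (x : V) : dm g (g x) = g (dm g x) := by simp [dm_apply, map_sub]

theorem iso_symm {g : V ≃ₗ[F] V} (hg : ∀ x y, B (g x) (g y) = B x y) (x y : V) : B (g x) y = B x (g.symm y) := by
  rw [← hg x (g.symm y), LinearEquiv.apply_symm_apply]

theorem iso_symm' {g : V ≃ₗ[F] V} (hg : ∀ x y, B (g x) (g y) = B x y) (x y : V) : B (g.symm x) y = B x (g y) := by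
  rw [← hg (g.symm x) y, LinearEquiv.apply_symm_apply]

theorem sa_jm {g : V ≃ₗ[F] V} (hg : ∀ x y, B (g x) (g y) = B x y) : SA B (jm g) := fun x y => by
  simp [jm_apply, iso_symm hg, iso_symm' hg, map_add, add_comm]

theorem sa_km {g : V ≃ₗ[F] V} (hg : ∀ x y, B (g x) (g y) = B x y) (t : F) : SA B (km g t) := fun x y => by
  have := sa_jm hg x y
  simp [km, this]

theorem skew_dm {g : V ≃ₗ[F] V} (hg : ∀ x y, B (g x) (g y) = B x y) (x y : V) :
    B (dm g x) y = -B x (dm g y) := by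
  simp [dm_apply, iso_symm hg, iso_symm' hg, map_sub]

theorem g_sq (g : V ≃ₗ[F] V) (t : F) (x : V) : g (g x) = g (km g t x) + t • g x - x := by
  simp [km_apply, map_add, map_sub, map_smul]

/-- The normal form with parameter `r`. -/
structure NF (B : LinearMap.BilinForm F V) (g : V ≃ₗ[F] V) (t : F) (v : V) (r : F) : Prop where
  cube : ∀ x, km g t (km g t (km g t x)) = 0
  z0 : B v (g v) = 0
  z1 : B v (g (km g t v)) = 0
  z2 : B v (g (km g t (km g t v))) = r

theorem exists_nf (hA : B.IsAlt) (h2 : (2 : F) ≠ 0) {g : V ≃ₗ[F] V} (hg : ∀ x y, B (g x) (g y) = B x y) {t : F}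
    (hc : ∀ x, km g t (km g t (km g t x)) = 0) {v : V} (hv : B v (g (km g t (km g t v))) ≠ 0) :
    ∃ w, NF B g t w (B v (g (km g t (km g t v)))) := by
  set K := km g t
  set r := B v (g (K (K v)))
  set γ0 := B v (g v)
  set γ1 := B v (g (K v))
  have hKg : ∀ x, K (g x) = g (K x) := km_comm g t
  have hsa : SA B K := sa_km hg t
  let a : F := -γ1 / (2 * r)
  let b : F := -(γ0 + 2 * a * γ1 + a ^ 2 * r) / (2 * r)
  have e1 : B (K v) (g v) = γ1 := by rw [hsa, hKg]
  have e2 : B (K v) (g (K v)) = r := by rw [hsa, hKg]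
  have e3 : B (K v) (g (K (K v))) = 0 := by simp [hsa _ _, hKg, hc]
  have e4 : B (K (K v)) (g v) = r := by rw [hsa, hsa, hKg, hKg]
  have e5 : B (K (K v)) (g (K v)) = 0 := by simp [hsa _ _, hKg, hc]
  have e6 : B (K (K v)) (g (K (K v))) = 0 := by simp [hsa _ _, hKg, hc]
  refine ⟨v + a • K v + b • K (K v), hc, ?_, ?_, ?_⟩
  · simp only [show km g t = K from rfl, map_add, map_smul, LinearMap.add_apply, LinearMap.smul_apply, smul_eq_mul]
    rw [e1, e2, e3, e4, e5, e6]
    simp only [b]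
    field_simp
    ring
  · simp only [show km g t = K from rfl, map_add, map_smul, hc, map_zero, smul_zero, add_zero, LinearMap.add_apply, LinearMap.smul_apply,
      smul_eq_mul]
    rw [e2, e3, e5, e6]
    simp only [a]
    field_simp
    ring
  · simp only [show km g t = K from rfl, map_add, map_smul, hc, map_zero, smul_zero, add_zero, LinearMap.add_apply, LinearMap.smul_apply,
      smul_eq_mul]
    rw [e3, e6]
    ring

/-- The basis belonging to a normal form. -/
def nfFam (g : V ≃ₗ[F] V) (t : F) (v : V) : Fin 3 ⊕ Fin 3 → V :=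
  Sum.elim (fun a => (km g t ^ (a : ℕ)) v) fun a => g ((km g t ^ (a : ℕ)) v)

theorem km_pow_comm (g : V ≃ₗ[F] V) (t : F) (n : ℕ) (x : V) : (km g t ^ n) (g x) = g ((km g t ^ n) x) := by
  induction n generalizing x with
  | zero => rfl
  | succ n ih => rw [pow_succ, Module.End.mul_apply, Module.End.mul_apply, km_comm, ih]

theorem NF.pow_zero {g : V ≃ₗ[F] V} {t : F} {v : V} {r : F} (h : NF B g t v r) (n : ℕ) (x : V) :
    (km g t ^ (n + 3)) x = 0 := by
  rw [pow_add, Module.End.mul_apply,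
    show (km g t ^ 3) x = km g t (km g t (km g t x)) from rfl, h.cube, map_zero]

theorem NF.gam {g : V ≃ₗ[F] V} {t : F} {v : V} {r : F} (h : NF B g t v r) (n : ℕ) :
    B v (g ((km g t ^ n) v)) = if n = 2 then r else 0 := by
  match n with
  | 0 => exact h.z0
  | 1 => exact h.z1
  | 2 => exact h.z2
  | n + 3 => rw [h.pow_zero, map_zero, map_zero, if_neg (by omega)]

theorem nf_gram (hA : B.IsAlt) (h2 : (2 : F) ≠ 0) {g : V ≃ₗ[F] V} (hg : ∀ x y, B (g x) (g y) = B x y) {t : F}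
    {v : V} {r : F} (h : NF B g t v r) (i j : Fin 3 ⊕ Fin 3) : B (nfFam g t v i) (nfFam g t v j) =
      Sum.elim (fun a : Fin 3 => Sum.elim (fun _ : Fin 3 => (0 : F)) fun b : Fin 3 => if (a : ℕ) + b = 2 then r else 0)
        (fun a : Fin 3 => Sum.elim (fun b : Fin 3 => if (a : ℕ) + b = 2 then -r else 0) fun _ : Fin 3 => (0 : F)) i j := by
  have hsa : ∀ n, SA B (km g t ^ n) := fun n => by
    have := sa_aeval (sa_km hg t) (Polynomial.X ^ n)
    rwa [map_pow, aeval_X] at this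
  have h0 : ∀ a b : ℕ, B ((km g t ^ a) v) ((km g t ^ b) v) = 0 := fun a b => by
    rw [hsa, ← Module.End.mul_apply, ← pow_add]
    exact sa_self hA h2 (hsa _) v
  have h1 : ∀ a b : ℕ, B ((km g t ^ a) v) (g ((km g t ^ b) v)) = if a + b = 2 then r else 0 := fun a b => by
    rw [hsa, km_pow_comm, ← Module.End.mul_apply, ← pow_add, h.gam]
  rcases i with a | a <;> rcases j with b | b <;> simp only [nfFam, Sum.elim_inl, Sum.elim_inr]
  · exact h0 _ _
  · exact h1 _ _
  · rw [Alt.neg' hA ((km g t ^ (b : ℕ)) v), h1, add_comm]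
    split <;> simp
  · rw [hg]; exact h0 _ _

theorem nfFam_indep (hA : B.IsAlt) (h2 : (2 : F) ≠ 0) {g : V ≃ₗ[F] V} (hg : ∀ x y, B (g x) (g y) = B x y)
    {t : F} {v : V} {r : F} (hr : r ≠ 0) (h : NF B g t v r) : LinearIndependent F (nfFam g t v) := by
  classical
  refine indep_of_dual (B := B) _
    (fun i => nfFam g t v (Sum.elim (fun a => Sum.inr (Fin.rev a)) (fun a => Sum.inl (Fin.rev a)) i))
    (Sum.elim (fun _ => r) (fun _ => -r)) (fun i => by rcases i with i | i <;> simp [hr]) (fun i j => ?_)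
  rw [nf_gram hA h2 hg h]
  rcases i with i | i <;> rcases j with j | j <;> fin_cases i <;> fin_cases j <;> simp [Fin.rev]

/-- Isometries with the same normal form are conjugate. -/
theorem nf_iso (hA : B.IsAlt) (hA' : B'.IsAlt) (h2 : (2 : F) ≠ 0) [FiniteDimensional F V] [FiniteDimensional F V']
    (h6 : finrank F V = 6) (h6' : finrank F V' = 6) {g : V ≃ₗ[F] V} {g' : V' ≃ₗ[F] V'}
    (hg : ∀ x y, B (g x) (g y) = B x y) (hg' : ∀ x y, B' (g' x) (g' y) = B' x y) {t : F} {v : V} {v' : V'}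
    {r : F} (hr : r ≠ 0) (h : NF B g t v r) (h' : NF B' g' t v' r) :
    ∃ e : V ≃ₗ[F] V', (∀ x y, B' (e x) (e y) = B x y) ∧ ∀ x, e (g x) = g' (e x) := by
  have hb := nfFam_indep hA h2 hg hr h
  have hb' := nfFam_indep hA' h2 hg' hr h'
  have hcard : Fintype.card (Fin 3 ⊕ Fin 3) = 6 := rfl
  obtain ⟨e, he, heb⟩ := exists_iso_of_gram (B := B) (B' := B') _ _ hb hb' (hcard.trans h6.symm)
    (hcard.trans h6'.symm) (fun i j => by rw [nf_gram hA h2 hg h, nf_gram hA' h2 hg' h'])
  refine ⟨e, he, intertwine hb (hcard.trans h6.symm) (e : V →ₗ[F] V') (g : V →ₗ[F] V) (g' : V' →ₗ[F] V') ?_⟩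
  have hk : ∀ n : ℕ, e ((km g t ^ n) v) = (km g' t ^ n) v' ∧
      e (g ((km g t ^ n) v)) = g' ((km g' t ^ n) v') := fun n => by
    by_cases hn : n < 3
    · exact ⟨heb (Sum.inl ⟨n, hn⟩), heb (Sum.inr ⟨n, hn⟩)⟩
    · obtain ⟨m, rfl⟩ := Nat.exists_eq_add_of_le' (Nat.le_of_not_lt hn)
      rw [h.pow_zero, h'.pow_zero]
      simp
  intro i
  simp only [LinearEquiv.coe_coe, heb]
  rcases i with a | a
  · exact (hk a).2
  · show e (g (g ((km g t ^ (a : ℕ)) v))) = g' (g' ((km g' t ^ (a : ℕ)) v'))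
    rw [g_sq g t, g_sq g' t, map_sub, map_add, map_smul, (hk a).1, (hk a).2]
    congr 2
    exact (hk (a + 1)).2 |> fun e => by rwa [pow_succ', pow_succ', Module.End.mul_apply, Module.End.mul_apply] at e

/-- The normal form for a unipotent with two blocks of size three. -/
structure NF3 (B : LinearMap.BilinForm F V) (g : V ≃ₗ[F] V) (v w : V) : Prop where
  cube : ∀ x, dm g (dm g (dm g x)) = 0
  expr : ∀ x, g x = x - dm g x - dm g (dm g x)
  vv : B v (dm g v) = 0
  ww : B w (dm g w) = 0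
  v0 : B v w = 0
  v1 : B v (dm g w) = 0
  v2 : B v (dm g (dm g w)) = 1

theorem exists_nf3 (hA : B.IsAlt) (h3 : (3 : F) = 0) {g : V ≃ₗ[F] V} (hg : ∀ x y, B (g x) (g y) = B x y)
    (hc : ∀ x, dm g (dm g (dm g x)) = 0) (he : ∀ x, g x = x - dm g x - dm g (dm g x))
    {v₀ w₀ : V} (hvw : B v₀ (dm g (dm g w₀)) = 1) : ∃ v w, NF3 B g v w := by
  set D := dm g
  have hs : ∀ x y, B (D x) y = -B x (D y) := skew_dm hg
  have hn : ∀ x y, B y x = -B x y := Alt.neg' hA
  have hself : ∀ x, B x x = 0 := hA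
  have hDD : ∀ x, B x (D (D x)) = 0 := fun x => by
    have := hs x (D x); rw [hA] at this; linear_combination this
  have sw : ∀ x y, B y (D x) = B x (D y) := fun x y => by rw [hn (D x) y, hs x y, neg_neg]
  let v := v₀ + B v₀ (D v₀) • D w₀
  have hvw2 : B v (D (D w₀)) = 1 := by
    simp only [v, map_add, map_smul, LinearMap.add_apply, LinearMap.smul_apply, smul_eq_mul]
    rw [hs, hc, map_zero, hvw]; ring
  have hvv : B v (D v) = 0 := by
    have a1 : B (D w₀) (D v₀) = 1 := by rw [hn (D v₀), hs, hvw]; ring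
    have a2 : B (D w₀) (D (D w₀)) = 0 := by rw [hs, hc, map_zero, neg_zero]
    simp only [v, map_add, map_smul, LinearMap.add_apply, LinearMap.smul_apply, smul_eq_mul]
    rw [hvw, a1, a2]
    linear_combination (B v₀ (D v₀)) * h3
  let w₁ := w₀ + (-B w₀ (D w₀)) • D v
  have hw2 : B v (D (D w₁)) = 1 := by
    simp only [w₁, map_add, map_smul, smul_eq_mul, hc, map_zero, mul_zero, add_zero, hvw2]
  have hww : B w₁ (D w₁) = 0 := by
    simp only [w₁, map_add, map_smul, LinearMap.add_apply, LinearMap.smul_apply, smul_eq_mul]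
    have a1 : B w₀ (D (D v)) = -1 := by rw [hn (D (D v)) w₀, hs, hs, hvw2]; ring
    have a2 : B (D v) (D w₀) = -1 := by rw [hs, hvw2]
    have a3 : B (D v) (D (D v)) = 0 := by rw [hs, hc, map_zero, neg_zero]
    rw [a1, a2, a3]
    linear_combination (B w₀ (D w₀)) * h3
  let a := -B v (D w₁)
  let b := -(B v w₁ + a * B v (D w₁))
  refine ⟨v, w₁ + a • D w₁ + b • D (D w₁), hc, he, hvv, ?_, ?_, ?_, ?_⟩
  · simp only [show dm g = D from rfl, map_add, map_smul, hc, map_zero, smul_zero, add_zero, LinearMap.add_apply, LinearMap.smul_apply,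
      smul_eq_mul]
    have a1 : B (D w₁) (D w₁) = 0 := hA _
    have a2 : B (D w₁) (D (D w₁)) = 0 := by rw [hs, hc, map_zero, neg_zero]
    have a3 : B (D (D w₁)) (D w₁) = 0 := by rw [hn (D w₁), a2, neg_zero]
    have a4 : B (D (D w₁)) (D (D w₁)) = 0 := hA _
    rw [hww, hDD, a1, a2, a3, a4]
    ring
  · simp only [show dm g = D from rfl, map_add, map_smul, smul_eq_mul, hw2, b]; ring
  · simp only [show dm g = D from rfl, map_add, map_smul, hc, map_zero, smul_zero, add_zero, smul_eq_mul, hw2, a]; ring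
  · simp only [show dm g = D from rfl, map_add, map_smul, hc, map_zero, smul_zero, add_zero, hw2]

/-- The basis belonging to the second normal form. -/
def nf3Fam (g : V ≃ₗ[F] V) (v w : V) : Fin 3 ⊕ Fin 3 → V :=
  Sum.elim (fun a => (dm g ^ (a : ℕ)) v) fun a => (dm g ^ (a : ℕ)) w

theorem skew_pow {g : V ≃ₗ[F] V} (hg : ∀ x y, B (g x) (g y) = B x y) (n : ℕ) (x y : V) :
    B ((dm g ^ n) x) y = (-1) ^ n * B x ((dm g ^ n) y) := by
  induction n generalizing x y with
  | zero => simp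
  | succ n ih =>
    rw [pow_succ, Module.End.mul_apply, ih, skew_dm hg, ← Module.End.mul_apply (dm g) (dm g ^ n), ← pow_succ',
      pow_succ (-1 : F)]
    simp only [pow_succ, Module.End.mul_apply]
    ring

theorem nf3_gram (hA : B.IsAlt) (h2 : (2 : F) ≠ 0) {g : V ≃ₗ[F] V} (hg : ∀ x y, B (g x) (g y) = B x y) {v w : V}
    (h : NF3 B g v w) (i j : Fin 3 ⊕ Fin 3) : B (nf3Fam g v w i) (nf3Fam g v w j) =
      Sum.elim (fun a : Fin 3 => Sum.elim (fun _ : Fin 3 => (0 : F)) fun b : Fin 3 => if (a : ℕ) + b = 2 then (-1) ^ (a : ℕ) else 0)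
        (fun a : Fin 3 => Sum.elim (fun b : Fin 3 => if (a : ℕ) + b = 2 then -(-1) ^ (b : ℕ) else 0) fun _ : Fin 3 => (0 : F)) i j := by
  have h0 : ∀ (n : ℕ) (x : V), B x (dm g x) = 0 → B x ((dm g ^ n) x) = 0 := by
    intro n x hx
    match n with
    | 0 => exact hA x
    | 1 => exact hx
    | 2 =>
      have := skew_dm hg x (dm g x)
      rw [hA] at this
      show B x (dm g (dm g x)) = 0
      linear_combination this
    | n + 3 =>
      rw [pow_add, Module.End.mul_apply,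
        show (dm g ^ 3) x = dm g (dm g (dm g x)) from rfl, h.cube, map_zero, map_zero]
  have h1 : ∀ n, B v ((dm g ^ n) w) = if n = 2 then 1 else 0 := by
    intro n
    match n with
    | 0 => exact h.v0
    | 1 => exact h.v1
    | 2 => exact h.v2
    | n + 3 =>
      rw [pow_add, Module.End.mul_apply,
        show (dm g ^ 3) w = dm g (dm g (dm g w)) from rfl, h.cube, map_zero, map_zero, if_neg (by omega)]
  have hvw : ∀ a b : ℕ, B ((dm g ^ a) v) ((dm g ^ b) w) = if a + b = 2 then (-1) ^ a else 0 := by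
    intro a b
    rw [skew_pow hg, ← Module.End.mul_apply, ← pow_add, h1]
    split <;> simp
  rcases i with a | a <;> rcases j with b | b <;> simp only [nf3Fam, Sum.elim_inl, Sum.elim_inr]
  · rw [skew_pow hg, ← Module.End.mul_apply, ← pow_add, h0 _ _ h.vv, mul_zero]
  · exact hvw _ _
  · rw [Alt.neg' hA ((dm g ^ (b : ℕ)) v), hvw, add_comm (b : ℕ)]
    split <;> simp
  · rw [skew_pow hg, ← Module.End.mul_apply, ← pow_add, h0 _ _ h.ww, mul_zero]

theorem nf3_indep (hA : B.IsAlt) (h2 : (2 : F) ≠ 0) {g : V ≃ₗ[F] V} (hg : ∀ x y, B (g x) (g y) = B x y) {v w : V}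
    (h : NF3 B g v w) : LinearIndependent F (nf3Fam g v w) := by
  classical
  refine indep_of_dual (B := B) _ (fun i => nf3Fam g v w (Sum.elim (fun a => Sum.inr (Fin.rev a))
    (fun a => Sum.inl (Fin.rev a)) i))
    (Sum.elim (fun a => (-1) ^ (a : ℕ)) fun a => -(-1) ^ ((Fin.rev a : Fin 3) : ℕ))
    (fun i => by rcases i with i | i <;> simp) (fun i j => ?_)
  rw [nf3_gram hA h2 hg h]
  rcases i with i | i <;> rcases j with j | j <;> fin_cases i <;> fin_cases j <;> simp [Fin.rev]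

theorem nf3_iso (hA : B.IsAlt) (hA' : B'.IsAlt) (h2 : (2 : F) ≠ 0) [FiniteDimensional F V] [FiniteDimensional F V']
    (h6 : finrank F V = 6) (h6' : finrank F V' = 6) {g : V ≃ₗ[F] V} {g' : V' ≃ₗ[F] V'}
    (hg : ∀ x y, B (g x) (g y) = B x y) (hg' : ∀ x y, B' (g' x) (g' y) = B' x y) {v w : V} {v' w' : V'}
    (h : NF3 B g v w) (h' : NF3 B' g' v' w') :
    ∃ e : V ≃ₗ[F] V', (∀ x y, B' (e x) (e y) = B x y) ∧ ∀ x, e (g x) = g' (e x) := by
  have hb := nf3_indep hA h2 hg h
  have hb' := nf3_indep hA' h2 hg' h'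
  have hcard : Fintype.card (Fin 3 ⊕ Fin 3) = 6 := rfl
  obtain ⟨e, he, heb⟩ := exists_iso_of_gram (B := B) (B' := B') _ _ hb hb' (hcard.trans h6.symm)
    (hcard.trans h6'.symm) (fun i j => by rw [nf3_gram hA h2 hg h, nf3_gram hA' h2 hg' h'])
  refine ⟨e, he, fun x => ?_⟩
  have hk : ∀ n : ℕ, e ((dm g ^ n) v) = (dm g' ^ n) v' ∧ e ((dm g ^ n) w) = (dm g' ^ n) w' := fun n => by
    by_cases hn : n < 3
    · exact ⟨heb (Sum.inl ⟨n, hn⟩), heb (Sum.inr ⟨n, hn⟩)⟩
    · obtain ⟨m, rfl⟩ := Nat.exists_eq_add_of_le' (Nat.le_of_not_lt hn)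
      simp [pow_add, show ∀ y, (dm g ^ 3) y = 0 from h.cube, show ∀ y, (dm g' ^ 3) y = 0 from h'.cube]
  have hD := intertwine hb (hcard.trans h6.symm) (e : V →ₗ[F] V') (dm g) (dm g') (fun i => by
    simp only [LinearEquiv.coe_coe, heb]
    rcases i with a | a
    · have k := (hk (a + 1)).1
      rwa [pow_succ', pow_succ'] at k
    · have k := (hk (a + 1)).2
      rwa [pow_succ', pow_succ'] at k)
  rw [h.expr, h'.expr, map_sub, map_sub, show e (dm g (dm g x)) = dm g' (e (dm g x)) from hD _,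
    show e (dm g x) = dm g' (e x) from hD x]

end Cfsg.Agent.Covering2.Symp6
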