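import Cfsg.Agent.Covering2.SympBasic
import Cfsg.Agent.Classical.QuadTypes
import Mathlib

/-!
In even characteristic every symplectic element preserves a quadratic form polarising to the
symplectic form, so it lies in a conjugate of one of two orthogonal groups.
-/

set_option autoImplicit false

namespace Cfsg.Agent.Covering2

open Cfsg.Agent.Classical Matrix QuadraticMap

variable {F : Type} [Field F] {m : ℕ}

local notation "V" => Fin m ⊕ Fin m → F

/-- `g` preserves some quadratic form polarising to the symplectic form. -/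
theorem exists_invariant_quadratic [Finite F] (h2 : (2 : F) = 0) (Q : QuadraticForm F V)
    (hQ : ∀ x y, polar Q x y = sympB m F x y) (g : V ≃ₗ[F] V)
    (hg : ∀ u v, sympB m F (g u) (g v) = sympB m F u v) :
    ∃ Q' : QuadraticForm F V, (∀ x y, polar Q' x y = sympB m F x y) ∧ ∀ x, Q' (g x) = Q' x := by
  have hneg : ∀ a : F, -a = a := fun a => by linear_combination (-a) * h2
  have hinj : ∀ a b : F, a ^ 2 = b ^ 2 → a = b := fun a b h => by
    have : (a - b) ^ 2 = 0 := by linear_combination h + (b ^ 2 - a * b) * h2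
    exact sub_eq_zero.1 (pow_eq_zero_iff two_ne_zero |>.1 this)
  have hsurj : Function.Surjective fun a : F => a ^ 2 := Finite.injective_iff_surjective.1 fun a b h => hinj a b h
  choose s hs using hsurj
  simp only at hs
  have hadd : ∀ x y, Q (g (x + y)) + Q (x + y) = (Q (g x) + Q x) + (Q (g y) + Q y) := by
    intro x y
    have e1 := hQ (g x) (g y)
    have e2 := hQ x y
    rw [hg] at e1
    simp only [polar] at e1 e2
    rw [map_add g]
    linear_combination e1 + e2 + sympB m F x y * h2
  let l : V →ₗ[F] F :=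
    { toFun := fun x => s (Q (g x) + Q x)
      map_add' := fun x y => hinj _ _ (by
        rw [hs, hadd]
        linear_combination -(hs (Q (g x) + Q x)) - hs (Q (g y) + Q y) -
          (s (Q (g x) + Q x) * s (Q (g y) + Q y)) * h2)
      map_smul' := fun c x => hinj _ _ (by
        simp only [RingHom.id_apply, smul_eq_mul]
        rw [hs, mul_pow, hs, map_smul, QuadraticMap.map_smul, QuadraticMap.map_smul, smul_eq_mul, smul_eq_mul]
        ring) }
  have hl : ∀ x, l x ^ 2 = Q (g x) + Q x := fun x => hs _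
  let T : V →ₗ[F] V := (g : V →ₗ[F] V) + LinearMap.id
  have hmem : l ∈ T.dualMap.range := by
    rw [LinearMap.range_dualMap_eq_dualAnnihilator_ker, Submodule.mem_dualAnnihilator]
    intro x hx
    have hx' : g x = x := by
      have h0 : g x + x = 0 := hx
      calc g x = g x + x - x := (add_sub_cancel_right _ _).symm
        _ = x := by
          rw [h0, zero_sub]
          funext i
          exact hneg _
    have := hl x
    rw [hx', show Q x + Q x = 0 by linear_combination (Q x) * h2] at this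
    exact pow_eq_zero_iff two_ne_zero |>.1 this
  obtain ⟨φ, hφ⟩ := hmem
  refine ⟨Q + linMulLin φ φ, fun x y => ?_, fun x => ?_⟩
  · have := hQ x y
    simp only [polar, _root_.QuadraticMap.add_apply, linMulLin_apply, map_add] at this ⊢
    linear_combination this + (φ x * φ y) * h2
  · have e : φ (g x) + φ x = l x := by
      rw [← hφ, LinearMap.dualMap_apply]
      exact (map_add φ _ _).symm
    have := hl x
    simp only [_root_.QuadraticMap.add_apply, linMulLin_apply]
    rw [← e] at this
    linear_combination -this + (-(Q x) + φ (g x) ^ 2 + φ (g x) * φ x) * h2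

/-- The orthogonal group of a quadratic form inside the symplectic group. -/
def orthStab [Finite F] (Q : QuadraticForm F V) : Subgroup (Matrix.symplecticGroup (Fin m) F) :=
  finSubgroup (fun A => ∀ v, Q (A.1 *ᵥ v) = Q v) (fun v => by rw [Submonoid.coe_one, one_mulVec])
    (fun A B hA hB v => by rw [Submonoid.coe_mul, ← mulVec_mulVec, hA, hB])

theorem orthStab_ne_top [Finite F] (hm : 2 ≤ m) (Q : QuadraticForm F V)
    (hQ : ∀ x y, polar Q x y = sympB m F x y) : orthStab Q ≠ ⊤ := by
  intro h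
  have key : ∀ x v : V, sympB m F x v ≠ 0 → Q v = 1 := by
    intro x v hxv
    have hm' : (⟨_, sympTransvection_mem v (-1)⟩ : Matrix.symplecticGroup (Fin m) F) ∈ orthStab Q :=
      h ▸ Subgroup.mem_top _
    have e := (mem_finSubgroup.1 hm') x
    rw [sympTransvection_mulVec] at e
    set c := -1 * sympB m F x v with hc
    have e1 := hQ x (c • v)
    simp only [polar, QuadraticMap.map_smul, smul_eq_mul, map_smul] at e1
    rw [hc] at e e1
    have : sympB m F x v * sympB m F x v * (Q v - 1) = 0 := by linear_combination e - e1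
    rcases mul_eq_zero.1 this with h' | h'
    · exact absurd (mul_self_eq_zero.1 h') hxv
    · exact sub_eq_zero.1 h'
  let a : V := Pi.single (Sum.inl ⟨0, by omega⟩) 1
  let a' : V := Pi.single (Sum.inr ⟨0, by omega⟩) 1
  let b : V := Pi.single (Sum.inl ⟨1, by omega⟩) 1
  let b' : V := Pi.single (Sum.inr ⟨1, by omega⟩) 1
  have hv : ∀ u w : Fin m ⊕ Fin m, sympB m F (Pi.single u 1) (Pi.single w 1) = Matrix.J (Fin m) F u w :=
    fun u w => Matrix.toBilin'_single _ _ _
  have h01 : (⟨0, by omega⟩ : Fin m) ≠ ⟨1, by omega⟩ := by simp [Fin.ext_iff]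
  have ha : Q a = 1 := key a' a (by simp [a, a', hv, Matrix.J])
  have hb : Q b = 1 := key b' b (by simp [b, b', hv, Matrix.J])
  have hab : Q (a + b) = 1 := key a' (a + b) (by simp [a, a', b, hv, Matrix.J, h01])
  have hBab : sympB m F a b = 0 := by simp [a, b, hv, Matrix.J]
  have := hQ a b
  rw [polar, hab, ha, hb, hBab] at this
  exact one_ne_zero (α := F) (by linear_combination -this)

/-- The covering of `PSp₂ₘ` in even characteristic. -/
theorem psp_even [Fintype F] (hm : 2 ≤ m) (heven : ¬ Odd (Fintype.card F)) :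
    ∃ H K : Subgroup (Cfsg.PSp m F), H ≠ ⊤ ∧ K ≠ ⊤ ∧
      ∀ g : Cfsg.PSp m F, ∃ x, x * g * x⁻¹ ∈ H ∨ x * g * x⁻¹ ∈ K := by
  classical
  haveI : CharP F 2 := ringChar.of_eq
    (FiniteField.even_card_iff_char_two.2 (Nat.even_iff.1 (Nat.not_odd_iff_even.1 heven)))
  have h2 : (2 : F) = 0 := by exact_mod_cast CharP.cast_eq_zero F 2
  let T : LinearMap.BilinForm F V := Matrix.toBilin' (Matrix.fromBlocks 0 1 0 0)
  let Q0 : QuadraticForm F V := LinearMap.BilinMap.toQuadraticMap T
  have hQ0 : ∀ x y, polar Q0 x y = sympB m F x y := by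
    intro x y
    rw [show polar Q0 x y = T x y + T y x from LinearMap.BilinMap.polar_toQuadraticMap x y, sympB_eq_sum]
    simp only [T, Matrix.toBilin'_apply', dotProduct, Fintype.sum_sum_type, Matrix.fromBlocks_mulVec]
    simp [Matrix.one_mulVec, Finset.sum_sub_distrib]
    linear_combination (∑ i, x (Sum.inl i) * y (Sum.inr i)) * h2 + (Finset.sum_congr rfl
      (fun i _ => mul_comm (y (Sum.inl i)) (x (Sum.inr i))) : ∑ i, y (Sum.inl i) * x (Sum.inr i) = _)
  have hnd : ∀ Q : QuadraticForm F V, (∀ x y, polar Q x y = sympB m F x y) → (polarBilin Q).Nondegenerate := by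
    intro Q hQ
    have : polarBilin Q = sympB m F := LinearMap.ext₂ fun x y => by rw [polarBilin_apply_apply, hQ]
    rw [this]
    exact sympB_nondeg
  obtain ⟨ζ, hζ⟩ := Quad.exists_rootfree (F := F)
  obtain ⟨Q1, hQ1, Q2, hQ2, hcls⟩ : ∃ Q1 : QuadraticForm F V, (∀ x y, polar Q1 x y = sympB m F x y) ∧
      ∃ Q2 : QuadraticForm F V, (∀ x y, polar Q2 x y = sympB m F x y) ∧
      ∀ Q : QuadraticForm F V, (∀ x y, polar Q x y = sympB m F x y) → Quad.Iso Q Q1 ∨ Quad.Iso Q Q2 := by
    by_cases hall : ∀ Q : QuadraticForm F V, (∀ x y, polar Q x y = sympB m F x y) → Quad.Iso Q Q0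
    · exact ⟨Q0, hQ0, Q0, hQ0, fun Q hQ => Or.inl (hall Q hQ)⟩
    push Not at hall
    obtain ⟨Q2, hQ2, hne⟩ := hall
    refine ⟨Q0, hQ0, Q2, hQ2, fun Q hQ => ?_⟩
    have hfr : Module.finrank F V = 2 * m := finrank_symp
    rcases Quad.even_cases (hnd Q hQ) hfr with a | a <;> rcases Quad.even_cases (hnd Q0 hQ0) hfr with b | b <;>
      rcases Quad.even_cases (hnd Q2 hQ2) hfr with c | c
    · exact Or.inl (a.symm.trans b)
    · exact Or.inl (a.symm.trans b)
    · exact Or.inr (a.symm.trans c)
    · exact absurd ((c.2 1 ζ (Quad.rootfree_aniso hζ)).symm.trans (b.2 1 ζ (Quad.rootfree_aniso hζ))) hne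
    · exact absurd (c.symm.trans b) hne
    · exact Or.inr ((a.2 1 ζ (Quad.rootfree_aniso hζ)).symm.trans (c.2 1 ζ (Quad.rootfree_aniso hζ)))
    · exact Or.inl ((a.2 1 ζ (Quad.rootfree_aniso hζ)).symm.trans (b.2 1 ζ (Quad.rootfree_aniso hζ)))
    · exact Or.inl ((a.2 1 ζ (Quad.rootfree_aniso hζ)).symm.trans (b.2 1 ζ (Quad.rootfree_aniso hζ)))
  have hcen : ∀ Q : QuadraticForm F V,
      Subgroup.center (Matrix.symplecticGroup (Fin m) F) ≤ orthStab Q := by
    intro Q z hz v
    obtain ⟨a, ha, hav⟩ := sp_center_scalar (by omega) hz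
    rw [hav, QuadraticMap.map_smul, smul_eq_mul, ← pow_two, ha, one_mul]
  refine lift _ (orthStab Q1) (orthStab Q2) (orthStab_ne_top hm Q1 hQ1) (orthStab_ne_top hm Q2 hQ2)
    (hcen _) (hcen _) fun g => ?_
  obtain ⟨Q, hQ, hgQ⟩ := exists_invariant_quadratic h2 Q0 hQ0 (spLin g) fun u v => (mem_symplectic_iff g.1).1 g.2 u v
  have conj : ∀ Q' : QuadraticForm F V, (∀ x y, polar Q' x y = sympB m F x y) → Quad.Iso Q Q' →
      ∃ x : Matrix.symplecticGroup (Fin m) F, x * g * x⁻¹ ∈ orthStab Q' := by
    rintro Q' hQ' ⟨e, he⟩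
    obtain ⟨x, hx⟩ := exists_sp_of_iso e fun u v => by
      rw [← hQ', ← hQ]; simp only [polar, ← map_add, he]
    refine ⟨x, mem_finSubgroup.2 fun v => ?_⟩
    rw [sp_conj_mulVec, hx, he, ← spLin_apply g, hgQ, ← he, ← hx, sp_mulVec_inv]
  rcases hcls Q hQ with h | h
  · obtain ⟨x, hx⟩ := conj Q1 hQ1 h
    exact ⟨x, Or.inl hx⟩
  · obtain ⟨x, hx⟩ := conj Q2 hQ2 h
    exact ⟨x, Or.inr hx⟩

end Cfsg.Agent.Covering2
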