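import Cfsg.Agent.Covering2.UnitBasic
import Mathlib

/-!
`PSU₄` is covered by the conjugates of a nondegenerate point stabiliser and of the stabiliser of a
totally isotropic line.
-/

set_option autoImplicit false

namespace Cfsg.Agent.Covering2.Unit

open Polynomial Module Cfsg.Agent.Classical

section Abstract

variable {F V : Type*} [Field F] [AddCommGroup V] [Module F V] {σ : F →+* F}
variable {B : V →ₛₗ[σ] V →ₗ[F] F}

/-- A nondegenerate invariant point. -/
def PointCase (B : V →ₛₗ[σ] V →ₗ[F] F) (g : V ≃ₗ[F] V) : Prop := ∃ v, B v v ≠ 0 ∧ ∃ μ : F, g v = μ • v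

/-- A totally isotropic invariant line. -/
def LineCase (B : V →ₛₗ[σ] V →ₗ[F] F) (g : V ≃ₗ[F] V) : Prop :=
  ∃ u w : V, LinearIndependent F ![u, w] ∧ B u u = 0 ∧ B u w = 0 ∧ B w w = 0 ∧
    g u ∈ Submodule.span F {u, w} ∧ g w ∈ Submodule.span F {u, w}

theorem smul_self_ne (h : Herm.IsHerm B) {c : F} (hc : c ≠ 0) {v : V} (hv : B v v ≠ 0) :
    B (c • v) (c • v) ≠ 0 := by
  rw [Herm.smul_self h]
  exact mul_ne_zero (mul_ne_zero hc ((map_ne_zero σ).2 hc)) hv

theorem add_smul_self (h : Herm.IsHerm B) {e u : V} (hee : B e e = 0) (heu : B e u = 0) (a : F) :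
    B (u + a • e) (u + a • e) = B u u := by
  simp [map_smulₛₗ, hee, heu, herm_symm_zero h heu]

/-- An isotropic eigenvector `e` and a vector `u ⊥ e` which is an eigenvector modulo `e`. -/
theorem mod_eigen_case (h : Herm.IsHerm B) {g : V ≃ₗ[F] V} {e u : V} (hee : B e e = 0) (heu : B e u = 0)
    (hu : B u u ≠ 0) {lam μ c : F} (hge : g e = lam • e) (hgu : g u = μ • u + c • e) (hne : μ ≠ lam) :
    PointCase B g := by
  refine ⟨u + (c / (μ - lam)) • e, by rwa [add_smul_self h hee heu], μ, ?_⟩
  rw [map_add, map_smul, hge, hgu, smul_add, smul_smul, smul_smul, add_assoc, ← add_smul]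
  congr 2
  field_simp [sub_ne_zero.2 hne]
  ring

theorem classify_four [Finite F] [FiniteDimensional F V] (h : Herm.IsHerm B) (h4 : finrank F V = 4)
    {g : V ≃ₗ[F] V} (hg : ∀ x y, B (g x) (g y) = B x y) : PointCase B g ∨ LineCase B g := by
  haveI : Nontrivial V := Module.nontrivial_of_finrank_pos (R := F) (by omega)
  by_cases heig : ∃ v : V, v ≠ 0 ∧ ∃ μ : F, g v = μ • v
  · obtain ⟨e, he0, lam, hge⟩ := heig
    by_cases hee : B e e = 0
    swap
    · exact Or.inl ⟨e, hee, lam, hge⟩
    have hlam : lam ≠ 0 := fun e0 => he0 (g.injective (by rw [hge, e0, zero_smul, map_zero]))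
    obtain ⟨y, hy⟩ : ∃ y, B y e ≠ 0 := by
      by_contra hc
      push Not at hc
      exact he0 (h.nondeg e fun y => herm_symm_zero h (hc y))
    set φ : V →ₗ[F] F := B ((σ (B y e))⁻¹ • y) with hφdef
    have hφ : φ e = 1 := by
      simp [hφdef, map_smulₛₗ, map_inv₀, h.invol, inv_mul_cancel₀ hy]
    obtain ⟨f, hff, hfe'⟩ := Herm.exists_isotropic_repr h hee hφ
    have hfe : B f e = 1 := by rw [hfe' e hee, hφ]
    have hef : B e f = 1 := by rw [← h.symm, hfe, map_one]
    let P : V →ₗ[F] F × F := (B e).prod (B f)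
    let U := LinearMap.ker P
    have hU : ∀ x, x ∈ U ↔ B e x = 0 ∧ B f x = 0 := fun x => by simp [U, P]
    have hU2 : finrank F U = 2 := by
      have hs : LinearMap.range P = ⊤ := by
        rw [eq_top_iff]
        rintro ⟨a, b⟩ -
        exact ⟨a • f + b • e, by simp [P, hef, hfe, hee, hff]⟩
      have := P.finrank_range_add_finrank_ker
      rw [hs, finrank_top, Module.finrank_prod, Module.finrank_self, h4] at this
      show finrank F (LinearMap.ker P) = 2
      omega
    have hUnd : ∀ x ∈ U, (∀ y ∈ U, B x y = 0) → x = 0 := by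
      intro x hx hxU
      obtain ⟨h1, h2⟩ := (hU x).1 hx
      refine h.nondeg x fun y => ?_
      have hy : y - B f y • e - B e y • f ∈ U := (hU _).2 ⟨by simp [hee, hef], by simp [hfe, hff]⟩
      have := hxU _ hy
      simpa [herm_symm_zero h h1, herm_symm_zero h h2] using this
    have hUe : ∀ x ∈ U, B e (g x) = 0 := by
      intro x hx
      have := hg e x
      rw [hge, map_smulₛₗ, LinearMap.smul_apply, smul_eq_mul, ((hU x).1 hx).1] at this
      exact (mul_eq_zero.1 this).resolve_left ((map_ne_zero σ).2 hlam)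
    let T : U →ₗ[F] U :=
      ((g : V →ₗ[F] V).comp U.subtype - ((B f).comp ((g : V →ₗ[F] V).comp U.subtype)).smulRight e).codRestrict U
        fun x => (hU _).2 ⟨by simp [hee, hUe x x.2], by simp [hfe]⟩
    have hT : ∀ x : U, (T x : V) = g x - B f (g x) • e := fun x => rfl
    have hgT : ∀ x : U, g x = (T x : V) + B f (g x) • e := fun x => by rw [hT, sub_add_cancel]
    have hTiso : ∀ x y : U, B (T x : V) (T y : V) = B (x : V) (y : V) := by
      intro x y
      have h1 := hUe x x.2
      have h2 := hUe y y.2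
      rw [hT, hT, ← hg (x : V) y]
      simp [map_smulₛₗ, hee, h2, herm_symm_zero h h1]
    have hTinj : Function.Injective T := by
      refine (injective_iff_map_eq_zero T).2 fun x hx => Subtype.ext (hUnd x x.2 fun y hy => ?_)
      have := hTiso x ⟨y, hy⟩
      rw [hx] at this
      simpa using this.symm
    let Te := LinearEquiv.ofBijective T ⟨hTinj, LinearMap.injective_iff_surjective.1 hTinj⟩
    obtain ⟨u, hu0, μ, hTu⟩ := exists_eigen_of_two (restrictForm_herm h hUnd) hU2 (g := Te) hTiso
    have hu0' : (u : V) ≠ 0 := fun hc => hu0 (Subtype.ext hc)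
    have hgu : g u = μ • (u : V) + B f (g u) • e := by
      have hT' : T u = μ • u := hTu
      conv_lhs => rw [hgT u, hT']
      rfl
    obtain ⟨heu, hfu⟩ := (hU u).1 u.2
    have hindep : ∀ x : V, x ∈ U → x ≠ 0 → LinearIndependent F ![e, x] := by
      intro x hx hx0
      rw [LinearIndependent.pair_iff]
      intro s t hst
      have h1 := congrArg (B f) hst
      simp [hfe, ((hU x).1 hx).2] at h1
      rw [h1, zero_smul, zero_add] at hst
      exact ⟨h1, (smul_eq_zero.1 hst).resolve_right hx0⟩
    have mem : ∀ (a b : F) (x : V), a • e + b • x ∈ Submodule.span F {e, x} := fun a b x =>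
      Submodule.mem_span_pair.2 ⟨a, b, rfl⟩
    by_cases huu : B (u : V) u = 0
    · refine Or.inr ⟨e, u, hindep u u.2 hu0', hee, heu, huu, ?_, ?_⟩
      · rw [hge]; simpa using mem lam 0 u
      · rw [hgu, add_comm]; exact mem _ _ _
    by_cases hμ : μ = lam
    swap
    · exact Or.inl (mod_eigen_case h hee heu huu hge hgu hμ)
    obtain rfl : lam = μ := hμ.symm
    obtain ⟨w, hw, hw0⟩ : ∃ w : U, B (u : V) (w : V) = 0 ∧ w ≠ 0 := by
      let L : U →ₗ[F] F := (B (u : V)).comp U.subtype
      have hker : LinearMap.ker L ≠ ⊥ := by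
        intro hb
        have h1 := L.finrank_range_add_finrank_ker
        have h2 := Submodule.finrank_le (LinearMap.range L)
        rw [hb, finrank_bot, hU2] at h1
        rw [Module.finrank_self] at h2
        omega
      obtain ⟨w, hw, hw0⟩ := Submodule.exists_mem_ne_zero_of_ne_bot hker
      exact ⟨w, hw, hw0⟩
    have hspan : ∀ x : U, ∃ a b : F, x = a • u + b • w := by
      intro x
      have hli : LinearIndependent F ![u, w] := by
        rw [LinearIndependent.pair_iff]
        intro s t hst
        have h1 := congrArg (fun z : U => B (u : V) (z : V)) hst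
        simp [hw] at h1
        have hs : s = 0 := h1.resolve_right huu
        rw [hs, zero_smul, zero_add] at hst
        exact ⟨hs, (smul_eq_zero.1 hst).resolve_right hw0⟩
      have hx : x ∈ Submodule.span F (Set.range ![u, w]) := by
        rw [hli.span_eq_top_of_card_eq_finrank' (by rw [Fintype.card_fin, hU2])]
        trivial
      rw [Matrix.range_cons_cons_empty] at hx
      obtain ⟨a, b, hab⟩ := Submodule.mem_span_pair.1 hx
      exact ⟨a, b, hab.symm⟩
    have hww : B (w : V) w ≠ 0 := by
      intro hc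
      refine hw0 (Subtype.ext (hUnd w w.2 fun y hy => ?_))
      obtain ⟨a, b, hab⟩ := hspan ⟨y, hy⟩
      rw [show y = a • (u : V) + b • (w : V) from congrArg Subtype.val hab]
      simp [hc, herm_symm_zero h hw]
    obtain ⟨a, ν, hTw⟩ := hspan (T w)
    have ha : a = 0 := by
      have h1 := hTiso u w
      rw [show T u = lam • u from hTu, hTw, hw] at h1
      simp [map_smulₛₗ, hw, hlam] at h1
      exact h1.resolve_right huu
    rw [ha, zero_smul, zero_add] at hTw
    have hgw : g w = ν • (w : V) + B f (g w) • e := by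
      conv_lhs => rw [hgT w, hTw]
      rfl
    obtain ⟨hew, hfw⟩ := (hU w).1 w.2
    by_cases hν : ν = lam
    swap
    · exact Or.inl (mod_eigen_case h hee hew hww hge hgw hν)
    obtain rfl : ν = lam := hν
    set c := B f (g u)
    set d := B f (g w)
    by_cases hc : c = 0
    · exact Or.inl ⟨u, huu, ν, by rw [hgu, hc, zero_smul, add_zero]⟩
    set v : U := d • u - c • w
    have hgv : g v = ν • (v : V) := by
      show g (d • (u : V) - c • (w : V)) = ν • (d • (u : V) - c • (w : V))
      rw [map_sub, map_smul, map_smul, hgu, hgw, smul_add, smul_add, smul_sub, smul_smul, smul_smul, smul_smul,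
        smul_smul, smul_smul, smul_smul, mul_comm d ν, mul_comm c ν, mul_comm c d]
      abel
    have hv0 : (v : V) ≠ 0 := by
      intro hc0
      have h1 := congrArg (B (w : V)) hc0
      simp [v, herm_symm_zero h hw, hc, hww] at h1
    by_cases hvv : B (v : V) v = 0
    · refine Or.inr ⟨e, v, hindep v v.2 hv0, hee, ((hU v).1 v.2).1, hvv, ?_, ?_⟩
      · rw [hge]; simpa using mem ν 0 v
      · rw [hgv]; simpa using mem 0 ν v
    · exact Or.inl ⟨v, hvv, ν, hgv⟩
  -- no eigenvector
  set G : Module.End F V := (g : V →ₗ[F] V)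
  have hroots : ∀ c : F, ¬ G.charpoly.IsRoot c := by
    intro c hc
    rw [← Module.End.hasEigenvalue_iff_isRoot_charpoly] at hc
    obtain ⟨v, hv⟩ := hc.exists_hasEigenvector
    exact heig ⟨v, hv.2, c, hv.apply_eq_smul⟩
  have hdeg : G.charpoly.natDegree = 4 := by rw [LinearMap.charpoly_natDegree, h4]
  have h0 : aeval G G.charpoly = 0 := LinearMap.aeval_self_charpoly _
  obtain ⟨a, ham, had, v, hv0, hva⟩ : ∃ a : F[X], a.Monic ∧ a.natDegree = 2 ∧
      ∃ v : V, v ≠ 0 ∧ aeval G a v = 0 := by
    have hnot : ¬ Irreducible G.charpoly := fun hi =>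
      no_even_irreducible h hg hi (by rw [hdeg]; exact ⟨2, rfl⟩) h0
    obtain ⟨a, ham, ha, b, hab⟩ := exists_monic_irreducible_factor G.charpoly
      (not_isUnit_of_natDegree_pos _ (by omega))
    have hbm : b.Monic := ham.of_mul_monic_left (hab ▸ LinearMap.charpoly_monic _)
    have hsum : a.natDegree + b.natDegree = 4 := by rw [← ham.natDegree_mul hbm, ← hab, hdeg]
    have key : ∀ u : F[X], u.Monic → u ∣ G.charpoly → u.natDegree ≠ 1 := by
      intro u hu hdvd h1
      refine hroots (-u.coeff 0) (Polynomial.IsRoot.dvd ?_ hdvd)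
      rw [hu.eq_X_add_C h1]
      simp
    have ha0 := ha.natDegree_pos
    have ha1 := key a ham (hab ▸ dvd_mul_right _ _)
    have hb1 := key b hbm (hab ▸ dvd_mul_left _ _)
    have hb0 : b.natDegree ≠ 0 := fun hb => hnot (by rwa [hab, hbm.natDegree_eq_zero.1 hb, mul_one])
    by_cases hinj : ∃ v : V, v ≠ 0 ∧ aeval G a v = 0
    · exact ⟨a, ham, by omega, hinj⟩
    obtain ⟨v, hv⟩ := exists_ne (0 : V)
    refine ⟨b, hbm, by omega, v, hv, ?_⟩
    by_contra hne
    refine hinj ⟨_, hne, ?_⟩
    rw [← Module.End.mul_apply, ← map_mul, ← hab, h0, LinearMap.zero_apply]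
  have hgg : g (g v) = -(a.coeff 1) • g v + -(a.coeff 0) • v := by
    have e : a = X ^ 2 + C (a.coeff 1) * X + C (a.coeff 0) := by
      conv_lhs => rw [ham.as_sum, had]
      simp [Finset.sum_range_succ]
      ring
    rw [e] at hva
    simp [Module.algebraMap_end_apply, pow_two, G] at hva
    rw [neg_smul, neg_smul, ← sub_eq_zero]
    rw [← hva]
    abel
  have hind : LinearIndependent F ![v, g v] := by
    rw [LinearIndependent.pair_iff]
    intro s t hst
    by_cases ht : t = 0
    · rw [ht, zero_smul, add_zero] at hst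
      exact ⟨(smul_eq_zero.1 hst).resolve_right hv0, ht⟩
    · refine absurd ⟨v, hv0, -(t⁻¹ * s), ?_⟩ heig
      have : t • g v = -(s • v) := eq_neg_of_add_eq_zero_right hst
      calc g v = t⁻¹ • t • g v := by rw [smul_smul, inv_mul_cancel₀ ht, one_smul]
        _ = _ := by rw [this, smul_neg, smul_smul, neg_smul]
  set W := Submodule.span F {v, g v}
  have hWinv : ∀ x ∈ W, g x ∈ W := by
    intro x hx
    obtain ⟨s, t, rfl⟩ := Submodule.mem_span_pair.1 hx
    rw [map_add, map_smul, map_smul, hgg]
    exact add_mem (W.smul_mem _ (Submodule.subset_span (by simp))) (W.smul_mem _ (add_mem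
      (W.smul_mem _ (Submodule.subset_span (by simp))) (W.smul_mem _ (Submodule.subset_span (by simp)))))
  have hW2 : finrank F W = 2 := by
    have := finrank_span_eq_card hind
    rwa [Matrix.range_cons_cons_empty, Fintype.card_fin] at this
  have hsurj : ∀ x ∈ W, ∃ y ∈ W, g y = x := by
    intro x hx
    have hmap : W.map (g : V →ₗ[F] V) = W :=
      Submodule.eq_of_le_of_finrank_eq (Submodule.map_le_iff_le_comap.2 hWinv) (LinearEquiv.finrank_map_eq g W)
    exact Submodule.mem_map.1 (hmap.symm ▸ hx)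
  by_cases hWnd : ∀ x ∈ W, (∀ y ∈ W, B x y = 0) → x = 0
  · exfalso
    let gW : W →ₗ[F] W := ((g : V →ₗ[F] V).comp W.subtype).codRestrict W fun x => hWinv x x.2
    have hinj : Function.Injective gW := fun x y hxy => Subtype.ext (g.injective (congrArg Subtype.val hxy))
    obtain ⟨z, hz0, μ, hz⟩ := exists_eigen_of_two (restrictForm_herm h hWnd) hW2
      (g := LinearEquiv.ofBijective gW ⟨hinj, LinearMap.injective_iff_surjective.1 hinj⟩) (fun x y => hg x y)
    exact heig ⟨z, fun hc => hz0 (Subtype.ext hc), μ, congrArg Subtype.val hz⟩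
  push Not at hWnd
  obtain ⟨r, hr, hrW, hr0⟩ := hWnd
  have hgr : g r ∈ W := hWinv r hr
  have hgrW : ∀ y ∈ W, B (g r) y = 0 := fun y hy => by
    obtain ⟨z, hz, rfl⟩ := hsurj y hy
    rw [hg]
    exact hrW z hz
  have hind2 : LinearIndependent F ![r, g r] := by
    rw [LinearIndependent.pair_iff]
    intro s t hst
    by_cases ht : t = 0
    · rw [ht, zero_smul, add_zero] at hst
      exact ⟨(smul_eq_zero.1 hst).resolve_right hr0, ht⟩
    · refine absurd ⟨r, hr0, -(t⁻¹ * s), ?_⟩ heig
      have : t • g r = -(s • r) := eq_neg_of_add_eq_zero_right hst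
      calc g r = t⁻¹ • t • g r := by rw [smul_smul, inv_mul_cancel₀ ht, one_smul]
        _ = _ := by rw [this, smul_neg, smul_smul, neg_smul]
  have hspan : Submodule.span F {r, g r} = W := by
    refine Submodule.eq_of_le_of_finrank_eq ?_ ?_
    · rw [Submodule.span_le]
      rintro x (rfl | rfl) <;> assumption
    · have := finrank_span_eq_card hind2
      rw [Matrix.range_cons_cons_empty, Fintype.card_fin] at this
      rw [this, hW2]
  refine Or.inr ⟨r, g r, hind2, hrW r hr, hrW _ hgr, hgrW _ hgr, ?_, ?_⟩ <;> rw [hspan]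
  · exact hgr
  · exact hWinv _ hgr

end Abstract

section Group

variable {F : Type} [Field F] [Fintype F] {q : ℕ}

local notation "V" => Fin 4 → F

/-- The stabiliser of a subspace. -/
def spaceStab {n : ℕ} (W : Submodule F (Fin n → F)) : Subgroup (Cfsg.SU n F q) :=
  finSubgroup (fun x => ∀ w ∈ W, suLin x w ∈ W) (fun w hw => by simpa [suLin] using hw)
    (fun x y hx hy w hw => by rw [suLin_mul]; exact hx _ (hy _ hw))

theorem center_le_spaceStab {σ : F →+* F} (hσ : Herm.IsInvol σ) (hσq : ∀ x, σ x = x ^ q)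
    (hq : Nat.card (Herm.fixField σ) = q) {n : ℕ} (hn : 2 ≤ n) (W : Submodule F (Fin n → F)) :
    Subgroup.center (Cfsg.SU n F q) ≤ spaceStab W := by
  intro z hz w hw
  obtain ⟨a, ha⟩ := su_center_scalar hσ hσq hq hn hz
  rw [ha]
  exact W.smul_mem a hw

/-- The covering of `PSU₄`. -/
theorem psu_four (hF : Fintype.card F = q ^ 2) :
    ∃ H K : Subgroup (Cfsg.PSU 4 F q), H ≠ ⊤ ∧ K ≠ ⊤ ∧
      ∀ g : Cfsg.PSU 4 F q, ∃ x, x * g * x⁻¹ ∈ H ∨ x * g * x⁻¹ ∈ K := by
  classical
  obtain ⟨σ, hσq, hσ, hq, hq1⟩ := exists_powHom hF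
  set B := hermB 4 σ
  have h : Herm.IsHerm B := hermB_isHerm hσ 4
  have h4 : finrank F V = 4 := Module.finrank_fin_fun F
  let E : Fin 4 → V := fun i => Pi.single i 1
  have hE : ∀ i j, B (E i) (E j) = if i = j then 1 else 0 := isON_single 4
  obtain ⟨k, hk⟩ := Herm.exists_norm hσ (a := (-1 : F)) (by rw [map_neg, map_one])
  have hk' : σ k * k = -1 := by rw [mul_comm]; exact hk
  obtain ⟨c, hc, hc1⟩ : ∃ c : F, c * σ c = 1 ∧ c ≠ 1 := by
    have h1 : 1 < Nat.card (Herm.normHom σ).ker := by rw [Herm.card_ker_normHom hσ, hq]; omega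
    haveI : Nontrivial (Herm.normHom σ).ker := Finite.one_lt_card_iff_nontrivial.1 h1
    obtain ⟨x, hx⟩ := exists_ne (1 : (Herm.normHom σ).ker)
    exact ⟨((x : Fˣ) : F), congrArg Units.val x.2, fun h' => hx (Subtype.ext (Units.ext h'))⟩
  have hc' : 1 - c ≠ 0 := sub_ne_zero.2 (Ne.symm hc1)
  -- the two lines
  let b : Fin 4 → V :=
    ![E 0 + k • E 1, E 2 + k • E 3, (1 - c)⁻¹ • (E 0 + (c * k) • E 1), (1 - c)⁻¹ • (E 2 + (c * k) • E 3)]
  have hbb : ∀ i j, B (b i) (b j) = if j = i + 2 then 1 else 0 := by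
    have hck : σ c * c = 1 := by rw [mul_comm]; exact hc
    have hsc : 1 - σ c ≠ 0 := fun h' => hc' (by
      rw [← h.invol (1 - c), map_sub, map_one, h', map_zero])
    have key1 : (1 - c)⁻¹ * (1 + σ k * (c * k)) = 1 := by
      rw [show 1 + σ k * (c * k) = 1 - c by linear_combination c * hk']; exact inv_mul_cancel₀ hc'
    have key2 : (1 - σ c)⁻¹ * (1 + σ c * σ k * k) = 1 := by
      rw [show 1 + σ c * σ k * k = 1 - σ c by linear_combination (σ c) * hk']; exact inv_mul_cancel₀ hsc
    have key3 : 1 + σ c * σ k * (c * k) = 0 := by linear_combination (σ c * c) * hk' - hck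
    intro i j
    fin_cases i <;> fin_cases j <;>
      simp [b, map_smulₛₗ, hE, map_inv₀, mul_add, ← mul_assoc] <;>
      first
        | linear_combination hk'
        | linear_combination key1
        | linear_combination key2
        | linear_combination ((1 - c)⁻¹ * (1 - σ c)⁻¹) * key3
  have hindb : LinearIndependent F b := by
    rw [Fintype.linearIndependent_iff]
    intro a ha i
    have := congrArg (B (b (i + 2))) ha
    simp only [map_sum, map_smul, hbb, map_zero, smul_eq_mul, mul_ite, mul_one, mul_zero, Finset.sum_ite_eq',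
      Finset.mem_univ, if_true] at this
    rwa [show i + 2 + 2 = i by fin_cases i <;> rfl] at this
  let L0 : Submodule F V := Submodule.span F {b 0, b 1}
  let P0 : Submodule F V := Submodule.span F {E 0}
  -- moving a nondegenerate point to the first axis
  have htp : ∀ v : V, B v v ≠ 0 → ∃ x : Cfsg.SU 4 F q, suLin x v ∈ P0 := by
    intro v hv
    obtain ⟨a, ha⟩ := Herm.exists_unit_of_ne_zero h hv
    have ha0 : a ≠ 0 := by rintro rfl; simp at ha
    obtain ⟨M, hM, hMa⟩ := Herm.exists_isometry_of_on h (a := ![a • v]) (a' := ![E 0])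
      (fun i j => by fin_cases i; fin_cases j; simpa using ha) (fun i j => by fin_cases i; fin_cases j; simp [hE])
    have hδ := det_norm_one hσ hσq M hM
    set δ := LinearMap.det (M : V →ₗ[F] V)
    have hδ0 : δ ≠ 0 := left_ne_zero_of_mul_eq_one hδ
    let d : Fin 4 → F := ![δ⁻¹, 1, 1, 1]
    have hd : ∀ i, σ (d i) * d i = 1 := fun i => by
      fin_cases i <;> simp [d]
      rw [← mul_inv, mul_comm, hδ, inv_one]
    let bE := Pi.basisFun F (Fin 4)
    let D : V ≃ₗ[F] V := bE.equiv (bE.unitsSMul fun i => Units.mk0 (d i) (fun h0 => by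
      have := hd i; rw [h0, mul_zero] at this; exact zero_ne_one this)) (Equiv.refl _)
    have hDE : ∀ i, D (E i) = d i • E i := fun i => by
      have := bE.equiv_apply i (b' := bE.unitsSMul fun i => Units.mk0 (d i) (fun h0 => by
        have := hd i; rw [h0, mul_zero] at this; exact zero_ne_one this)) (e := Equiv.refl _)
      simpa [D, E, bE, Module.Basis.unitsSMul_apply, Units.smul_def] using this
    have hD : ∀ x y, B (D x) (D y) = B x y := by
      intro x y
      have he : (B.compl₂ (D : V →ₗ[F] V)).comp (D : V →ₗ[F] V) = B :=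
        bE.ext fun i => bE.ext fun j => by
          simp only [bE, Pi.basisFun_apply, LinearMap.comp_apply, LinearMap.compl₂_apply, LinearEquiv.coe_coe]
          show B (D (E i)) (D (E j)) = B (E i) (E j)
          simp only [hDE, map_smulₛₗ, LinearMap.smul_apply, RingHom.id_apply, smul_eq_mul, hE]
          split
          · next hij => subst hij; simp [mul_comm _ (σ (d i)), hd i]
          · simp
      exact LinearMap.congr_fun (LinearMap.congr_fun he x) y
    have hdet : LinearMap.det (D : V →ₗ[F] V) = δ⁻¹ := by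
      have hdiag : LinearMap.toMatrix bE bE (D : V →ₗ[F] V) = Matrix.diagonal d := by
        ext i j
        rw [LinearMap.toMatrix_apply, show (D : V →ₗ[F] V) (bE j) = d j • E j by simpa [bE, E] using hDE j]
        by_cases hij : i = j
        · subst hij; simp [bE, E]
        · simp [bE, E, hij, Matrix.diagonal_apply_ne _ hij]
      rw [← LinearMap.det_toMatrix bE, hdiag, Matrix.det_diagonal, Fin.prod_univ_four]
      simp [d]
    obtain ⟨x, hx⟩ := exists_su hσq (M.trans D) (fun u w => by
        show B (D (M u)) (D (M w)) = _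
        rw [hD, hM]) (by
        rw [show ((M.trans D : V ≃ₗ[F] V) : V →ₗ[F] V) = (D : V →ₗ[F] V) * (M : V →ₗ[F] V) from rfl, map_mul, hdet,
          inv_mul_cancel₀ hδ0])
    refine ⟨x, Submodule.mem_span_singleton.2 ⟨a⁻¹ * d 0, ?_⟩⟩
    have hMv : M (a • v) = E 0 := by simpa using hMa 0
    rw [hx, show (M.trans D) v = D (M v) from rfl,
      show M v = a⁻¹ • E 0 by rw [← hMv, map_smul, smul_smul, inv_mul_cancel₀ ha0, one_smul], map_smul, hDE,
      smul_smul]
  -- moving a totally isotropic line to the reference line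
  have htl : ∀ u w : V, LinearIndependent F ![u, w] → B u u = 0 → B u w = 0 → B w w = 0 →
      ∃ x : Cfsg.SU 4 F q, (Submodule.span F {u, w}).map (suLin x : V →ₗ[F] V) = L0 := by
    intro u w hind h00 h01 h11
    have hb2 : LinearIndependent F ![b 0, b 1] := by
      rw [LinearIndependent.pair_iff]
      intro s t hst
      have := Fintype.linearIndependent_iff.1 hindb ![s, t, 0, 0] (by simpa [Fin.sum_univ_four] using hst)
      exact ⟨this 0, this 1⟩
    obtain ⟨M, hM, hMb⟩ := Herm.witt_family h _ ![u, w] ![b 0, b 1] rfl hind hb2 (fun i j => by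
      fin_cases i <;> fin_cases j <;> simp [h00, h01, h11, herm_symm_zero h h01, hbb])
    have hδ := det_norm_one hσ hσq M hM
    set δ := LinearMap.det (M : V →ₗ[F] V)
    have hδ0 : δ ≠ 0 := left_ne_zero_of_mul_eq_one hδ
    obtain ⟨z, hz0, hz⟩ := Herm.exists_conj_quot hσ (y := δ⁻¹) (by rw [map_inv₀, ← mul_inv, hδ, inv_one])
    have hsz : σ z ≠ 0 := (map_ne_zero σ).2 hz0
    let d : Fin 4 → F := ![z, 1, (σ z)⁻¹, 1]
    have hd : ∀ i, σ (d i) * d (i + 2) = 1 := fun i => by
      fin_cases i <;> simp [d, h.invol, hsz, hz0]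
    let bb : Basis (Fin 4) F V := basisOfLinearIndependentOfCardEqFinrank hindb (by rw [h4, Fintype.card_fin])
    have hbb' : ∀ i, bb i = b i := fun i => congrFun (coe_basisOfLinearIndependentOfCardEqFinrank hindb _) i
    have hdu : ∀ i, d i ≠ 0 := fun i h0 => by
      have := hd i; rw [h0, map_zero, zero_mul] at this; exact zero_ne_one this
    let D : V ≃ₗ[F] V := bb.equiv (bb.unitsSMul fun i => Units.mk0 (d i) (hdu i)) (Equiv.refl _)
    have hDb : ∀ i, D (b i) = d i • b i := fun i => by
      have := bb.equiv_apply i (b' := bb.unitsSMul fun i => Units.mk0 (d i) (hdu i)) (e := Equiv.refl _)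
      simpa [D, hbb', Module.Basis.unitsSMul_apply, Units.smul_def] using this
    have hD : ∀ x y, B (D x) (D y) = B x y := by
      intro x y
      have he : (B.compl₂ (D : V →ₗ[F] V)).comp (D : V →ₗ[F] V) = B :=
        bb.ext fun i => bb.ext fun j => by
          simp only [hbb', LinearMap.comp_apply, LinearMap.compl₂_apply, LinearEquiv.coe_coe]
          simp only [hDb, map_smulₛₗ, LinearMap.smul_apply, RingHom.id_apply, smul_eq_mul, hbb]
          split
          · next hij => subst hij; simp [mul_comm _ (σ (d i)), hd i]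
          · simp
      exact LinearMap.congr_fun (LinearMap.congr_fun he x) y
    have hdet : LinearMap.det (D : V →ₗ[F] V) = δ⁻¹ := by
      have hdiag : LinearMap.toMatrix bb bb (D : V →ₗ[F] V) = Matrix.diagonal d := by
        ext i j
        rw [LinearMap.toMatrix_apply, show (D : V →ₗ[F] V) (bb j) = d j • bb j by simpa [hbb'] using hDb j]
        by_cases hij : i = j
        · subst hij; simp
        · simp [hij, Matrix.diagonal_apply_ne _ hij]
      rw [← LinearMap.det_toMatrix bb, hdiag, Matrix.det_diagonal, Fin.prod_univ_four]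
      simp [d, ← hz, div_eq_mul_inv]
    obtain ⟨x, hx⟩ := exists_su hσq (M.trans D) (fun u w => by
        show B (D (M u)) (D (M w)) = _
        rw [hD, hM]) (by
        rw [show ((M.trans D : V ≃ₗ[F] V) : V →ₗ[F] V) = (D : V →ₗ[F] V) * (M : V →ₗ[F] V) from rfl, map_mul, hdet,
          inv_mul_cancel₀ hδ0])
    refine ⟨x, ?_⟩
    have m0 : suLin x u = z • b 0 := by
      rw [hx, show (M.trans D) u = D (M u) from rfl, show M u = b 0 from hMb 0, hDb]; rfl
    have m1 : suLin x w = b 1 := by
      rw [hx, show (M.trans D) w = D (M w) from rfl, show M w = b 1 from hMb 1, hDb]; simp [d]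
    rw [Submodule.map_span, Set.image_pair]
    simp only [LinearEquiv.coe_coe, m0, m1]
    show _ = Submodule.span F {b 0, b 1}
    rw [Submodule.span_insert, Submodule.span_insert, Submodule.span_singleton_smul_eq (IsUnit.mk0 z hz0)]
  refine lift _ (spaceStab P0) (spaceStab L0) ?_ ?_ (center_le_spaceStab hσ hσq hq (by norm_num) _)
    (center_le_spaceStab hσ hσq hq (by norm_num) _) ?_
  · intro htop
    obtain ⟨x, hx⟩ := htp (E 1) (by simp [hE])
    have hxm : x ∈ spaceStab P0 := htop ▸ Subgroup.mem_top x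
    have h0 := mem_finSubgroup.1 hxm (E 0) (Submodule.mem_span_singleton_self _)
    obtain ⟨s, hs⟩ := Submodule.mem_span_singleton.1 hx
    obtain ⟨t, ht⟩ := Submodule.mem_span_singleton.1 h0
    have e : suLin x (t • E 1) = suLin x (s • E 0) := by
      rw [map_smul, map_smul, ← hs, ← ht, smul_smul, smul_smul, mul_comm]
    have := congrFun ((suLin x).injective e) 0
    simp [E] at this
    rw [← this, zero_smul] at hs
    exact one_ne_zero (α := F) (by simpa [E] using congrFun ((suLin x).map_eq_zero_iff.1 hs.symm) 1)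
  · intro htop
    have hck : σ c * c = 1 := by rw [mul_comm]; exact hc
    have hu : ∀ i j : Fin 4, i ≠ j → B (E i + (c * k) • E j) (E i + (c * k) • E j) = 0 := fun i j hij => by
      simp [map_smulₛₗ, hE, hij, hij.symm]
      linear_combination (σ c * c) * hk' - hck
    obtain ⟨x, hx⟩ := htl (E 0 + (c * k) • E 1) (E 2 + k • E 3)
      (LinearIndependent.pair_iff.2 fun s t hst => by
        have h1 := congrFun hst 0
        have h2 := congrFun hst 2
        simp [E] at h1 h2
        exact ⟨h1, h2⟩)
      (hu 0 1 (by decide)) (by simp [map_smulₛₗ, hE])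
      (by simp [map_smulₛₗ, hE]; linear_combination hk')
    have hxm : x ∈ spaceStab L0 := htop ▸ Subgroup.mem_top x
    have hmem : suLin x (E 0 + (c * k) • E 1) ∈ L0 := by
      rw [← hx]; exact Submodule.mem_map_of_mem (Submodule.subset_span (by simp))
    have := mem_finSubgroup.1 (inv_mem hxm) _ hmem
    rw [suLin_inv_self] at this
    obtain ⟨s, t, hst⟩ := Submodule.mem_span_pair.1 this
    have h1 := congrFun hst 0
    have h2 := congrFun hst 1
    simp [b, E] at h1 h2
    rw [h1] at h2
    have hk0 : k ≠ 0 := fun h' => by simp [h'] at hk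
    rcases h2 with h2 | h2
    · exact hc1 h2.symm
    · exact hk0 h2
  intro g
  rcases classify_four h h4 (suLin_iso hσq g) with ⟨v, hv, μ, hμ⟩ | ⟨u, w, hind, h00, h01, h11, hgu, hgw⟩
  · obtain ⟨x, hx⟩ := htp v hv
    refine ⟨x, Or.inl (mem_finSubgroup.2 fun y hy => ?_)⟩
    obtain ⟨s, hs⟩ := Submodule.mem_span_singleton.1 hx
    obtain ⟨t, rfl⟩ := Submodule.mem_span_singleton.1 hy
    have hs0 : s ≠ 0 := by
      rintro rfl
      rw [zero_smul] at hs
      apply hv
      rw [(suLin x).map_eq_zero_iff.1 hs.symm]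
      simp
    have hxe : suLin x⁻¹ (E 0) = s⁻¹ • v := by
      rw [show E 0 = s⁻¹ • suLin x v by rw [← hs, smul_smul, inv_mul_cancel₀ hs0, one_smul], map_smul, suLin_inv_self]
    rw [map_smul, suLin_mul, suLin_mul, hxe, map_smul, map_smul, hμ, map_smul]
    exact Submodule.smul_mem _ _ (Submodule.smul_mem _ _ (Submodule.smul_mem _ _ hx))
  · obtain ⟨x, hx⟩ := htl u w hind h00 h01 h11
    refine ⟨x, Or.inr (mem_finSubgroup.2 fun y hy => ?_)⟩
    rw [← hx] at hy ⊢
    obtain ⟨y', hy', rfl⟩ := Submodule.mem_map.1 hy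
    rw [suLin_mul, suLin_mul, LinearEquiv.coe_coe, suLin_inv_self]
    refine Submodule.mem_map_of_mem (f := (suLin x : V →ₗ[F] V)) ?_
    obtain ⟨s, t, rfl⟩ := Submodule.mem_span_pair.1 hy'
    rw [map_add, map_smul, map_smul]
    exact add_mem (Submodule.smul_mem _ _ hgu) (Submodule.smul_mem _ _ hgw)

end Group

end Cfsg.Agent.Covering2.Unit
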