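import Cfsg.Agent.Covering2.Unit3Field
import Cfsg.Agent.Covering2.Unit4
import Mathlib

/-!
`PSU₃` in characteristic three is covered by the conjugates of a nondegenerate point stabiliser and of
the normaliser of a cubic field.
-/

set_option autoImplicit false

namespace Cfsg.Agent.Covering2.Unit

open Polynomial Module Cfsg.Agent.Classical

section Abstract

variable {F V V' : Type*} [Field F] [AddCommGroup V] [Module F V] [AddCommGroup V'] [Module F V'] {σ : F →+* F}
variable {B : V →ₛₗ[σ] V →ₗ[F] F} {B' : V' →ₛₗ[σ] V' →ₗ[F] F}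

/-- `g` normalises the algebra generated by a self-adjoint root of `p`. -/
def KCase (B : V →ₛₗ[σ] V →ₗ[F] F) (p : F[X]) (g : V ≃ₗ[F] V) : Prop :=
  ∃ J : Module.End F V, (∀ x y, B (J x) y = B x (J y)) ∧ aeval J p = 0 ∧
    ∃ r : F[X], (g : Module.End F V) * J = aeval J r * (g : Module.End F V)

theorem kcase_transfer (e : V ≃ₗ[F] V') (he : ∀ x y, B' (e x) (e y) = B x y) {p : F[X]} {g : V ≃ₗ[F] V}
    {g' : V' ≃ₗ[F] V'} (hg : ∀ x, e (g x) = g' (e x)) (h : KCase B' p g') : KCase B p g := by
  obtain ⟨J, hJ, hp, r, hr⟩ := h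
  let c := (LinearEquiv.conjAlgEquiv F e.symm)
  refine ⟨c J, fun x y => ?_, by rw [aeval_algEquiv, AlgHom.comp_apply, hp, map_zero], r, ?_⟩
  · show B (e.symm (J (e x))) y = B x (e.symm (J (e y)))
    rw [← he, LinearEquiv.apply_symm_apply, hJ, ← he x, LinearEquiv.apply_symm_apply]
  · have hgc : (g : Module.End F V) = c (g' : Module.End F V') := LinearMap.ext fun x => by
      show g x = e.symm (g' (e x))
      rw [← hg, LinearEquiv.symm_apply_apply]
    rw [hgc, aeval_algEquiv, AlgHom.comp_apply, ← map_mul, hr]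
    exact map_mul c _ _

/-- `g - 1`. -/
def nm (g : V ≃ₗ[F] V) : Module.End F V := (g : V →ₗ[F] V) - 1

theorem nm_apply (g : V ≃ₗ[F] V) (x : V) : nm g x = g x - x := rfl

/-- The normal form of a regular unipotent isometry of a three-dimensional space. -/
structure NFU (B : V →ₛₗ[σ] V →ₗ[F] F) (g : V ≃ₗ[F] V) (v : V) : Prop where
  cube : ∀ x, nm g (nm g (nm g x)) = 0
  z0 : B v v = 0
  z1 : B v (nm g v) = -1
  z2 : B v (nm g (nm g v)) = 1

theorem nm_adjoint {g : V ≃ₗ[F] V} (hg : ∀ x y, B (g x) (g y) = B x y) (hc : ∀ x, nm g (nm g (nm g x)) = 0)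
    (x y : V) : B (nm g x) y = B x (nm g (nm g y) - nm g y) := by
  have hsymm : g.symm y = y + (nm g (nm g y) - nm g y) := by
    apply g.injective
    rw [LinearEquiv.apply_symm_apply]
    have hgx : ∀ z, g z = z + nm g z := fun z => by rw [nm_apply]; abel
    rw [hgx]
    simp only [map_add, map_sub, hc]
    abel
  rw [nm_apply g x, map_sub, LinearMap.sub_apply, iso_symm hg, hsymm, map_add]
  abel

theorem exists_nfu (hB : Herm.IsHerm B) (h3 : (3 : F) = 0) [Finite F] {g : V ≃ₗ[F] V}
    (hg : ∀ x y, B (g x) (g y) = B x y) (hc : ∀ x, nm g (nm g (nm g x)) = 0) {v : V}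
    (hv : B v (nm g (nm g v)) ≠ 0) : ∃ w, NFU B g w := by
  set N := nm g
  have ha : ∀ x y, B (N x) y = B x (N (N y) - N y) := nm_adjoint hg hc
  have hfix2 : ∀ u, σ (B u (N (N u))) = B u (N (N u)) := fun u => by
    rw [hB.symm, ha, map_sub, ha u (N (N u)), ha u (N u)]
    simp [hc, map_sub]
  obtain ⟨c, hcn⟩ := Herm.exists_norm hB.toIsInvol (a := (B v (N (N v)))⁻¹) (by rw [map_inv₀, hfix2])
  set u := c • v
  have hu : B u (N (N u)) = 1 := by
    simp only [u, map_smul, map_smulₛₗ, LinearMap.smul_apply, smul_eq_mul, RingHom.id_apply]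
    calc _ = c * σ c * B v (N (N v)) := by ring
      _ = 1 := by rw [hcn, inv_mul_cancel₀ hv]
  have t1 : B (N u) (N (N u)) = 0 := by rw [ha]; simp [hc]
  have t2 : B (N (N u)) (N (N u)) = 0 := by rw [ha]; simp [hc]
  have t3 : B (N u) (N u) = -1 := by rw [ha, map_sub, hc, map_zero, zero_sub, hu]
  have t4 : B (N (N u)) (N u) = 0 := by rw [← hB.symm, t1, map_zero]
  have t5 : B (N (N u)) u = 1 := by rw [← hB.symm, hu, map_one]
  have hk : σ (B u (N u) + 1) = -(B u (N u) + 1) := by
    rw [map_add, map_one, hB.symm, ha, map_sub, hu]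
    linear_combination h3
  obtain ⟨a, hak⟩ := Herm.exists_antitrace hB.toIsInvol hk
  have t6 : B (N u) u = σ (B u (N u)) := (hB.symm _ _).symm
  let w := u + a • N u
  have hw1 : B w (N w) = -1 := by
    simp only [w, map_add, map_smul, map_smulₛₗ, LinearMap.add_apply, LinearMap.smul_apply, smul_eq_mul,
      RingHom.id_apply]
    rw [t3, t1, hu]
    linear_combination -hak
  have hw2 : B w (N (N w)) = 1 := by
    simp only [w, map_add, map_smul, hc, smul_zero, add_zero, map_smulₛₗ, LinearMap.add_apply,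
      LinearMap.smul_apply, smul_eq_mul, t1, hu, mul_zero]
  obtain ⟨b, hb⟩ := Herm.exists_trace hB.toIsInvol (a := -B w w) (by rw [map_neg, hB.symm])
  have t7 : B (N (N w)) w = 1 := by rw [← hB.symm, hw2, map_one]
  have t8 : B (N (N w)) (N (N w)) = 0 := by rw [ha]; simp [hc]
  have t9 : B (N (N w)) (N w) = 0 := by rw [ha, map_sub, hc, map_zero, zero_sub, ha]; simp [hc, map_sub]
  refine ⟨w + b • N (N w), hc, ?_, ?_, ?_⟩
  · simp only [map_add, map_smul, map_smulₛₗ, LinearMap.add_apply, LinearMap.smul_apply, smul_eq_mul,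
      RingHom.id_apply]
    rw [hw2, t7, t8]
    linear_combination hb
  · simp only [show nm g = N from rfl, map_add, map_smul, hc, smul_zero, add_zero, map_smulₛₗ,
      LinearMap.add_apply, LinearMap.smul_apply, smul_eq_mul, t9, mul_zero, hw1]
  · simp only [show nm g = N from rfl, map_add, map_smul, hc, map_zero, smul_zero, add_zero, map_smulₛₗ,
      LinearMap.add_apply, LinearMap.smul_apply, smul_eq_mul, t8, mul_zero, hw2]

theorem nfu_gram (hB : Herm.IsHerm B) {g : V ≃ₗ[F] V} (hg : ∀ x y, B (g x) (g y) = B x y) {v : V}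
    (h : NFU B g v) (h3 : (3 : F) = 0) (i j : Fin 3) :
    B (![v, nm g v, nm g (nm g v)] i) (![v, nm g v, nm g (nm g v)] j) =
      (![![0, -1, 1], ![-1, -1, 0], ![1, 0, 0]] : Fin 3 → Fin 3 → F) i j := by
  have hc : ∀ x, nm g (nm g (nm g x)) = 0 := h.cube
  have ha := nm_adjoint hg hc
  have z0 := h.z0
  have z1 := h.z1
  have z2 := h.z2
  have y1 : B (nm g v) v = -1 := by rw [← hB.symm, z1, map_neg, map_one]
  have y2 : B (nm g (nm g v)) v = 1 := by rw [← hB.symm, z2, map_one]
  have x11 : B (nm g v) (nm g v) = -1 := by rw [ha, map_sub, hc, map_zero, zero_sub, z2]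
  have x12 : B (nm g v) (nm g (nm g v)) = 0 := by rw [ha]; simp [hc]
  have x21 : B (nm g (nm g v)) (nm g v) = 0 := by rw [← hB.symm, x12, map_zero]
  have x22 : B (nm g (nm g v)) (nm g (nm g v)) = 0 := by rw [ha]; simp [hc]
  fin_cases i <;> fin_cases j <;> simp [z0, z1, z2, y1, y2, x11, x12, x21, x22]

theorem nfu_indep (hB : Herm.IsHerm B) {g : V ≃ₗ[F] V} (hg : ∀ x y, B (g x) (g y) = B x y) {v : V}
    (h : NFU B g v) (h3 : (3 : F) = 0) : LinearIndependent F ![v, nm g v, nm g (nm g v)] := by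
  rw [Fintype.linearIndependent_iff]
  intro a ha
  have hg' := nfu_gram hB hg h h3
  have e : ∀ i, a 0 * B (![v, nm g v, nm g (nm g v)] i) (![v, nm g v, nm g (nm g v)] 0) +
      a 1 * B (![v, nm g v, nm g (nm g v)] i) (![v, nm g v, nm g (nm g v)] 1) +
      a 2 * B (![v, nm g v, nm g (nm g v)] i) (![v, nm g v, nm g (nm g v)] 2) = 0 := fun i => by
    have := congrArg (B (![v, nm g v, nm g (nm g v)] i)) ha
    simpa [Fin.sum_univ_three] using this
  simp only [hg'] at e
  have e0 := e 0
  have e1 := e 1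
  have e2 := e 2
  simp at e0 e1 e2
  intro i
  fin_cases i
  · exact e2
  · simpa [e2] using e1
  · have : a 1 = 0 := by simpa [e2] using e1
    simpa [e2, this] using e0

theorem nfu_iso [FiniteDimensional F V] [FiniteDimensional F V'] (hB : Herm.IsHerm B) (hB' : Herm.IsHerm B')
    (hV : finrank F V = 3) (hV' : finrank F V' = 3) (h3 : (3 : F) = 0) {g : V ≃ₗ[F] V} {g' : V' ≃ₗ[F] V'}
    (hg : ∀ x y, B (g x) (g y) = B x y) (hg' : ∀ x y, B' (g' x) (g' y) = B' x y) {v : V} {v' : V'}
    (h : NFU B g v) (h' : NFU B' g' v') :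
    ∃ e : V ≃ₗ[F] V', (∀ x y, B' (e x) (e y) = B x y) ∧ ∀ x, e (g x) = g' (e x) := by
  let b := basisOfLinearIndependentOfCardEqFinrank (nfu_indep hB hg h h3) (by rw [Fintype.card_fin, hV])
  let b' := basisOfLinearIndependentOfCardEqFinrank (nfu_indep hB' hg' h' h3) (by rw [Fintype.card_fin, hV'])
  have hb : ∀ i, b i = ![v, nm g v, nm g (nm g v)] i := fun i =>
    congrFun (coe_basisOfLinearIndependentOfCardEqFinrank _ _) i
  have hb' : ∀ i, b' i = ![v', nm g' v', nm g' (nm g' v')] i := fun i =>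
    congrFun (coe_basisOfLinearIndependentOfCardEqFinrank _ _) i
  let e := b.equiv b' (Equiv.refl _)
  have he : ∀ i, e (b i) = b' i := fun i => b.equiv_apply i b' (Equiv.refl _)
  refine ⟨e, fun x y => ?_, fun x => ?_⟩
  · have hcomp : (B'.compl₂ (e : V →ₗ[F] V')).comp (e : V →ₗ[F] V') = B :=
      b.ext fun i => b.ext fun j => by
        simp only [LinearMap.comp_apply, LinearMap.compl₂_apply, LinearEquiv.coe_coe, he]
        rw [hb', hb', hb, hb, nfu_gram hB' hg' h' h3, nfu_gram hB hg h h3]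
    exact LinearMap.congr_fun (LinearMap.congr_fun hcomp x) y
  · have hc : ∀ x, nm g (nm g (nm g x)) = 0 := h.cube
    have hc' : ∀ x, nm g' (nm g' (nm g' x)) = 0 := h'.cube
    have hcomp : (e : V →ₗ[F] V').comp (nm g) = (nm g').comp (e : V →ₗ[F] V') := b.ext fun i => by
      simp only [LinearMap.comp_apply, LinearEquiv.coe_coe, he]
      have k0 := he 0
      have k1 := he 1
      have k2 := he 2
      rw [hb, hb'] at k0 k1 k2
      simp at k0 k1 k2
      rw [hb, hb']
      fin_cases i <;> simp [k1, k2, hc, hc']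
    have := LinearMap.congr_fun hcomp x
    simp only [LinearMap.comp_apply, LinearEquiv.coe_coe, nm_apply, map_sub] at this
    exact sub_left_injective this

variable {E : Type*} [Field E] [Algebra F E] [FiniteDimensional F E] [Finite E]

/-- Classification of the isometries of a three-dimensional Hermitian space in characteristic three. -/
theorem classify_three [Finite F] [FiniteDimensional F V] (hB : Herm.IsHerm B) (hV : finrank F V = 3)
    (h3 : (3 : F) = 0) (D : CubicHerm F E σ)
    {g : V ≃ₗ[F] V} (hg : ∀ x y, B (g x) (g y) = B x y) : PointCase B g ∨ KCase B (minpoly F D.η) g := by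
  haveI : Nontrivial V := Module.nontrivial_of_finrank_pos (R := F) (by omega)
  haveI : Algebra.IsSeparable F E := inferInstance
  by_cases heig : ∃ v : V, v ≠ 0 ∧ ∃ μ : F, g v = μ • v
  swap
  · right
    set G : Module.End F V := (g : V →ₗ[F] V)
    have hdeg : G.charpoly.natDegree = 3 := by rw [LinearMap.charpoly_natDegree, hV]
    have hirr : Irreducible G.charpoly :=
      (irreducible_iff_roots_eq_zero_of_degree_le_three (by omega) (by omega)).2
        (Multiset.eq_zero_of_forall_notMem fun c hc => by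
          have := isRoot_of_mem_roots hc
          rw [← Module.End.hasEigenvalue_iff_isRoot_charpoly] at this
          obtain ⟨v, hv⟩ := this.exists_hasEigenvector
          exact heig ⟨v, hv.2, c, hv.apply_eq_smul⟩)
    obtain ⟨J, hJ, hp, hc⟩ := exists_root_of_irreducible D hB hV hg (LinearMap.charpoly_monic _) hirr hdeg
      (LinearMap.aeval_self_charpoly _)
    exact ⟨J, hJ, hp, Polynomial.X, by rw [aeval_X]; exact hc⟩
  obtain ⟨e, he0, lam, hge⟩ := heig
  by_cases hee : B e e = 0
  swap
  · exact Or.inl ⟨e, hee, lam, hge⟩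
  have hlam : lam ≠ 0 := fun e0 => he0 (g.injective (by rw [hge, e0, zero_smul, map_zero]))
  obtain ⟨y, hy⟩ : ∃ y, B y e ≠ 0 := by
    by_contra hc
    push Not at hc
    exact he0 (hB.nondeg e fun y => herm_symm_zero hB (hc y))
  set φ : V →ₗ[F] F := B ((σ (B y e))⁻¹ • y) with hφdef
  have hφ : φ e = 1 := by simp [hφdef, map_smulₛₗ, map_inv₀, hB.invol, inv_mul_cancel₀ hy]
  obtain ⟨f, hff, hfe'⟩ := Herm.exists_isotropic_repr hB hee hφ
  have hfe : B f e = 1 := by rw [hfe' e hee, hφ]
  have hef : B e f = 1 := by rw [← hB.symm, hfe, map_one]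
  let P : V →ₗ[F] F × F := (B e).prod (B f)
  have hP : ∀ x, x ∈ LinearMap.ker P ↔ B e x = 0 ∧ B f x = 0 := fun x => by simp [P]
  have hU1 : finrank F (LinearMap.ker P) = 1 := by
    have hs : LinearMap.range P = ⊤ := by
      rw [eq_top_iff]
      rintro ⟨a, b⟩ -
      exact ⟨a • f + b • e, by simp [P, hef, hfe, hee, hff]⟩
    have := P.finrank_range_add_finrank_ker
    rw [hs, finrank_top, Module.finrank_prod, Module.finrank_self, hV] at this
    omega
  obtain ⟨⟨w, hw⟩, hw0, hspan⟩ := finrank_eq_one_iff'.1 hU1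
  obtain ⟨hew, hfw⟩ := (hP w).1 hw
  have hw0' : w ≠ 0 := fun hc => hw0 (Subtype.ext hc)
  have hdec : ∀ x, ∃ s : F, x = B f x • e + B e x • f + s • w := by
    intro x
    obtain ⟨s, hs⟩ := hspan ⟨x - B f x • e - B e x • f, (hP _).2 ⟨by simp [hee, hef], by simp [hfe, hff]⟩⟩
    refine ⟨s, ?_⟩
    have hs' : s • w = x - B f x • e - B e x • f := congrArg Subtype.val hs
    rw [hs']
    abel
  have hww : B w w ≠ 0 := by
    intro hc
    refine hw0' (hB.nondeg w fun x => ?_)
    obtain ⟨s, hs⟩ := hdec x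
    rw [hs]
    simp [herm_symm_zero hB hew, herm_symm_zero hB hfw, hc]
  have hegw : B e (g w) = 0 := by
    have := hg e w
    rw [hge, map_smulₛₗ, LinearMap.smul_apply, smul_eq_mul, hew] at this
    exact (mul_eq_zero.1 this).resolve_left ((map_ne_zero σ).2 hlam)
  obtain ⟨ν, hν⟩ := hdec (g w)
  rw [hegw, zero_smul, add_zero, add_comm] at hν
  set c := B f (g w)
  by_cases hνl : ν = lam
  swap
  · exact Or.inl (mod_eigen_case hB hee hew hww hge hν hνl)
  rw [hνl] at hν
  by_cases hc0 : c = 0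
  · exact Or.inl ⟨w, hww, lam, by rw [hν, hc0, zero_smul, add_zero]⟩
  right
  have hnorm : σ lam * lam = 1 := by
    have h1 := hg w w
    rw [hν] at h1
    simp [map_smulₛₗ, hee, hew, herm_symm_zero hB hew] at h1
    exact mul_right_cancel₀ hww (by rw [one_mul]; linear_combination h1)
  -- the unipotent multiple
  let g' : V ≃ₗ[F] V := g.trans (LinearEquiv.smulOfNeZero F V lam⁻¹ (inv_ne_zero hlam))
  have hg'a : ∀ x, g' x = lam⁻¹ • g x := fun x => rfl
  have hli : σ lam⁻¹ * lam⁻¹ = 1 := by rw [map_inv₀, ← mul_inv, hnorm, inv_one]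
  have hg' : ∀ x y, B (g' x) (g' y) = B x y := fun x y => by
    rw [hg'a, hg'a]
    simp only [map_smulₛₗ, LinearMap.smul_apply, smul_eq_mul, RingHom.id_apply, hg]
    linear_combination (B x y) * hli
  have h1e : g' e = e := by rw [hg'a, hge, smul_smul, inv_mul_cancel₀ hlam, one_smul]
  set c' := lam⁻¹ * c
  have hc' : c' ≠ 0 := mul_ne_zero (inv_ne_zero hlam) hc0
  have h1w : g' w = w + c' • e := by
    rw [hg'a, hν, smul_add, smul_smul, smul_smul, inv_mul_cancel₀ hlam, one_smul]
  obtain ⟨β, hβ⟩ := hdec (g' f)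
  have h1γ : B e (g' f) = 1 := by
    have := hg' e f
    rwa [h1e, hef] at this
  rw [h1γ, one_smul] at hβ
  set α := B f (g' f)
  have Ne : nm g' e = 0 := by rw [nm_apply, h1e, sub_self]
  have Nw : nm g' w = c' • e := by rw [nm_apply, h1w]; abel
  have Nf : nm g' f = α • e + β • w := by
    rw [nm_apply]
    calc g' f - f = (α • e + f + β • w) - f := by rw [← hβ]
      _ = _ := by abel
  have NNf : nm g' (nm g' f) = (β * c') • e := by
    rw [Nf, map_add, map_smul, map_smul, Ne, Nw, smul_zero, zero_add, smul_smul]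
  have hcube : ∀ x, nm g' (nm g' (nm g' x)) = 0 := by
    intro x
    obtain ⟨s, hs⟩ := hdec x
    rw [hs]
    simp [Ne, Nw, NNf]
  have hβ0 : β ≠ 0 := by
    intro h0
    have h1 := hg' f w
    rw [h1w, hfw, hβ, h0] at h1
    simp [map_smulₛₗ, hee, hew, hfe, herm_symm_zero hB hew, hfw] at h1
    exact hc' h1
  have hv : B f (nm g' (nm g' f)) ≠ 0 := by
    rw [NNf, map_smul, hfe, smul_eq_mul, mul_one]
    exact mul_ne_zero hβ0 hc'
  obtain ⟨v, hnf⟩ := exists_nfu hB h3 hg' hcube hv
  -- the model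
  have hE : (3 : E) = 0 := by rw [← map_ofNat (algebraMap F E) 3, h3, map_zero]
  let φE : E ≃ₗ[F] E := D.σ.toLinearEquiv
  have hφE : ∀ x y, D.form (φE x) (φE y) = D.form x y := fun x y => by
    show Algebra.trace F E (D.ψ (D.σ x) * D.σ y) = Algebra.trace F E (D.ψ x * y)
    rw [← D.comm, ← map_mul, Algebra.trace_eq_of_algEquiv]
  have hN : ∀ x, nm φE x = D.σ x - x := fun x => rfl
  have hcubeE : ∀ x, nm φE (nm φE (nm φE x)) = 0 := fun x => by
    simp only [hN, map_sub, D.cube]
    linear_combination (D.σ x - D.σ (D.σ x)) * hE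
  have hNθ : nm φE (nm φE D.θ) = 1 := by
    have h1 := D.tr D.θ
    rw [D.one, map_one] at h1
    simp only [hN, map_sub]
    linear_combination -h1 - D.σ D.θ * hE
  have hBE := D.isHerm hB.toIsInvol
  obtain ⟨v', hnf'⟩ := exists_nfu hBE h3 hφE hcubeE (v := D.θ) (by
    rw [hNθ, D.form_apply, mul_one, D.trace_ψ, D.one, map_one]
    exact one_ne_zero)
  have hk : KCase D.form (minpoly F D.η) φE := by
    obtain ⟨pb, hpb⟩ := D.exists_pb D.ηdeg
    obtain ⟨r, hr⟩ := pb.exists_eq_aeval' (D.σ D.η)
    rw [hpb] at hr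
    refine ⟨Algebra.lsmul F F E D.η, fun x y => ?_, by rw [aeval_algHom_apply, minpoly.aeval, map_zero], r,
      LinearMap.ext fun x => ?_⟩
    · show Algebra.trace F E (D.ψ (D.η * x) * y) = Algebra.trace F E (D.ψ x * (D.η * y))
      rw [map_mul D.ψ, D.ηfix, mul_left_comm, mul_assoc]
    · rw [aeval_algHom_apply, ← hr]
      exact map_mul D.σ D.η x
  obtain ⟨ψ, hψ, hψg⟩ := nfu_iso hB hBE hV D.dim h3 hg' hφE hnf hnf'
  obtain ⟨J, hJ, hp, r, hr⟩ := kcase_transfer ψ hψ hψg hk
  refine ⟨J, hJ, hp, r, LinearMap.ext fun x => ?_⟩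
  have := LinearMap.congr_fun hr x
  change lam⁻¹ • g (J x) = aeval J r (lam⁻¹ • g x) at this
  rw [map_smul] at this
  exact smul_right_injective V (inv_ne_zero hlam) this

end Abstract

section Group

variable {F : Type} [Field F] [Fintype F] {q : ℕ}

local notation "V" => Fin 3 → F

/-- The normaliser of the algebra generated by `J`. -/
noncomputable def algStab (J : Module.End F V) : Subgroup (Cfsg.SU 3 F q) :=
  finSubgroup (fun x => ∃ r : F[X], ∀ w, suLin x (J w) = aeval J r (suLin x w))
    ⟨Polynomial.X, fun w => by simp [suLin]⟩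
    (by
      rintro A A' ⟨r, hr⟩ ⟨r', hr'⟩
      refine ⟨r'.comp r, fun w => ?_⟩
      rw [suLin_mul, suLin_mul, hr']
      have : ∀ (q : F[X]) (w : V), suLin A (aeval J q w) = aeval J (q.comp r) (suLin A w) := by
        intro q
        induction q using Polynomial.induction_on with
        | C a => intro w; simp [Module.algebraMap_end_apply]
        | add a b ha hb => intro w; simp [ha, hb]
        | monomial k a ih =>
          intro w
          rw [pow_succ, ← mul_assoc, map_mul, aeval_X, Module.End.mul_apply, ih, hr]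
          simp only [Polynomial.mul_comp, X_comp, map_mul, Module.End.mul_apply]
      exact this r' _)

/-- The covering of `PSU₃` in characteristic three. -/
theorem psu_three {a : ℕ} (hF : Fintype.card F = q ^ 2) (ha : 1 ≤ a) (hqa : q = 3 ^ a) :
    ∃ H K : Subgroup (Cfsg.PSU 3 F q), H ≠ ⊤ ∧ K ≠ ⊤ ∧
      ∀ g : Cfsg.PSU 3 F q, ∃ x, x * g * x⁻¹ ∈ H ∨ x * g * x⁻¹ ∈ K := by
  classical
  haveI : Fact (Nat.Prime 3) := ⟨Nat.prime_three⟩
  haveI : CharP F 3 := charP_of_card_eq_prime_pow (show Fintype.card F = 3 ^ (2 * a) by rw [hF, hqa, ← pow_mul, mul_comm])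
  have h3 : (3 : F) = 0 := by exact_mod_cast CharP.cast_eq_zero F 3
  obtain ⟨σ, hσq, hσ, hq, hq1⟩ := exists_powHom hF
  obtain ⟨E, _, _, _, ⟨D⟩⟩ := exists_cubicHerm hF hσq hq1
  haveI : Module.Finite F E := Module.Finite.of_finite
  set B := hermB 3 σ
  have h : Herm.IsHerm B := hermB_isHerm hσ 3
  have hV : finrank F V = 3 := Module.finrank_fin_fun F
  have hBE := D.isHerm hσ
  let p := minpoly F D.η
  have hpi : Irreducible p := minpoly.irreducible (IsIntegral.of_finite F D.η)
  have hpm : p.Monic := minpoly.monic (IsIntegral.of_finite F D.η)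
  -- adjusting an isometry by a scalar
  have hadj : ∀ M : V ≃ₗ[F] V, (∀ x y, B (M x) (M y) = B x y) →
      ∃ (x : Cfsg.SU 3 F q) (c : F), c ≠ 0 ∧ ∀ v, suLin x v = c • M v := by
    intro M hM
    have hδ := det_norm_one hσ hσq M hM
    set δ := LinearMap.det (M : V →ₗ[F] V)
    have hδ0 : δ ≠ 0 := left_ne_zero_of_mul_eq_one hδ
    have hinj : Function.Injective fun x : F => x ^ 3 := fun x y e => frobenius_inj F 3 e
    obtain ⟨c, hc⟩ := Finite.injective_iff_surjective.1 hinj δ⁻¹
    simp only at hc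
    have hc0 : c ≠ 0 := by rintro rfl; simp at hc; exact hδ0 (by simpa using hc.symm)
    have hcn : c * σ c = 1 := hinj (by
      simp only [mul_pow, ← map_pow, hc, one_pow, map_inv₀, ← mul_inv, hδ, inv_one])
    let Mc := M.trans (LinearEquiv.smulOfNeZero F V c hc0)
    obtain ⟨x, hx⟩ := exists_su hσq Mc (fun u v => by
      show B (c • M u) (c • M v) = B u v
      simp only [map_smulₛₗ, LinearMap.smul_apply, smul_eq_mul, RingHom.id_apply, hM]
      linear_combination (B u v) * hcn) (by
      rw [show ((Mc : V ≃ₗ[F] V) : V →ₗ[F] V) = c • (M : V →ₗ[F] V) from rfl, LinearMap.det_smul, hV, hc,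
        inv_mul_cancel₀ hδ0])
    exact ⟨x, c, hc0, hx⟩
  -- the reference root
  obtain ⟨J, hJ, hJp⟩ : ∃ J : Module.End F V, (∀ x y, B (J x) y = B x (J y)) ∧ aeval J p = 0 := by
    have hdim : finrank F E = 3 := D.dim
    obtain ⟨b, hb⟩ := Herm.exists_orthonormal hBE
    let b3 := b.reindex (finCongr hdim)
    have hb3 : ∀ i j, D.form (b3 i) (b3 j) = if i = j then 1 else 0 := fun i j => by
      simp only [b3, Module.Basis.reindex_apply, hb _ _]
      simp [Fin.ext_iff]
    let e : E ≃ₗ[F] V := b3.equivFun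
    have he : ∀ x y, B (e x) (e y) = D.form x y := fun x y => by
      have heb : ∀ i, e (b3 i) = Pi.single i 1 := fun i => funext fun j => by
        simp only [e, Module.Basis.equivFun_self, Pi.single_apply, eq_comm]
      have hcomp : (B.compl₂ (e : E →ₗ[F] V)).comp (e : E →ₗ[F] V) = D.form :=
        b3.ext fun i => b3.ext fun j => by
          simp only [LinearMap.comp_apply, LinearMap.compl₂_apply, LinearEquiv.coe_coe, heb, hb3]
          exact isON_single 3 i j
      exact LinearMap.congr_fun (LinearMap.congr_fun hcomp x) y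
    let c := (LinearEquiv.conjAlgEquiv F e)
    refine ⟨c (Algebra.lsmul F F E D.η), fun x y => ?_, ?_⟩
    · obtain ⟨x, rfl⟩ := e.surjective x
      obtain ⟨y, rfl⟩ := e.surjective y
      show B (e (D.η * e.symm (e x))) (e y) = B (e x) (e (D.η * e.symm (e y)))
      rw [e.symm_apply_apply, e.symm_apply_apply, he, he]
      show Algebra.trace F E (D.ψ (D.η * x) * y) = Algebra.trace F E (D.ψ x * (D.η * y))
      rw [map_mul D.ψ, D.ηfix, mul_left_comm, mul_assoc]
    · rw [aeval_algEquiv, AlgHom.comp_apply, aeval_algHom_apply, minpoly.aeval, map_zero, map_zero]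
  let E0 : V := Pi.single 0 1
  have hE0 : B E0 E0 = 1 := (isON_single 3 0 0).trans (if_pos rfl)
  have htp : ∀ v : V, B v v ≠ 0 → ∃ x : Cfsg.SU 3 F q, suLin x v ∈ Submodule.span F {E0} := by
    intro v hv
    obtain ⟨a, ha'⟩ := Herm.exists_unit_of_ne_zero h hv
    have ha0 : a ≠ 0 := by rintro rfl; simp at ha'
    obtain ⟨M, hM, hMa⟩ := Herm.exists_isometry_of_on h (a := ![a • v]) (a' := ![E0])
      (fun i j => by fin_cases i; fin_cases j; simpa using ha') (fun i j => by fin_cases i; fin_cases j; simpa using hE0)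
    obtain ⟨x, c, -, hx⟩ := hadj M hM
    refine ⟨x, Submodule.mem_span_singleton.2 ⟨c * a⁻¹, ?_⟩⟩
    have hMv : M (a • v) = E0 := by simpa using hMa 0
    rw [hx, show M v = a⁻¹ • E0 by rw [← hMv, map_smul, smul_smul, inv_mul_cancel₀ ha0, one_smul], smul_smul]
  have hcenK : Subgroup.center (Cfsg.SU 3 F q) ≤ algStab J := by
    intro z hz
    obtain ⟨s, hs⟩ := su_center_scalar hσ hσq hq (by norm_num) hz
    exact ⟨Polynomial.X, fun w => by rw [hs, hs, aeval_X, map_smul]⟩
  refine lift _ (spaceStab (Submodule.span F {E0})) (algStab J) ?_ ?_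
    (center_le_spaceStab hσ hσq hq (by norm_num) _) hcenK ?_
  · intro htop
    obtain ⟨x, hx⟩ := htp (Pi.single 1 1) (by rw [(isON_single 3 1 1).trans (if_pos rfl)]; exact one_ne_zero)
    have hxm : x ∈ spaceStab (Submodule.span F {E0}) := htop ▸ Subgroup.mem_top x
    have := mem_finSubgroup.1 (inv_mem hxm) _ hx
    rw [suLin_inv_self] at this
    obtain ⟨s, hs⟩ := Submodule.mem_span_singleton.1 this
    simpa [E0] using congrFun hs 1
  · intro htop
    obtain ⟨c, hc, hc1⟩ : ∃ c : F, c * σ c = 1 ∧ c ≠ 1 := by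
      have h1 : 1 < Nat.card (Herm.normHom σ).ker := by rw [Herm.card_ker_normHom hσ, hq]; omega
      haveI : Nontrivial (Herm.normHom σ).ker := Finite.one_lt_card_iff_nontrivial.1 h1
      obtain ⟨x, hx⟩ := exists_ne (1 : (Herm.normHom σ).ker)
      exact ⟨((x : Fˣ) : F), congrArg Units.val x.2, fun h' => hx (Subtype.ext (Units.ext h'))⟩
    -- the quasi-reflection along the first axis
    have hc0 : c ≠ 0 := left_ne_zero_of_mul_eq_one hc
    let R : V ≃ₗ[F] V := LinearEquiv.piCongrRight fun i =>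
      LinearEquiv.smulOfNeZero F F ((![c, 1, 1] : Fin 3 → F) i) (by fin_cases i <;> simp [hc0])
    have hRa : ∀ (x : V) i, R x i = (![c, 1, 1] : Fin 3 → F) i * x i := fun x i => rfl
    have hR : ∀ x y, B (R x) (R y) = B x y := fun x y => by
      simp only [B, hermB_apply, Fin.sum_univ_three, hRa, map_mul]
      simp
      linear_combination (σ (x 0) * y 0) * hc
    obtain ⟨x, d, hd0, hx⟩ := hadj R hR
    have hxm : x ∈ algStab J := htop ▸ Subgroup.mem_top x
    obtain ⟨r, hr⟩ := mem_finSubgroup.1 hxm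
    have hr' : ∀ w, R (J w) = aeval J r (R w) := fun w => by
      have := hr w
      rw [hx, hx, map_smul] at this
      exact smul_right_injective V hd0 this
    -- a vector moved neither by R nor by R after J
    obtain ⟨z, hz, hz'⟩ : ∃ z : V, z ≠ 0 ∧ z 0 = 0 ∧ J z 0 = 0 := by
      let L : V →ₗ[F] F × F := (LinearMap.proj 0).prod ((LinearMap.proj 0).comp J)
      have hker : LinearMap.ker L ≠ ⊥ := by
        intro hb
        have h1 := L.finrank_range_add_finrank_ker
        have h2 := Submodule.finrank_le (LinearMap.range L)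
        rw [hb, finrank_bot, hV] at h1
        rw [Module.finrank_prod, Module.finrank_self] at h2
        omega
      obtain ⟨z, hz, hz0⟩ := Submodule.exists_mem_ne_zero_of_ne_bot hker
      simp [L] at hz
      exact ⟨z, hz0, hz⟩
    have hfixv : ∀ w : V, w 0 = 0 → R w = w := fun w hw => funext fun i => by
      rw [hRa]; fin_cases i <;> simp [hw]
    have e1 := hr' z
    rw [hfixv z hz'.1, hfixv (J z) hz'.2] at e1
    have hrJ : aeval J r = J := by
      by_contra hne
      obtain ⟨m, hm⟩ := (show ∃ m : F[X], aeval J m * aeval J (r - Polynomial.X) = 1 by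
        obtain ⟨u, w, huw⟩ := hpi.coprime_iff_not_dvd.2 (show ¬ p ∣ (r - Polynomial.X) from fun ⟨s, hs⟩ => hne (by
          have := congrArg (aeval J) hs
          rwa [map_mul, hJp, zero_mul, map_sub, aeval_X, sub_eq_zero] at this))
        refine ⟨w, ?_⟩
        have := congrArg (aeval J) huw
        rwa [map_add, map_mul, map_mul, map_one, hJp, mul_zero, zero_add] at this)
      have := congrArg (fun T : Module.End F V => T z) hm
      simp [← e1] at this
      exact hz this.symm
    have hRJ : ∀ w, R (J w) = J (R w) := fun w => by rw [hr', hrJ]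
    have h0 := hRJ (Pi.single 0 1)
    have hRE : R (Pi.single 0 1) = c • (Pi.single 0 1 : V) := funext fun i => by
      rw [hRa]; fin_cases i <;> simp
    rw [hRE, map_smul] at h0
    have hev : J (Pi.single 0 1) = (J (Pi.single 0 1) 0) • (Pi.single 0 1 : V) := funext fun i => by
      have := congrFun h0 i
      rw [hRa] at this
      fin_cases i
      · simp
      · simp at this ⊢
        exact (mul_eq_zero.1 (show (c - 1) * J (Pi.single 0 1) 1 = 0 by linear_combination -this)).resolve_left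
          (sub_ne_zero.2 hc1)
      · simp at this ⊢
        exact (mul_eq_zero.1 (show (c - 1) * J (Pi.single 0 1) 2 = 0 by linear_combination -this)).resolve_left
          (sub_ne_zero.2 hc1)
    have heval := Module.End.aeval_apply_of_hasEigenvector (p := p)
      (show Module.End.HasEigenvector J _ (Pi.single (0 : Fin 3) (1 : F)) from
        ⟨Module.End.mem_eigenspace_iff.2 hev, by simp⟩)
    rw [hJp, LinearMap.zero_apply, eq_comm, smul_eq_zero] at heval
    have := degree_eq_one_of_irreducible_of_root hpi (show p.IsRoot _ from heval.resolve_right (by simp))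
    rw [degree_eq_natDegree hpi.ne_zero, D.ηdeg] at this
    norm_cast at this
  intro g
  rcases classify_three h hV h3 D (suLin_iso hσq g) with ⟨v, hv, μ, hμ⟩ | ⟨J', hJ', hJ'p, r, hr⟩
  · obtain ⟨x, hx⟩ := htp v hv
    refine ⟨x, Or.inl (mem_finSubgroup.2 fun y hy => ?_)⟩
    obtain ⟨s, hs⟩ := Submodule.mem_span_singleton.1 hx
    obtain ⟨t, rfl⟩ := Submodule.mem_span_singleton.1 hy
    have hs0 : s ≠ 0 := by
      rintro rfl
      rw [zero_smul] at hs
      apply hv
      rw [(suLin x).map_eq_zero_iff.1 hs.symm]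
      simp
    have hxe : suLin x⁻¹ E0 = s⁻¹ • v := by
      rw [show E0 = s⁻¹ • suLin x v by rw [← hs, smul_smul, inv_mul_cancel₀ hs0, one_smul], map_smul, suLin_inv_self]
    rw [map_smul, suLin_mul, suLin_mul, hxe, map_smul, map_smul, hμ, map_smul]
    exact Submodule.smul_mem _ _ (Submodule.smul_mem _ _ (Submodule.smul_mem _ _ hx))
  · obtain ⟨e1, he1, he1J⟩ := exists_model_iso D h hV hJ' hJ'p
    obtain ⟨e2, he2, he2J⟩ := exists_model_iso D h hV hJ hJp
    let M := e1.symm.trans e2
    have hM : ∀ u w, B (M u) (M w) = B u w := fun u w => by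
      show B (e2 (e1.symm u)) (e2 (e1.symm w)) = _
      rw [he2, ← he1, e1.apply_symm_apply, e1.apply_symm_apply]
    have hMJ : ∀ w, M (J' w) = J (M w) := fun w => by
      obtain ⟨a, rfl⟩ := e1.surjective w
      show e2 (e1.symm (J' (e1 a))) = J (e2 (e1.symm (e1 a)))
      rw [← he1J, e1.symm_apply_apply, e1.symm_apply_apply, he2J]
    obtain ⟨x, c, hc0, hx⟩ := hadj M hM
    have hxJ : ∀ w, suLin x (J' w) = J (suLin x w) := fun w => by rw [hx, hx, hMJ, map_smul]
    refine ⟨x, Or.inr (mem_finSubgroup.2 ⟨r, fun w => ?_⟩)⟩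
    obtain ⟨w, rfl⟩ := (suLin x).surjective w
    have hq' : ∀ (s : F[X]) (u : V), suLin x (aeval J' s u) = aeval J s (suLin x u) := by
      intro s
      induction s using Polynomial.induction_on with
      | C a => intro u; simp [Module.algebraMap_end_apply]
      | add a b ha hb => intro u; simp [ha, hb]
      | monomial k a ih =>
        intro u
        rw [pow_succ, ← mul_assoc, map_mul (aeval J') (_ * _), map_mul (aeval J) (_ * _), aeval_X, aeval_X,
          Module.End.mul_apply, Module.End.mul_apply, ih, hxJ]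
    rw [← hxJ, suLin_mul, suLin_mul, suLin_inv_self, suLin_mul, suLin_mul, suLin_inv_self, ← hq']
    congr 1
    exact LinearMap.congr_fun hr w

end Group

end Cfsg.Agent.Covering2.Unit
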