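import Cfsg.Agent.Covering2.UnitBasic
import Cfsg.Agent.Covering2.Symp6Model
import Mathlib

/-!
The cubic extension with its two commuting automorphisms, as a Hermitian space over the base field;
self-adjoint roots of its fixed primitive element are conjugate; isometries without eigenvector commute
with such a root.
-/

set_option autoImplicit false

namespace Cfsg.Agent.Covering2.Unit

open Polynomial Module Cfsg.Agent.Classical

/-- The cubic extension with an involution extending `σ` and a fixed primitive element. -/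
structure CubicHerm (F E : Type*) [Field F] [Field E] [Algebra F E] (τ : F →+* F)
    extends Symp6.Cubic F E where
  ψ : E →+* E
  invol : Herm.IsInvol ψ
  Q : ℕ
  ψpow : ∀ a, ψ a = a ^ Q
  ψbase : ∀ a : F, ψ (algebraMap F E a) = algebraMap F E (τ a)
  η : E
  ηfix : ψ η = η
  ηdeg : (minpoly F η).natDegree = 3

theorem exists_cubicHerm {F : Type} [Field F] [Fintype F] {σ : F →+* F} {q : ℕ} (hF : Fintype.card F = q ^ 2)
    (hσq : ∀ x, σ x = x ^ q) (hq1 : 1 < q) :
    ∃ (E : Type) (_ : Field E) (_ : Algebra F E) (_ : Finite E), Nonempty (CubicHerm F E σ) := by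
  classical
  obtain ⟨E, iE, iA, iF, ⟨D⟩⟩ := Symp6.exists_cubic F
  haveI := Fintype.ofFinite E
  haveI : Module.Finite F E := Module.Finite.of_finite
  have hE : Fintype.card E = (q ^ 3) ^ 2 := by
    rw [Module.card_eq_pow_finrank (K := F) (V := E), D.dim, hF]; ring
  obtain ⟨ψ, hψp, hψi, hψc, -⟩ := exists_powHom hE
  have hbase : ∀ a : F, ψ (algebraMap F E a) = algebraMap F E (σ a) := fun a => by
    rw [hψp, ← map_pow, hσq, show q ^ 3 = q ^ 2 * q by ring, pow_mul, ← hF, FiniteField.pow_card]
  obtain ⟨η, hη, hdeg⟩ : ∃ η : E, ψ η = η ∧ η ∉ Set.range (algebraMap F E) := by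
    by_contra h
    push Not at h
    have hc : Nat.card (Herm.fixField ψ) ≤ Nat.card F := by
      choose f hf using fun x : Herm.fixField ψ => h x.1 x.2
      exact Nat.card_le_card_of_injective f fun x y hxy => Subtype.ext (by rw [← hf x, ← hf y, hxy])
    rw [hψc, Nat.card_eq_fintype_card, hF] at hc
    nlinarith
  refine ⟨E, iE, iA, iF, ⟨⟨D, ψ, hψi, q ^ 3, hψp, hbase, η, hη, ?_⟩⟩⟩
  have hd := minpoly.degree_dvd (K := F) (IsIntegral.of_finite F η)
  rw [D.dim] at hd
  rcases (Nat.dvd_prime Nat.prime_three).1 hd with h | h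
  · exact absurd (minpoly.natDegree_eq_one_iff.1 h) hdeg
  · exact h

section Field

variable {F E : Type*} [Field F] [Field E] [Algebra F E] [FiniteDimensional F E] {σ : F →+* F}
variable (D : CubicHerm F E σ)

theorem CubicHerm.comm (a : E) : D.σ (D.ψ a) = D.ψ (D.σ a) := by rw [D.ψpow, D.ψpow, map_pow]

theorem CubicHerm.trace_ψ (a : E) : Algebra.trace F E (D.ψ a) = σ (Algebra.trace F E a) := by
  refine (algebraMap F E).injective ?_
  rw [D.tr, ← D.ψbase, D.tr, map_add, map_add, D.comm, D.comm]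

/-- The Hermitian form `tr(ψu · v)`. -/
noncomputable def CubicHerm.form : E →ₛₗ[σ] E →ₗ[F] F :=
  LinearMap.mk₂'ₛₗ σ (RingHom.id F) (fun u v => Algebra.trace F E (D.ψ u * v))
    (fun u u' v => by simp [add_mul])
    (fun c u v => by
      simp only [Algebra.smul_def, map_mul, D.ψbase, mul_assoc]
      rw [← Algebra.smul_def, map_smul, smul_eq_mul]
      rfl)
    (fun u v v' => by simp [mul_add])
    (fun c u v => by simp [mul_smul_comm])

theorem CubicHerm.form_apply (u v : E) : D.form u v = Algebra.trace F E (D.ψ u * v) := rfl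

theorem CubicHerm.isHerm [Algebra.IsSeparable F E] (hσ : Herm.IsInvol σ) : Herm.IsHerm D.form :=
  { toIsInvol := hσ
    symm := fun u v => by
      rw [D.form_apply, D.form_apply, ← D.trace_ψ, map_mul, D.invol.invol, mul_comm]
    nondeg := fun u hu => (map_eq_zero D.ψ).1 ((traceForm_nondegenerate F E).1 (D.ψ u) fun v => hu v) }

include D in
/-- The power basis of a primitive element. -/
theorem CubicHerm.exists_pb {μ : E} (hμ : (minpoly F μ).natDegree = 3) : ∃ pb : PowerBasis F E, pb.gen = μ := by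
  haveI : Nonempty (Fin (minpoly F μ).natDegree) := ⟨⟨0, by omega⟩⟩
  refine ⟨{ gen := μ
            dim := (minpoly F μ).natDegree
            basis := basisOfLinearIndependentOfCardEqFinrank (linearIndependent_pow μ)
              (by rw [Fintype.card_fin, hμ, D.dim])
            basis_eq_pow := fun i => by simp }, rfl⟩

variable {V : Type*} [AddCommGroup V] [Module F V] {B : V →ₛₗ[σ] V →ₗ[F] F}

omit [FiniteDimensional F E] in
/-- The adjoint of the action of the extension. -/
theorem hom_adjoint (ψ : E →+* E) (hψ : ∀ a : F, ψ (algebraMap F E a) = algebraMap F E (σ a))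
    (Φ : E →ₐ[F] Module.End F V) (pb : PowerBasis F E)
    (h : ∀ x y, B (Φ pb.gen x) y = B x (Φ (ψ pb.gen) y)) (a : E) (x y : V) : B (Φ a x) y = B x (Φ (ψ a) y) := by
  obtain ⟨r, rfl⟩ := pb.exists_eq_aeval' a
  rw [← aeval_algHom_apply, adjoint_aeval h, map_aeval_eq_aeval_map (φ := σ) (ψ := ψ) (RingHom.ext fun a => (hψ a).symm),
    ← aeval_algHom_apply]

omit [FiniteDimensional F E] in
theorem hom_inj [Nontrivial V] (Φ : E →ₐ[F] Module.End F V) {a : E} (ha : a ≠ 0) {x : V} (h : Φ a x = 0) : x = 0 := by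
  have := congrArg (fun T : Module.End F V => T x) (map_mul Φ a⁻¹ a)
  rw [inv_mul_cancel₀ ha, map_one] at this
  simpa [h] using this

variable [FiniteDimensional F V]

include D in
/-- Self-adjoint roots of the minimal polynomial of `η` are conjugate to multiplication by `η`. -/
theorem exists_model_iso [Finite E] (hB : Herm.IsHerm B) (h3 : finrank F V = 3) {J : Module.End F V}
    (hJ : ∀ x y, B (J x) y = B x (J y)) (hp : aeval J (minpoly F D.η) = 0) :
    ∃ e : E ≃ₗ[F] V, (∀ a b, B (e a) (e b) = D.form a b) ∧ ∀ a, e (D.η * a) = J (e a) := by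
  haveI : Nontrivial V := Module.nontrivial_of_finrank_pos (R := F) (by omega)
  haveI : Finite F := Finite.of_injective _ (algebraMap F E).injective
  obtain ⟨pb, hpb⟩ := D.exists_pb D.ηdeg
  let Φ : E →ₐ[F] Module.End F V := pb.lift J (by rw [hpb]; exact hp)
  have hΦ : Φ D.η = J := by rw [← hpb]; exact pb.lift_gen _ _
  have hadj := hom_adjoint (B := B) D.ψ D.ψbase Φ pb (by rw [hpb, D.ηfix, hΦ]; exact hJ)
  obtain ⟨x, hx⟩ := exists_ne (0 : V)
  let L : E →ₗ[F] V := (LinearMap.applyₗ x).comp Φ.toLinearMap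
  have hL : ∀ a, L a = Φ a x := fun a => rfl
  have hLinj : Function.Injective L := (injective_iff_map_eq_zero L).2 fun a ha => by
    by_contra ha0
    exact hx (hom_inj Φ ha0 ha)
  have hLs : Function.Surjective L := (LinearMap.injective_iff_surjective_of_finrank_eq_finrank (by
    rw [D.dim, h3])).1 hLinj
  let ℓ : E →ₗ[F] F := (B x).comp L
  have hℓψ : ∀ a, ℓ (D.ψ a) = σ (ℓ a) := fun a => by
    show B x (Φ (D.ψ a) x) = σ (B x (Φ a x))
    rw [← hadj, hB.symm]
  let R : E →ₗ[F] Module.Dual F E :=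
    { toFun := fun r => ℓ.comp (LinearMap.mulLeft F r)
      map_add' := fun r s => by ext a; simp [add_mul]
      map_smul' := fun c r => by ext a; simp [smul_mul_assoc] }
  have hR : ∀ r a, R r a = ℓ (r * a) := fun r a => rfl
  have hRinj : Function.Injective R := (injective_iff_map_eq_zero R).2 fun r hr => by
    by_contra hr0
    refine hx (hB.nondeg x fun y => ?_)
    obtain ⟨a, rfl⟩ := hLs y
    have := LinearMap.congr_fun hr (r⁻¹ * a)
    rwa [hR, ← mul_assoc, mul_inv_cancel₀ hr0, one_mul, LinearMap.zero_apply] at this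
  obtain ⟨r, hr⟩ := (LinearMap.injective_iff_surjective_of_finrank_eq_finrank
    (by rw [Subspace.dual_finrank_eq])).1 hRinj (Algebra.trace F E)
  have hr' : ∀ a, ℓ (r * a) = Algebra.trace F E a := fun a => by rw [← hR, hr]
  have hrfix : D.ψ r = r := hRinj (by
    ext a
    rw [hR, hR, hr', ← D.invol.invol a, ← map_mul, hℓψ, hr', D.invol.invol, D.trace_ψ, hB.invol])
  obtain ⟨s, hs⟩ := Herm.exists_norm D.invol hrfix
  have hs0 : s ≠ 0 := by
    rintro rfl
    rw [zero_mul] at hs
    have := hr' D.θ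
    rw [← hs, zero_mul, map_zero, D.one] at this
    exact zero_ne_one this
  let e := LinearEquiv.ofBijective (L.comp (LinearMap.mulRight F s))
    ⟨hLinj.comp (mul_left_injective₀ hs0), hLs.comp fun y => ⟨y * s⁻¹, inv_mul_cancel_right₀ hs0 y⟩⟩
  have he : ∀ a, e a = Φ (a * s) x := fun a => rfl
  refine ⟨e, fun a b => ?_, fun a => ?_⟩
  · rw [he, he, hadj, ← Module.End.mul_apply, ← map_mul, map_mul D.ψ, D.form_apply,
      show D.ψ a * D.ψ s * (b * s) = s * D.ψ s * (D.ψ a * b) by ring, hs, ← hr']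
    rfl
  · rw [he, he, mul_assoc, map_mul, Module.End.mul_apply, hΦ]

include D in
/-- An isometry with irreducible cubic annihilator commutes with a self-adjoint root. -/
theorem exists_root_of_irreducible [Finite E] (hB : Herm.IsHerm B) (h3 : finrank F V = 3) {g : V ≃ₗ[F] V}
    (hg : ∀ x y, B (g x) (g y) = B x y) {q : F[X]} (hqm : q.Monic) (hq : Irreducible q) (hd : q.natDegree = 3)
    (h0 : aeval (g : Module.End F V) q = 0) :
    ∃ J : Module.End F V, (∀ x y, B (J x) y = B x (J y)) ∧ aeval J (minpoly F D.η) = 0 ∧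
      (g : Module.End F V) * J = J * (g : Module.End F V) := by
  haveI : Nontrivial V := Module.nontrivial_of_finrank_pos (R := F) (by omega)
  haveI : Finite F := Finite.of_injective _ (algebraMap F E).injective
  haveI : Fact (Irreducible q) := ⟨hq⟩
  haveI : Module.Finite F (AdjoinRoot q) := (AdjoinRoot.powerBasis hq.ne_zero).finite
  have hfr : finrank F (AdjoinRoot q) = finrank F E := by
    rw [(AdjoinRoot.powerBasis hq.ne_zero).finrank, AdjoinRoot.powerBasis_dim, hd, D.dim]
  obtain ⟨em⟩ := FiniteField.nonempty_algHom_of_finrank_dvd (F := F) (K := AdjoinRoot q) (L := E) hfr.dvd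
  have hembij : Function.Bijective em :=
    ⟨em.toRingHom.injective, (LinearMap.injective_iff_surjective_of_finrank_eq_finrank hfr
      (f := em.toLinearMap)).1 em.toRingHom.injective⟩
  let eq := AlgEquiv.ofBijective em hembij
  set μ := em (AdjoinRoot.root q) with hμdef
  have hμ0 : aeval μ q = 0 := by rw [hμdef, aeval_algHom_apply, AdjoinRoot.aeval_eq, AdjoinRoot.mk_self, map_zero]
  have hmin : minpoly F μ = q := (minpoly.eq_of_irreducible_of_monic hq hμ0 hqm).symm
  obtain ⟨pb, hpb⟩ := D.exists_pb (show (minpoly F μ).natDegree = 3 by rw [hmin, hd])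
  let Φ : E →ₐ[F] Module.End F V := pb.lift (g : Module.End F V) (by rw [hpb, hmin]; exact h0)
  have hΦ : Φ μ = (g : Module.End F V) := by rw [← hpb]; exact pb.lift_gen _ _
  have hμne : μ ≠ 0 := by
    intro e
    rw [e, map_zero] at hΦ
    obtain ⟨v, hv⟩ := exists_ne (0 : V)
    exact hv (g.map_eq_zero_iff.1 (LinearMap.congr_fun hΦ.symm v))
  have hΦi : Φ μ⁻¹ = (g.symm : Module.End F V) := by
    refine LinearMap.ext fun y => ?_
    have := congrArg (fun T : Module.End F V => T (g.symm y)) (map_mul Φ μ⁻¹ μ)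
    rw [inv_mul_cancel₀ hμne, map_one, hΦ] at this
    simpa using this.symm
  have hroot : eval₂ ((algebraMap F E).comp σ) μ⁻¹ q = 0 := by
    rw [← eval₂_map, ← aeval_def]
    by_contra hne
    obtain ⟨v, hv⟩ := exists_ne (0 : V)
    refine hv (hom_inj Φ hne ?_)
    rw [← aeval_algHom_apply, hΦi, eval_map_inv_eq_zero hB hg h0, LinearMap.zero_apply]
  let η : E →+* E := (AdjoinRoot.lift ((algebraMap F E).comp σ) μ⁻¹ hroot).comp eq.symm.toRingEquiv.toRingHom
  have hηb : ∀ a, η (algebraMap F E a) = algebraMap F E (σ a) := fun a => by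
    show AdjoinRoot.lift _ _ hroot (eq.symm (algebraMap F E a)) = _
    rw [AlgEquiv.commutes, AdjoinRoot.algebraMap_eq]
    exact AdjoinRoot.lift_of hroot
  have hημ : η μ = μ⁻¹ := by
    show AdjoinRoot.lift _ _ hroot (eq.symm (eq (AdjoinRoot.root q))) = _
    rw [AlgEquiv.symm_apply_apply]
    exact AdjoinRoot.lift_root hroot
  have hηc : ∀ a, η (η (algebraMap F E a)) = algebraMap F E a := fun a => by rw [hηb, hηb, hB.invol]
  let ηη : E →ₐ[F] E := { η.comp η with commutes' := hηc }
  have hηη : ∀ a, η (η a) = a := fun a => AlgHom.congr_fun (pb.algHom_ext (f := ηη) (g := AlgHom.id F E) (by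
    rw [hpb]
    show η (η μ) = μ
    rw [hημ, map_inv₀, hημ, inv_inv])) a
  have hαc : ∀ a, D.ψ (η (algebraMap F E a)) = algebraMap F E a := fun a => by rw [hηb, D.ψbase, hB.invol]
  let α : E →ₐ[F] E := { D.ψ.comp η with commutes' := hαc }
  let αe : E ≃ₐ[F] E := AlgEquiv.ofBijective α
    (Finite.injective_iff_bijective.1 α.toRingHom.injective)
  have hsq : αe * αe = 1 := AlgEquiv.ext fun a => by
    show D.ψ (η (D.ψ (η a))) = a
    rw [D.ψpow (η a), map_pow, hηη, ← D.ψpow, D.invol.invol]
  have hcube : αe ^ 3 = 1 := by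
    have := pow_card_eq_one' (G := (E ≃ₐ[F] E)) (x := αe)
    rwa [IsGalois.card_aut_eq_finrank, D.dim] at this
  have hone : αe = 1 := by rwa [pow_succ, pow_two, hsq, one_mul] at hcube
  have hψμ : D.ψ μ = μ⁻¹ := by
    have h1 : D.ψ (η μ) = μ := AlgEquiv.congr_fun hone μ
    rw [hημ, map_inv₀] at h1
    rw [← inv_inv (D.ψ μ), h1]
  have hadj := hom_adjoint (B := B) D.ψ D.ψbase Φ pb (by
    rw [hpb, hψμ, hΦ, hΦi]
    exact iso_symm hg)
  refine ⟨Φ D.η, fun x y => by rw [hadj, D.ηfix], by rw [aeval_algHom_apply, minpoly.aeval, map_zero], ?_⟩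
  rw [← hΦ, ← map_mul, ← map_mul, mul_comm]

end Field

end Cfsg.Agent.Covering2.Unit
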