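import Cfsg.Agent.Covering2.Lift
import Cfsg.Agent.Classical.HermGroup
import Mathlib

/-!
Elementary facts on Hermitian spaces over finite fields used for the coverings: no isometry has an
irreducible annihilating polynomial of even degree, and the passage between matrices and isometries.
-/

set_option autoImplicit false

namespace Cfsg.Agent.Covering2.Unit

open Polynomial Module Cfsg.Agent.Classical

section Abstract

variable {F V : Type*} [Field F] [AddCommGroup V] [Module F V] {σ : F →+* F}
variable {B : V →ₛₗ[σ] V →ₗ[F] F}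

theorem herm_symm_zero (h : Herm.IsHerm B) {x y : V} (e : B x y = 0) : B y x = 0 := (Herm.eq_zero_comm h).1 e

/-- Moving a polynomial to the other side of the form. -/
theorem adjoint_aeval {S T : Module.End F V} (hST : ∀ x y, B (S x) y = B x (T y)) (p : F[X]) (x y : V) :
    B (aeval S p x) y = B x (aeval T (p.map σ) y) := by
  induction p using Polynomial.induction_on' with
  | add a b ha hb => simp [map_add, Polynomial.map_add, ha, hb]
  | monomial k c =>
    have hk : ∀ k x y, B ((S ^ k) x) y = B x ((T ^ k) y) := by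
      intro k
      induction k with
      | zero => intro x y; rfl
      | succ k ih => intro x y; rw [pow_succ S, pow_succ' T, Module.End.mul_apply, Module.End.mul_apply, ih, hST]
    simp [aeval_monomial, Polynomial.map_monomial, hk, map_smulₛₗ]

theorem iso_symm {g : V ≃ₗ[F] V} (hg : ∀ x y, B (g x) (g y) = B x y) (x y : V) : B (g x) y = B x (g.symm y) := by
  rw [← hg x (g.symm y), LinearEquiv.apply_symm_apply]

theorem eval_map_inv_eq_zero [Finite F] [FiniteDimensional F V] [Nontrivial V] (h : Herm.IsHerm B)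
    {g : V ≃ₗ[F] V} (hg : ∀ x y, B (g x) (g y) = B x y) {q : F[X]}
    (h0 : aeval (g : Module.End F V) q = 0) : aeval (g.symm : Module.End F V) (q.map σ) = 0 := by
  refine LinearMap.ext fun y => h.nondeg _ fun x => ?_
  refine herm_symm_zero h ?_
  rw [← adjoint_aeval (B := B) (S := (g : Module.End F V)) (T := (g.symm : Module.End F V)) (iso_symm hg), h0]
  simp

/-- An isometry is not annihilated by an irreducible polynomial of even degree. -/
theorem no_even_irreducible [Finite F] [FiniteDimensional F V] [Nontrivial V] (h : Herm.IsHerm B)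
    {g : V ≃ₗ[F] V} (hg : ∀ x y, B (g x) (g y) = B x y) {q : F[X]} (hq : Irreducible q)
    (hd : Even q.natDegree) (h0 : aeval (g : Module.End F V) q = 0) : False := by
  obtain ⟨v, hv⟩ := exists_ne (0 : V)
  haveI : Fact (Irreducible q) := ⟨hq⟩
  haveI : Module.Finite F (AdjoinRoot q) := (AdjoinRoot.powerBasis hq.ne_zero).finite
  haveI : Finite (AdjoinRoot q) := Module.finite_of_finite F
  have hnd : ∀ m : F[X], aeval (g : Module.End F V) m = 0 → q ∣ m := by
    intro m hm
    by_contra hndvd
    obtain ⟨a, b, hab⟩ := hq.coprime_iff_not_dvd.2 hndvd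
    have := congrArg (fun p => aeval (g : Module.End F V) p v) hab
    simp [h0, hm] at this
    exact hv this.symm
  -- the root is invertible
  set ρ := AdjoinRoot.root q
  have hρ : ρ ≠ 0 := by
    intro e
    have hX : q ∣ X := AdjoinRoot.mk_eq_zero.1 (by rw [AdjoinRoot.mk_X]; exact e)
    obtain ⟨c, hc⟩ := hX
    have := congrArg (fun p => aeval (g : Module.End F V) p v) hc
    simp [h0] at this
    exact hv this
  obtain ⟨r, hr⟩ := AdjoinRoot.mk_surjective ρ⁻¹
  have hrg : aeval (g : Module.End F V) r = (g.symm : Module.End F V) := by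
    have e : AdjoinRoot.mk q (r * X - 1) = 0 := by
      rw [map_sub, map_mul, hr, AdjoinRoot.mk_X, map_one, inv_mul_cancel₀ hρ, sub_self]
    obtain ⟨c, hc⟩ := AdjoinRoot.mk_eq_zero.1 e
    refine LinearMap.ext fun y => ?_
    have := congrArg (fun p => aeval (g : Module.End F V) p (g.symm y)) hc
    simp [h0, sub_eq_zero] at this
    simpa using this
  have hroot : eval₂ ((AdjoinRoot.of q).comp σ) ρ⁻¹ q = 0 := by
    rw [← eval₂_map, ← hr, show eval₂ (AdjoinRoot.of q) (AdjoinRoot.mk q r) (q.map σ) =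
      aeval (AdjoinRoot.mk q r) (q.map σ) from rfl]
    refine aeval_mk_of_dvd (hnd _ ?_)
    rw [aeval_comp, hrg]
    exact eval_map_inv_eq_zero h hg h0
  let ψ : AdjoinRoot q →+* AdjoinRoot q := AdjoinRoot.lift ((AdjoinRoot.of q).comp σ) ρ⁻¹ hroot
  have hψof : ∀ a, ψ (AdjoinRoot.of q a) = AdjoinRoot.of q (σ a) := fun a => AdjoinRoot.lift_of hroot
  have hψρ : ψ ρ = ρ⁻¹ := AdjoinRoot.lift_root hroot
  have hinv : Herm.IsInvol ψ := by
    refine ⟨fun e => ?_, fun x => ?_⟩
    · obtain ⟨b, hb⟩ := Herm.exists_moved h.toIsInvol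
      have := hψof b
      rw [e, RingHom.id_apply] at this
      exact hb ((AdjoinRoot.of q).injective this).symm
    · obtain ⟨p, rfl⟩ := AdjoinRoot.mk_surjective x
      induction p using Polynomial.induction_on with
      | C a => rw [AdjoinRoot.mk_C, hψof, hψof, h.invol]
      | add a b ha hb => rw [map_add, map_add, map_add, ha, hb]
      | monomial k a ih =>
        rw [pow_succ, ← mul_assoc, map_mul, map_mul, map_mul, ih, AdjoinRoot.mk_X, hψρ, map_inv₀, hψρ, inv_inv]
  classical
  haveI := Fintype.ofFinite (AdjoinRoot q)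
  set q₀ := Nat.card (Herm.fixField σ)
  set N := Nat.card (Herm.fixField ψ)
  obtain ⟨e, he⟩ := hd
  have hF : Nat.card F = q₀ ^ 2 := Herm.card_eq_fix_sq h.toIsInvol
  have hN : N = Nat.card F ^ e := by
    refine Nat.pow_left_injective (n := 2) (by norm_num) ?_
    show N ^ 2 = (Nat.card F ^ e) ^ 2
    rw [← Herm.card_eq_fix_sq hinv, Module.natCard_eq_pow_finrank (K := F),
      (AdjoinRoot.powerBasis hq.ne_zero).finrank, AdjoinRoot.powerBasis_dim, he, ← pow_mul]
    ring_nf
  have hN1 : 1 < N := Finite.one_lt_card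
  let S : Finset (AdjoinRoot q) := Finset.univ.filter fun x => x ^ N = x
  have hS : S.card ≤ N := by
    have hX : (X ^ N - X : (AdjoinRoot q)[X]) ≠ 0 := FiniteField.X_pow_card_sub_X_ne_zero _ hN1
    calc S.card ≤ (X ^ N - X : (AdjoinRoot q)[X]).roots.toFinset.card := Finset.card_le_card fun x hx => by
          rw [Multiset.mem_toFinset, mem_roots hX]
          simp [(Finset.mem_filter.1 hx).2]
      _ ≤ _ := Multiset.toFinset_card_le _
      _ ≤ _ := (card_roots' _).trans (by rw [FiniteField.X_pow_card_sub_X_natDegree_eq _ hN1])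
  let T : Finset (AdjoinRoot q) := Finset.univ.filter fun x => ψ x = x
  have hT : T.card = N := by
    rw [show N = Nat.card {x : AdjoinRoot q // ψ x = x} from Nat.card_congr (Equiv.subtypeEquivRight fun x => Iff.rfl),
      Nat.card_eq_fintype_card, Fintype.card_subtype]
  have hTS : T ⊆ S := fun x hx => Finset.mem_filter.2 ⟨Finset.mem_univ _, by
    haveI := Fintype.ofFinite (Herm.fixField ψ)
    have := FiniteField.pow_card (⟨x, (Finset.mem_filter.1 hx).2⟩ : Herm.fixField ψ)
    rw [← Nat.card_eq_fintype_card] at this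
    exact congrArg Subtype.val this⟩
  have hTS' : T = S := Finset.eq_of_subset_of_card_le hTS (hS.trans hT.ge)
  obtain ⟨b, hb⟩ := Herm.exists_moved h.toIsInvol
  apply hb
  have hbS : AdjoinRoot.of q b ∈ S := Finset.mem_filter.2 ⟨Finset.mem_univ _, by
    haveI := Fintype.ofFinite F
    rw [← map_pow, hN, Nat.card_eq_fintype_card, FiniteField.pow_card_pow]⟩
  rw [← hTS'] at hbS
  have := (Finset.mem_filter.1 hbS).2
  rw [hψof] at this
  exact (AdjoinRoot.of q).injective this

/-- The restriction of the form to a subspace. -/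
def restrictForm (B : V →ₛₗ[σ] V →ₗ[F] F) (W : Submodule F V) : W →ₛₗ[σ] W →ₗ[F] F where
  toFun x := (B x).comp W.subtype
  map_add' x y := by ext; simp
  map_smul' c x := by ext; simp [map_smulₛₗ]

theorem restrictForm_apply (W : Submodule F V) (x y : W) : restrictForm B W x y = B x y := rfl

theorem restrictForm_herm (h : Herm.IsHerm B) {W : Submodule F V} (hW : ∀ x ∈ W, (∀ y ∈ W, B x y = 0) → x = 0) :
    Herm.IsHerm (restrictForm B W) :=
  { toIsInvol := h.toIsInvol
    symm := fun x y => h.symm x y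
    nondeg := fun x hx => Subtype.ext (hW x x.2 fun y hy => hx ⟨y, hy⟩) }

/-- An isometry of a nondegenerate plane has an eigenvector. -/
theorem exists_eigen_of_two [Finite F] [FiniteDimensional F V] (h : Herm.IsHerm B) (h2 : finrank F V = 2)
    {g : V ≃ₗ[F] V} (hg : ∀ x y, B (g x) (g y) = B x y) : ∃ v : V, v ≠ 0 ∧ ∃ μ : F, g v = μ • v := by
  haveI : Nontrivial V := Module.nontrivial_of_finrank_pos (R := F) (by omega)
  by_cases hr : ∃ c, (g : Module.End F V).charpoly.IsRoot c
  · obtain ⟨c, hc⟩ := hr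
    rw [← Module.End.hasEigenvalue_iff_isRoot_charpoly] at hc
    obtain ⟨v, hv⟩ := hc.exists_hasEigenvector
    exact ⟨v, hv.2, c, hv.apply_eq_smul⟩
  exfalso
  have hdeg : (g : Module.End F V).charpoly.natDegree = 2 := by rw [LinearMap.charpoly_natDegree, h2]
  refine no_even_irreducible h hg ?_ (by rw [hdeg]; exact even_two) (LinearMap.aeval_self_charpoly _)
  exact (irreducible_iff_roots_eq_zero_of_degree_le_three (by omega) (by omega)).2
    (Multiset.eq_zero_of_forall_notMem fun c hc => hr ⟨c, isRoot_of_mem_roots hc⟩)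

end Abstract

section Matrices

variable {F : Type} [Field F] {σ : F →+* F} {n q : ℕ}

/-- The linear equivalence of an element of the special unitary group. -/
noncomputable def suLin (g : Cfsg.SU n F q) : (Fin n → F) ≃ₗ[F] (Fin n → F) :=
  Matrix.SpecialLinearGroup.toLin' g.1

theorem suLin_apply (g : Cfsg.SU n F q) (v : Fin n → F) :
    suLin g v = (g.1 : Matrix (Fin n) (Fin n) F).mulVec v := rfl

theorem suLin_mul (x y : Cfsg.SU n F q) (v : Fin n → F) : suLin (x * y) v = suLin x (suLin y v) := by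
  simp [suLin, map_mul]

theorem suLin_inv_self (x : Cfsg.SU n F q) (v : Fin n → F) : suLin x⁻¹ (suLin x v) = v := by
  rw [← suLin_mul, inv_mul_cancel]
  simp [suLin]

theorem suLin_self_inv (x : Cfsg.SU n F q) (v : Fin n → F) : suLin x (suLin x⁻¹ v) = v := by
  rw [← suLin_mul, mul_inv_cancel]
  simp [suLin]

theorem suLin_iso (hσq : ∀ x, σ x = x ^ q) (g : Cfsg.SU n F q) (u v : Fin n → F) :
    hermB n σ (suLin g u) (suLin g v) = hermB n σ u v :=
  (mem_SU_iff hσq g.1).1 g.2 u v

theorem exists_su (hσq : ∀ x, σ x = x ^ q) (e : (Fin n → F) ≃ₗ[F] (Fin n → F))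
    (he : ∀ u v, hermB n σ (e u) (e v) = hermB n σ u v)
    (hdet : LinearMap.det (e : (Fin n → F) →ₗ[F] (Fin n → F)) = 1) :
    ∃ x : Cfsg.SU n F q, ∀ v, suLin x v = e v := by
  refine ⟨⟨⟨LinearMap.toMatrix' (e : (Fin n → F) →ₗ[F] (Fin n → F)), by rw [LinearMap.det_toMatrix', hdet]⟩,
    (mem_SU_iff hσq _).2 fun u v => ?_⟩, fun v => ?_⟩
  · rw [LinearMap.toMatrix'_mulVec, LinearMap.toMatrix'_mulVec]
    exact he u v
  · exact LinearMap.toMatrix'_mulVec (e : (Fin n → F) →ₗ[F] (Fin n → F)) v

theorem det_norm_one [Finite F] (hσ : Herm.IsInvol σ) (hσq : ∀ x, σ x = x ^ q)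
    (e : (Fin n → F) ≃ₗ[F] (Fin n → F)) (he : ∀ u v, hermB n σ (e u) (e v) = hermB n σ u v) :
    LinearMap.det (e : (Fin n → F) →ₗ[F] (Fin n → F)) * σ (LinearMap.det (e : (Fin n → F) →ₗ[F] (Fin n → F))) = 1 := by
  let M := LinearMap.toMatrix' (e : (Fin n → F) →ₗ[F] (Fin n → F))
  have hM : M.det = LinearMap.det (e : (Fin n → F) →ₗ[F] (Fin n → F)) := LinearMap.det_toMatrix' _
  let g : GL (Fin n) F := Matrix.GeneralLinearGroup.mkOfDetNeZero M (by
    rw [hM]; exact (LinearEquiv.isUnit_det' e).ne_zero)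
  have hg : g ∈ Cfsg.GU n F q := (mem_GU_iff hσq g).2 fun u v => by
    show hermB n σ (M.mulVec u) (M.mulVec v) = _
    simp only [M, LinearMap.toMatrix'_mulVec]
    exact he u v
  rw [← hM]
  exact det_norm_GU hσq hg

theorem su_center_scalar [Fintype F] (hσ : Herm.IsInvol σ) (hσq : ∀ x, σ x = x ^ q)
    (hq : Nat.card (Herm.fixField σ) = q) (hn : 2 ≤ n) {z : Cfsg.SU n F q}
    (hz : z ∈ Subgroup.center (Cfsg.SU n F q)) : ∃ a : F, ∀ v, suLin z v = a • v := by
  obtain ⟨a, ha⟩ := center_SU_scalar hσ hσq hq hn hz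
  exact ⟨a, fun v => by rw [suLin_apply, ha, Matrix.scalar_apply, ← Matrix.smul_one_eq_diagonal,
    Matrix.smul_mulVec, Matrix.one_mulVec]⟩

end Matrices

end Cfsg.Agent.Covering2.Unit
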